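import Mathlib

/-!
# Two lower bounds for invariant subgroups of an elementary abelian 2-group

`p` is a fixed-point-free map of order three with `v * p v * p (p v) = 1`.
* a subgroup invariant under `b` (of order three, commuting with `p`), `p`, `a` with
  `a ∘ b = b ∘ p ∘ a` has order at least `64` unless trivial;
* a subgroup of order at least `64` in a group of order `2^12`, invariant under `x` (of order five),
  `p` and `y` with `y ∘ x = x ∘ x ∘ y`, contains every `x v * v`.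
-/

set_option autoImplicit false

namespace Cfsg.Agent.Lib.J4Big.Bound

variable {V : Type*} [CommGroup V]

/-- Fixed points of `c` inside `N`. -/
def fixIn (N : Subgroup V) (c : V →* V) : Subgroup V where
  carrier := {v | v ∈ N ∧ c v = v}
  one_mem' := ⟨one_mem N, map_one c⟩
  mul_mem' := by rintro a b ⟨ha, ha'⟩ ⟨hb, hb'⟩; exact ⟨mul_mem ha hb, by rw [map_mul, ha', hb']⟩
  inv_mem' := by rintro a ⟨ha, ha'⟩; exact ⟨inv_mem ha, by rw [map_inv, ha']⟩

theorem mem_fixIn {N : Subgroup V} {c : V →* V} {v : V} : v ∈ fixIn N c ↔ v ∈ N ∧ c v = v :=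
  Iff.rfl

variable (hsq : ∀ v : V, v * v = 1) (p : V →* V) (hrel : ∀ v, v * p v * p (p v) = 1)
  (hfix : ∀ v, p v = v → v = 1)

include hrel in
theorem p_cube (v : V) : p (p (p v)) = v := by
  have h1 := hrel v
  have h2 := hrel (p v)
  have : v * p v * p (p v) = p v * p (p v) * p (p (p v)) := h1.trans h2.symm
  rw [mul_assoc, mul_comm (p v * p (p v))] at this
  exact (mul_right_cancel this).symm

include hsq hfix hrel in
/-- A nontrivial `p`-invariant subgroup has at least four elements. -/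
theorem four_le [Finite V] {X : Subgroup V} (hp : ∀ v ∈ X, p v ∈ X) {v : V} (hv : v ∈ X)
    (h1 : v ≠ 1) : 4 ≤ Nat.card ↥X := by
  classical
  have hpv : p v ≠ v := fun h => h1 (hfix v h)
  have hpv1 : p v ≠ 1 := fun h => h1 (by
    have := hrel v
    rwa [h, mul_one, map_one, mul_one] at this)
  have hne : v * p v ≠ 1 := fun h => hpv (by
    rw [← mul_left_cancel_iff (a := v), h, hsq])
  have hsub : ({1, v, p v, v * p v} : Set V) ⊆ (X : Set V) := by
    rintro w (rfl | rfl | rfl | rfl)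
    · exact one_mem X
    · exact hv
    · exact hp v hv
    · exact mul_mem hv (hp v hv)
  have h4 : ({1, v, p v, v * p v} : Set V).ncard = 4 := by
    rw [Set.ncard_insert_of_notMem (by simp [Ne.symm h1, Ne.symm hpv1, Ne.symm hne]),
      Set.ncard_insert_of_notMem (by simp [Ne.symm hpv, hpv1]),
      Set.ncard_pair (by simpa using h1)]
  rw [← SetLike.coe_sort_coe, Nat.card_coe_set_eq, ← h4]
  exact Set.ncard_le_ncard hsub

include hsq hfix hrel in
/-- The bound sixty-four. -/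
theorem sixty_four_le [Finite V] (b a : V →* V) (hb : ∀ v, b (b (b v)) = v)
    (hbp : ∀ v, b (p v) = p (b v)) (hap : ∀ v, a (p v) = p (a v))
    (hab : ∀ v, a (b v) = b (p (a v))) (ha : Function.Injective a)
    (N : Subgroup V) (hNp : ∀ v ∈ N, p v ∈ N) (hNb : ∀ v ∈ N, b v ∈ N) (hNa : ∀ v ∈ N, a v ∈ N)
    {w : V} (hw : w ∈ N) (hw1 : w ≠ 1) : 64 ≤ Nat.card ↥N := by
  classical
  set C0 := fixIn N b with hC0
  set C1 := fixIn N (b.comp p) with hC1
  set C2 := fixIn N (b.comp (p.comp p)) with hC2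
  have p3 := p_cube p hrel
  -- the three subgroups are permuted by `a`
  have m01 : ∀ v ∈ C0, a v ∈ C1 := fun v hv => ⟨hNa v hv.1, by
    show b (p (a v)) = a v
    rw [← hab, hv.2]⟩
  have m12 : ∀ v ∈ C1, a v ∈ C2 := fun v hv => ⟨hNa v hv.1, by
    show b (p (p (a v))) = a v
    rw [← hap, ← hab]
    exact congrArg a hv.2⟩
  have m20 : ∀ v ∈ C2, a v ∈ C0 := fun v hv => ⟨hNa v hv.1, by
    have h : a (b (p (p v))) = a v := congrArg a hv.2
    rw [hab, hap, hap, p3] at h
    exact h⟩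
  have inv : ∀ c : V →* V, (∀ v, c (p v) = p (c v)) → ∀ v ∈ fixIn N c, p v ∈ fixIn N c :=
    fun c hc v hv => ⟨hNp v hv.1, by rw [hc, hv.2]⟩
  have hp0 := inv b hbp
  have hp1 := inv (b.comp p) (fun v => by simp [hbp])
  have hp2 := inv (b.comp (p.comp p)) (fun v => by simp [hbp])
  have amap : ∀ v, v ≠ 1 → a v ≠ 1 := fun v hv h => hv (ha (h.trans (map_one a).symm))
  -- one of them is nontrivial
  have hex : ∃ v ∈ C0, v ≠ 1 := by
    set e0 := w * b w * b (b w) with he0
    set e1 := w * b (p w) * b (p (b (p w))) with he1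
    set e2 := w * b (p (p w)) * b (p (p (b (p (p w))))) with he2
    have mem : ∀ c : V →* V, (∀ v ∈ N, c v ∈ N) → (∀ v, c (c (c v)) = v) →
        w * c w * c (c w) ∈ fixIn N c := fun c hc h3 =>
      ⟨mul_mem (mul_mem hw (hc w hw)) (hc _ (hc w hw)), by
        rw [map_mul, map_mul, h3, mul_comm, mul_assoc]⟩
    have h0 : e0 ∈ C0 := mem b hNb hb
    have h1 : e1 ∈ C1 := mem (b.comp p) (fun v hv => hNb _ (hNp _ hv)) fun v => by
      simp only [MonoidHom.comp_apply, ← hbp, hb, p3]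
    have h2 : e2 ∈ C2 := mem (b.comp (p.comp p))
      (fun v hv => hNb _ (hNp _ (hNp _ hv))) fun v => by
      simp only [MonoidHom.comp_apply, ← hbp, hb, p3]
    have hprod : e0 * e1 * e2 = w := by
      have ra := hrel (b w)
      have rb := hrel (b (b w))
      simp only [he0, he1, he2, ← hbp, p3] at ra rb ⊢
      calc w * b w * b (b w) * (w * b (p w) * b (b (p (p w)))) * (w * b (p (p w)) * b (b (p w)))
          = (w * w) * w * (b w * b (p w) * b (p (p w))) *
              (b (b w) * b (b (p w)) * b (b (p (p w)))) := by ac_rfl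
        _ = w := by rw [ra, rb, hsq, one_mul, mul_one, mul_one]
    by_cases c0 : e0 = 1
    · by_cases c1 : e1 = 1
      · have c2 : e2 ≠ 1 := fun c2 => hw1 (by rw [← hprod, c0, c1, c2, one_mul, one_mul])
        exact ⟨a e2, m20 _ h2, amap _ c2⟩
      · exact ⟨a (a e1), m20 _ (m12 _ h1), amap _ (amap _ c1)⟩
    · exact ⟨e0, h0, c0⟩
  obtain ⟨v, hv, hv1⟩ := hex
  have g0 := four_le hsq p hrel hfix hp0 hv hv1
  have g1 := four_le hsq p hrel hfix hp1 (m01 _ hv) (amap _ hv1)
  have g2 := four_le hsq p hrel hfix hp2 (m12 _ (m01 _ hv)) (amap _ (amap _ hv1))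
  let f : ↥C0 × ↥C1 × ↥C2 → ↥N := fun x =>
    ⟨x.1 * x.2.1 * x.2.2, mul_mem (mul_mem x.1.2.1 x.2.1.2.1) x.2.2.2.1⟩
  have key : ∀ u0 ∈ C0, ∀ u1 ∈ C1, ∀ u2 ∈ C2, u0 * u1 * u2 = 1 → u0 = 1 ∧ u1 = 1 := by
    intro u0 h0 u1 h1 u2 h2 h
    have E : ∀ u : V, ∀ c : V →* V, (∀ v, c (c (c v)) = v) → c u = u → u * c u * c (c u) = u :=
      fun u c _ hc => by rw [hc, hc, hsq, one_mul]
    have b1 : b u1 = p (p u1) := by
      have : p (p (b (p u1))) = p (p u1) := congrArg (fun t => p (p t)) h1.2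
      rwa [← hbp, ← hbp, p3] at this
    have b2 : b u2 = p u2 := by
      have : p (b (p (p u2))) = p u2 := congrArg p h2.2
      rwa [← hbp, p3] at this
    have z1 : u1 * b u1 * b (b u1) = 1 := by
      rw [b1, hbp, hbp, b1, p3, mul_right_comm]
      exact hrel u1
    have z2 : u2 * b u2 * b (b u2) = 1 := by
      rw [b2, hbp, b2]
      exact hrel u2
    have hu0 : u0 = 1 := by
      calc u0 = u0 * b u0 * b (b u0) := (E u0 b hb h0.2).symm
        _ = (u0 * u1 * u2) * (b u0 * b u1 * b u2) *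
              (b (b u0) * b (b u1) * b (b u2)) := by
            symm
            calc _ = (u0 * b u0 * b (b u0)) * (u1 * b u1 * b (b u1)) *
                  (u2 * b u2 * b (b u2)) := by ac_rfl
              _ = _ := by rw [z1, z2, mul_one, mul_one]
        _ = 1 := by
            have hb1 : b u0 * b u1 * b u2 = 1 := by rw [← map_mul, ← map_mul, h, map_one]
            have hb2 : b (b u0) * b (b u1) * b (b u2) = 1 := by
              rw [← map_mul, ← map_mul, hb1, map_one]
            rw [h, hb1, hb2, one_mul, one_mul]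
    refine ⟨hu0, ?_⟩
    rw [hu0, one_mul] at h
    have e12 : u1 = u2 := by
      rw [← mul_right_cancel_iff (a := u2), h, hsq]
    rw [e12] at b1
    have : p u2 = p (p u2) := b2.symm.trans b1
    have h4 : p u2 = 1 := hfix _ this.symm
    rw [e12, ← p3 u2, h4, map_one, map_one]
  have hinj : Function.Injective f := by
    rintro ⟨⟨x0, hx0⟩, ⟨x1, hx1⟩, x2, hx2⟩ ⟨⟨y0, hy0⟩, ⟨y1, hy1⟩, y2, hy2⟩ hh
    have hh' : x0 * x1 * x2 = y0 * y1 * y2 := congrArg Subtype.val hh
    have hz : (x0 * y0) * (x1 * y1) * (x2 * y2) = 1 := by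
      calc _ = (x0 * x1 * x2) * (y0 * y1 * y2) := by ac_rfl
        _ = 1 := by rw [hh', hsq]
    obtain ⟨k0, k1⟩ := key _ (mul_mem hx0 hy0) _ (mul_mem hx1 hy1) _ (mul_mem hx2 hy2) hz
    have e : ∀ s t : V, s * t = 1 → s = t := fun s t hst => by
      rw [← mul_right_cancel_iff (a := t), hst, hsq]
    obtain rfl := e _ _ k0
    obtain rfl := e _ _ k1
    obtain rfl := mul_left_cancel hh'
    rfl
  have hc := Nat.card_le_card_of_injective f hinj
  rw [Nat.card_prod, Nat.card_prod] at hc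
  calc 64 = 4 * (4 * 4) := by norm_num
    _ ≤ _ := Nat.mul_le_mul g0 (Nat.mul_le_mul g1 g2)
    _ ≤ _ := hc

/-- A finite set with a permutation of order five fixing exactly one point. -/
theorem card_modEq_five {X : Type*} [Finite X] (σ : Equiv.Perm X) (h5 : σ ^ 5 = 1) (x₀ : X)
    (hS : ∀ x, σ x = x ↔ x = x₀) : Nat.card X % 5 = 1 := by
  classical
  have := Fintype.ofFinite X
  have := Fact.mk Nat.prime_five
  have h := Equiv.Perm.card_compl_support_modEq (p := 5) (n := 1) (σ := σ) (by simpa using h5)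
  have e : (σ.supportᶜ : Finset X) = {x₀} := by
    ext x
    simp [hS]
  rw [e, Finset.card_singleton] at h
  rw [Nat.card_eq_fintype_card]
  exact h.symm

theorem two_pow_mod_five : ∀ i : ℕ, 2 ^ i % 5 = 1 → i % 4 = 0 := fun i h => by
  have key : 2 ^ i % 5 = 2 ^ (i % 4) % 5 := by
    conv_lhs => rw [← Nat.div_add_mod i 4, pow_add, pow_mul]
    rw [Nat.mul_mod, Nat.pow_mod]
    norm_num
  rw [key] at h
  have : i % 4 < 4 := Nat.mod_lt _ (by norm_num)
  interval_cases hi : i % 4 <;> simp_all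

include hsq hfix hrel in
/-- An invariant subgroup consists of fixed points or contains every `x v * v`. -/
theorem dichotomy [Finite V] (hV : Nat.card V = 2 ^ 12) (x y : V →* V)
    (hx5 : ∀ v, x (x (x (x (x v)))) = v) (hx : ∃ v, x v ≠ v) (hxp : ∀ v, x (p v) = p (x v))
    (hyp : ∀ v, y (p v) = p (y v)) (hy : Function.Injective y) (hyx : ∀ v, y (x v) = x (x (y v)))
    (M : Subgroup V) (hMx : ∀ v ∈ M, x v ∈ M) (hMp : ∀ v ∈ M, p v ∈ M) (hMy : ∀ v ∈ M, y v ∈ M) :
    ((∀ v ∈ M, x v = v) ∧ Nat.card ↥M ≤ 16) ∨ ∀ v, x v * v ∈ M := by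
  classical
  have p3 := p_cube p hrel
  have hinv : ∀ v : V, v⁻¹ = v := fun v => inv_eq_of_mul_eq_one_right (hsq v)
  have cancel : ∀ a b : V, a * b = 1 → a = b := fun a b h => by
    rw [← mul_right_cancel_iff (a := b), h, hsq]
  have p1 : ∀ v, p v * p (p v) = v := fun v =>
    (cancel _ _ (by rw [← mul_assoc]; exact hrel v)).symm
  have hpinj : Function.Injective p := fun a b h => by rw [← p3 a, h, p3]
  have hxinj : Function.Injective x := fun a b h => by rw [← hx5 a, h, hx5]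
  -- `s = x + x⁻¹`
  let s : V →* V := x * (x.comp (x.comp (x.comp x)))
  have hsapp : ∀ v, s v = x v * x (x (x (x v))) := fun v => rfl
  let Sx : V →* V := MonoidHom.id V * x * x.comp x * x.comp (x.comp x) * x.comp (x.comp (x.comp x))
  have hS5 : ∀ v, Sx v = v * x v * x (x v) * x (x (x v)) * x (x (x (x v))) := fun v => rfl
  have hs2 : ∀ v, s (s v) = x (x v) * x (x (x v)) := fun v => by
    simp only [hsapp, map_mul, hx5]
    calc x (x v) * v * (v * x (x (x v))) = (v * v) * (x (x v) * x (x (x v))) := by ac_rfl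
      _ = _ := by rw [hsq, one_mul]
  have hsS : ∀ v, v * s v * s (s v) = Sx v := fun v => by
    rw [hs2, hsapp, hS5]; ac_rfl
  have hsp : ∀ v, s (p v) = p (s v) := fun v => by simp only [hsapp, map_mul, hxp]
  have hsx : ∀ v, s (x v) = x (s v) := fun v => by simp only [hsapp, map_mul]
  let Kp : Subgroup V → Subgroup V := fun N => N ⊓ (MonoidHom.eqLocus s p)
  let Km : Subgroup V → Subgroup V := fun N => N ⊓ (MonoidHom.eqLocus s (p.comp p))
  have mKp : ∀ N v, v ∈ Kp N ↔ v ∈ N ∧ s v = p v := fun _ _ => Iff.rfl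
  have mKm : ∀ N v, v ∈ Km N ↔ v ∈ N ∧ s v = p (p v) := fun _ _ => Iff.rfl
  have kerp : ∀ v, s v = p v → Sx v = 1 := fun v h => by
    rw [← hsS, h, hsp, h]; exact hrel v
  have kerm : ∀ v, s v = p (p v) → Sx v = 1 := fun v h => by
    rw [← hsS, h, hsp, hsp, h, p3, mul_right_comm]; exact hrel v
  have fix1 : ∀ v, x v = v → Sx v = 1 → v = 1 := fun v hv h => by
    simp only [hS5, hv] at h
    rwa [hsq, one_mul, hsq, one_mul] at h
  have ysw : ∀ v, s (y v) = y (s (s v)) := fun v => by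
    rw [hs2, map_mul, hyx, hsapp, hyx, hyx, hyx, hyx]
    simp only [hx5]
    ac_rfl
  -- sizes
  have sizes : ∀ N : Subgroup V, (∀ v ∈ N, x v ∈ N) → (∀ v ∈ N, p v ∈ N) → (∀ v ∈ N, y v ∈ N) →
      (∀ v ∈ N, Sx v = 1 → v = 1) ∨ 256 ≤ Nat.card ↥(N ⊓ Sx.ker) ∧
        Nat.card ↥(N ⊓ Sx.ker) ≤ 256 := by
    intro N hNx hNp hNy
    have hNs : ∀ v ∈ N, s v ∈ N := fun v hv =>
      mul_mem (hNx v hv) (hNx _ (hNx _ (hNx _ (hNx _ hv))))
    have yKp : ∀ v ∈ Kp N, y v ∈ Km N := fun v hv => (mKm _ _).mpr ⟨hNy v hv.1, by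
      rw [ysw, show s v = p v from hv.2, hsp, show s v = p v from hv.2, hyp, hyp]⟩
    have yKm : ∀ v ∈ Km N, y v ∈ Kp N := fun v hv => (mKp _ _).mpr ⟨hNy v hv.1, by
      rw [ysw, show s v = p (p v) from hv.2, hsp, hsp, show s v = p (p v) from hv.2, p3, hyp]⟩
    have hle1 : Nat.card ↥(Kp N) ≤ Nat.card ↥(Km N) :=
      Nat.card_le_card_of_injective (fun v => ⟨y v.1, yKp v.1 v.2⟩) fun a b h =>
        Subtype.ext (hy (congrArg Subtype.val h))
    have hle2 : Nat.card ↥(Km N) ≤ Nat.card ↥(Kp N) :=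
      Nat.card_le_card_of_injective (fun v => ⟨y v.1, yKm v.1 v.2⟩) fun a b h =>
        Subtype.ext (hy (congrArg Subtype.val h))
    let f : ↥(Kp N) × ↥(Km N) → ↥(N ⊓ Sx.ker) := fun a =>
      ⟨a.1.1 * a.2.1, mul_mem a.1.2.1 a.2.2.1,
        show Sx _ = 1 by rw [map_mul, kerp _ a.1.2.2, kerm _ a.2.2.2, one_mul]⟩
    have hfb : Function.Bijective f := by
      constructor
      · rintro ⟨⟨a, ha⟩, b, hb⟩ ⟨⟨a', ha'⟩, b', hb'⟩ h
        have h' : a * b = a' * b' := congrArg Subtype.val h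
        have e : a * a' = b * b' := cancel _ _ (by
          calc a * a' * (b * b') = (a * b) * (a' * b') := by ac_rfl
            _ = 1 := by rw [h', hsq])
        have q1 : s (a * a') = p (a * a') := (mul_mem ha ha' : a * a' ∈ Kp N).2
        have q2 : s (b * b') = p (p (b * b')) := (mul_mem hb hb' : b * b' ∈ Km N).2
        rw [← e, q1] at q2
        have h1 : a * a' = 1 := hpinj ((hfix _ q2.symm).trans (map_one p).symm)
        obtain rfl := cancel _ _ h1
        obtain rfl := mul_left_cancel h'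
        rfl
      · rintro ⟨v, hv, hk⟩
        have hk' : v * s v * s (s v) = 1 := by rw [hsS]; exact hk
        have hss : s (s v) = v * s v := (cancel _ _ hk').symm
        refine ⟨(⟨s v * p (p v), (mKp _ _).mpr ⟨mul_mem (hNs v hv) (hNp _ (hNp _ hv)), ?_⟩⟩,
          ⟨s v * p v, (mKm _ _).mpr ⟨mul_mem (hNs v hv) (hNp _ hv), ?_⟩⟩), Subtype.ext ?_⟩
        · rw [map_mul, map_mul, hss, hsp, hsp, p3]
          calc v * s v * p (p (s v)) = (s v * p (p (s v))) * v := by ac_rfl
            _ = _ := by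
              congr 1
              exact cancel _ _ (by
                rw [mul_right_comm]
                exact hrel (s v))
        · rw [map_mul, map_mul, map_mul, hss, hsp, p3]
          calc v * s v * p (s v) = (s v * p (s v)) * v := by ac_rfl
            _ = _ := by
              congr 1
              exact cancel _ _ (hrel (s v))
        · show s v * p (p v) * (s v * p v) = v
          calc _ = (s v * s v) * (p v * p (p v)) := by ac_rfl
            _ = v := by rw [hsq, one_mul, p1]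
    have hcard : Nat.card ↥(Kp N) * Nat.card ↥(Km N) = Nat.card ↥(N ⊓ Sx.ker) := by
      rw [← Nat.card_prod]
      exact Nat.card_eq_of_bijective f hfb
    obtain ⟨d, hd⟩ : ∃ d, Nat.card ↥(Kp N) = 2 ^ d :=
      ((IsPGroup.of_card hV).to_subgroup _).exists_card_eq
    have hd4 : d % 4 = 0 := by
      refine two_pow_mod_five d (hd ▸ ?_)
      have hKx : ∀ v ∈ Kp N, x v ∈ Kp N := fun v hv => (mKp _ _).mpr ⟨hNx v hv.1, by
        rw [hsx, show s v = p v from hv.2, hxp]⟩
      let σ : Equiv.Perm ↥(Kp N) :=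
        { toFun := fun v => ⟨x v.1, hKx _ v.2⟩
          invFun := fun v => ⟨x (x (x (x v.1))), hKx _ (hKx _ (hKx _ (hKx _ v.2)))⟩
          left_inv := fun v => Subtype.ext (hx5 v.1)
          right_inv := fun v => Subtype.ext (hx5 v.1) }
      refine card_modEq_five σ ?_ 1 fun v => ⟨fun h => ?_, fun h => ?_⟩
      · refine Equiv.ext fun v => Subtype.ext ?_
        exact hx5 v.1
      · exact Subtype.ext (fix1 _ (congrArg Subtype.val h) (kerp _ v.2.2))
      · rw [h]; exact Subtype.ext (map_one x)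
    have heq := le_antisymm hle1 hle2
    have hle : Nat.card ↥(N ⊓ Sx.ker) ≤ 2 ^ 12 := hV ▸ Subgroup.card_le_card_group _
    rw [← hcard, ← heq, hd, ← pow_add] at hle
    have hd6 : d + d ≤ 12 := (Nat.pow_le_pow_iff_right (by norm_num)).mp hle
    rcases (show d = 0 ∨ d = 4 by omega) with rfl | rfl
    · left
      intro v hv hk
      have hone : Nat.card ↥(N ⊓ Sx.ker) = 1 := by rw [← hcard, ← heq, hd]; norm_num
      have hbot := Subgroup.card_eq_one.mp hone
      exact Subgroup.mem_bot.mp (hbot ▸ (⟨hv, hk⟩ : v ∈ N ⊓ Sx.ker))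
    · right
      rw [← hcard, ← heq, hd]
      norm_num
  let δ : V →* V := x * MonoidHom.id V
  have hδ : ∀ v, Sx (δ v) = 1 := fun v => by
    show Sx (x v * v) = 1
    simp only [map_mul, hS5, hx5]
    calc x v * v * (x (x v) * x v) * (x (x (x v)) * x (x v)) * (x (x (x (x v))) * x (x (x v))) *
        (v * x (x (x (x v))))
        = (x v * x v) * (x (x v) * x (x v)) * (x (x (x v)) * x (x (x v))) *
            (x (x (x (x v))) * x (x (x (x v)))) * (v * v) := by ac_rfl
      _ = 1 := by simp only [hsq]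
  obtain ⟨v₀, hv₀⟩ := hx
  have hV1 : 256 ≤ Nat.card ↥((⊤ : Subgroup V) ⊓ Sx.ker) ∧
      Nat.card ↥((⊤ : Subgroup V) ⊓ Sx.ker) ≤ 256 := by
    refine (sizes ⊤ (fun _ _ => trivial) (fun _ _ => trivial) fun _ _ => trivial).resolve_left
      fun h => hv₀ (cancel _ _ (h _ trivial (hδ v₀)))
  rcases sizes M hMx hMp hMy with h | ⟨h256, -⟩
  · left
    -- `M` consists of fixed points
    let Fx : Subgroup V := δ.ker
    have hMF : M ≤ Fx := fun v hv => h _ (mul_mem (hMx v hv) hv) (hδ v)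
    let g : ↥Fx × ↥((⊤ : Subgroup V) ⊓ Sx.ker) → V := fun a => a.1.1 * a.2.1
    have hg : Function.Injective g := by
      rintro ⟨⟨a, ha⟩, b, hb⟩ ⟨⟨a', ha'⟩, b', hb'⟩ hh
      have hh' : a * b = a' * b' := hh
      have e : a * a' = b * b' := cancel _ _ (by
        calc a * a' * (b * b') = (a * b) * (a' * b') := by ac_rfl
          _ = 1 := by rw [hh', hsq])
      have k1 : x (a * a') = a * a' := cancel _ _ (mul_mem ha ha' : a * a' ∈ Fx)
      have k2 : Sx (a * a') = 1 := e ▸ (mul_mem hb hb' : b * b' ∈ (⊤ : Subgroup V) ⊓ Sx.ker).2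
      obtain rfl := cancel _ _ (fix1 _ k1 k2)
      obtain rfl := mul_left_cancel hh'
      rfl
    have hc := Nat.card_le_card_of_injective g hg
    rw [Nat.card_prod, hV] at hc
    have := Subgroup.card_le_of_le hMF
    exact ⟨fun v hv => cancel _ _ (hMF hv), by nlinarith [hV1.1]⟩
  · right
    have heq : M ⊓ Sx.ker = (⊤ : Subgroup V) ⊓ Sx.ker :=
      Subgroup.eq_of_le_of_card_ge (inf_le_inf_right _ le_top) (hV1.2.trans h256)
    intro v
    exact (heq ▸ (⟨trivial, hδ v⟩ : δ v ∈ (⊤ : Subgroup V) ⊓ Sx.ker) : δ v ∈ M ⊓ Sx.ker).1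

include hsq hfix hrel in
/-- A large invariant subgroup contains every `x v * v`. -/
theorem commutator_le [Finite V] (hV : Nat.card V = 2 ^ 12) (x y : V →* V)
    (hx5 : ∀ v, x (x (x (x (x v)))) = v) (hx : ∃ v, x v ≠ v) (hxp : ∀ v, x (p v) = p (x v))
    (hyp : ∀ v, y (p v) = p (y v)) (hy : Function.Injective y) (hyx : ∀ v, y (x v) = x (x (y v)))
    (M : Subgroup V) (hMx : ∀ v ∈ M, x v ∈ M) (hMp : ∀ v ∈ M, p v ∈ M) (hMy : ∀ v ∈ M, y v ∈ M)
    (hM : 64 ≤ Nat.card ↥M) : ∀ v, x v * v ∈ M := by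
  rcases dichotomy hsq p hrel hfix hV x y hx5 hx hxp hyp hy hyx M hMx hMp hMy with ⟨-, h⟩ | h
  · omega
  · exact h

end Cfsg.Agent.Lib.J4Big.Bound
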