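import Cfsg.Agent.Lib.J4Big.Codes
import Cfsg.Agent.Lib.J4Local.AutLocal

/-!
# Conjugates of a coded subgroup of `Aut M22`: transition tables and keys
-/

set_option autoImplicit false
set_option linter.unusedSectionVars false

namespace Cfsg.Agent.Lib.J4Big.Codes

open Cfsg Cfsg.Agent.Lib.Golay Cfsg.Agent.Lib.Computation Cfsg.Agent.Lib.J4Local
open Cfsg.Agent.Lib.FusionAlperin.MathieuCert

/-- `c` is the canonical code of `u`. -/
def Rep (c : ℕ) (u : AutM22) : Prop :=
  okCode c = true ∧ canon c = c ∧ gperm c = (AutModel.toAut.symm u : Equiv.Perm GolayPt)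

theorem rep_good {c : ℕ} (h : good c = true) : Rep c (au c) := by
  obtain ⟨hb, e⟩ := au_of h
  refine ⟨(AutModel.inBig_spec hb).1, ?_, by rw [e, MulEquiv.symm_apply_apply]; rfl⟩
  simp only [good, Bool.and_eq_true, Nat.beq_eq] at h
  rw [← h.2]
  exact AutLocal.canon_mulP

theorem rep_mul {a b : ℕ} {u v : AutM22} (ha : Rep a u) (hb : Rep b v) :
    Rep (cmulC a b) (u * v) := by
  refine ⟨okCode_mulP ha.1 hb.1, AutLocal.canon_mulP, ?_⟩
  rw [map_mul, show cmulC a b = mulP 24 5 a b from rfl, gperm_mul ha.1 hb.1, ha.2.2, hb.2.2]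
  rfl

theorem rep_one : Rep oneCode 1 := au_one ▸ rep_good good_one

theorem rep_code {a b : ℕ} {u : AutM22} (ha : Rep a u) (hb : Rep b u) : a = b :=
  eq_of_gperm ha.1 hb.1 ha.2.1 hb.2.1 (ha.2.2.trans hb.2.2.symm)

theorem rep_val {c : ℕ} {u v : AutM22} (ha : Rep c u) (hb : Rep c v) : u = v :=
  AutModel.toAut.symm.injective (Subtype.ext (ha.2.2.symm.trans hb.2.2))

theorem rep_au {c : ℕ} {u : AutM22} (h : good c = true) (hc : Rep c u) : au c = u :=
  rep_val (rep_good h) hc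

/-- A pair of a code and the code of its inverse. -/
def pairOk (q : ℕ × ℕ) : Bool := good q.1 && good q.2 && Nat.beq (cmulC q.1 q.2) oneCode

theorem pairOk_spec {q : ℕ × ℕ} (h : pairOk q = true) :
    Rep q.1 (au q.1) ∧ Rep q.2 (au q.1)⁻¹ := by
  simp only [pairOk, Bool.and_eq_true, Nat.beq_eq] at h
  obtain ⟨⟨h1, h2⟩, h3⟩ := h
  refine ⟨rep_good h1, ?_⟩
  have := rep_mul (rep_good h1) (rep_good h2)
  rw [h3] at this
  rw [← eq_inv_of_mul_eq_one_right (rep_val this rep_one)]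
  exact rep_good h2

/-- The code of a conjugate. -/
def cj (q : ℕ × ℕ) (a : ℕ) : ℕ := cmulC (cmulC q.1 a) q.2

theorem rep_cj {q : ℕ × ℕ} (h : pairOk q = true) {a : ℕ} {u : AutM22} (ha : Rep a u) :
    Rep (cj q a) (au q.1 * u * (au q.1)⁻¹) :=
  rep_mul (rep_mul (pairOk_spec h).1 ha) (pairOk_spec h).2

theorem grpL_rep {L : List ℕ} (h : closedL L = true) {u : AutM22} :
    u ∈ grpL L ↔ ∃ c ∈ L, Rep c u := by
  rw [mem_grpL h]
  constructor
  · rintro ⟨c, hc, rfl⟩
    exact ⟨c, hc, rep_good ((closedL_spec h).1 c hc)⟩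
  · rintro ⟨c, hc, hr⟩
    exact ⟨c, hc, rep_au ((closedL_spec h).1 c hc) hr⟩

/-- The conjugate of a subgroup. -/
def mc (g : AutM22) (U : Subgroup AutM22) : Subgroup AutM22 := U.map (MulAut.conj g).toMonoidHom

theorem mc_mul (g h : AutM22) (U : Subgroup AutM22) : mc (g * h) U = mc g (mc h U) := by
  rw [mc, mc, mc, Subgroup.map_map]
  congr 1

theorem mc_one (U : Subgroup AutM22) : mc 1 U = U := by
  ext x
  constructor
  · rintro ⟨y, hy, rfl⟩
    simpa using hy
  · intro hx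
    exact ⟨x, hx, by simp⟩

theorem mem_mc {g x : AutM22} {U : Subgroup AutM22} : x ∈ mc g U ↔ g⁻¹ * x * g ∈ U := by
  constructor
  · rintro ⟨y, hy, rfl⟩
    simpa [mul_assoc] using hy
  · exact fun h => ⟨_, h, by simp [mul_assoc]⟩

theorem mc_eq_self {g : AutM22} {U : Subgroup AutM22}
    (h : g ∈ Subgroup.normalizer (U : Set AutM22)) : mc g U = U := by
  ext x
  rw [mem_mc, Subgroup.mem_normalizer_iff.mp h (g⁻¹ * x * g),
    show g * (g⁻¹ * x * g) * g⁻¹ = x by group]

theorem mem_normalizer_of_mc {g : AutM22} {U : Subgroup AutM22} (h : mc g U = U) :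
    g ∈ Subgroup.normalizer (U : Set AutM22) := by
  refine Subgroup.mem_normalizer_iff.mpr fun x => ?_
  conv_rhs => rw [← h, mem_mc]
  rw [show g⁻¹ * (g * x * g⁻¹) * g = x by group]

/-- The conjugates are as many as the index of the normaliser. -/
theorem ncard_conjugates (U : Subgroup AutM22) :
    Set.ncard {U' : Subgroup AutM22 | ∃ g : AutM22, U' = mc g U} =
      (Subgroup.normalizer (U : Set AutM22)).index := by
  let f : AutM22 ⧸ Subgroup.normalizer (U : Set AutM22) →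
      ↥{U' : Subgroup AutM22 | ∃ g : AutM22, U' = mc g U} :=
    Quotient.lift (fun g => ⟨mc g U, g, rfl⟩) fun a b hab => Subtype.ext (by
      have h := mc_eq_self (QuotientGroup.leftRel_apply.mp hab)
      show mc a U = mc b U
      conv_lhs => rw [← h]
      rw [← mc_mul, mul_inv_cancel_left])
  rw [← Nat.card_coe_set_eq, Subgroup.index_eq_card]
  refine (Nat.card_congr (Equiv.ofBijective f ⟨?_, ?_⟩)).symm
  · intro a b hab
    induction a using QuotientGroup.induction_on with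
    | H a =>
      induction b using QuotientGroup.induction_on with
      | H b =>
        refine QuotientGroup.eq.mpr (mem_normalizer_of_mc ?_)
        have h : mc a U = mc b U := congrArg Subtype.val hab
        rw [mc_mul, ← h, ← mc_mul, inv_mul_cancel, mc_one]
  · rintro ⟨_, g, rfl⟩
    exact ⟨(g : AutM22 ⧸ Subgroup.normalizer (U : Set AutM22)), rfl⟩

/-- The transition check: generator `k` times representative `j` is representative `T j k` up to
the normaliser. -/
def coverOk (L : List ℕ) (gs reps : List (ℕ × ℕ)) (T : List (List ℕ)) : Bool :=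
  reps.all pairOk && gs.all pairOk && Nat.beq reps.length T.length &&
    Nat.beq (reps.getD 0 (0, 0)).1 oneCode &&
    (List.range reps.length).all fun j => (List.range gs.length).all fun k =>
      let t := (T.getD j []).getD k 0
      Nat.blt t reps.length &&
        L.all fun a => mem L (cj ((reps.getD t (0, 0)).2, (reps.getD t (0, 0)).1)
          (cj (gs.getD k (0, 0)) (cj (reps.getD j (0, 0)) a)))

/-- The representative conjugate. -/
noncomputable def rmc (reps : List (ℕ × ℕ)) (U : Subgroup AutM22) (j : ℕ) : Subgroup AutM22 :=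
  mc (au (reps.getD j (0, 0)).1) U

theorem getD_ok {reps : List (ℕ × ℕ)} (h : ∀ q ∈ reps, pairOk q = true) {j : ℕ}
    (hj : j < reps.length) : pairOk (reps.getD j (0, 0)) = true := by
  rw [List.getD_eq_getElem _ _ hj]
  exact h _ (List.getElem_mem hj)

theorem cover_spec {L : List ℕ} (hL : closedL L = true) {gs reps : List (ℕ × ℕ)}
    {T : List (List ℕ)} (h : coverOk L gs reps T = true)
    (hgen : Subgroup.closure {a : AutM22 | ∃ q ∈ gs, au q.1 = a} = ⊤) (hne : 0 < reps.length)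
    (g : AutM22) : ∃ j < reps.length, mc g (grpL L) = rmc reps (grpL L) j := by
  simp only [coverOk, Bool.and_eq_true, List.all_eq_true, Nat.beq_eq, Nat.blt_eq, List.mem_range,
    mem_iff] at h
  obtain ⟨⟨⟨⟨hreps, hgs⟩, -⟩, hone⟩, hstep⟩ := h
  set U := grpL L with hU
  suffices H : ∀ j < reps.length, ∃ t < reps.length,
      mc g (rmc reps U j) = rmc reps U t by
    obtain ⟨t, ht, e⟩ := H 0 hne
    refine ⟨t, ht, ?_⟩
    rwa [show rmc reps U 0 = U by rw [rmc, hone, au_one, mc_one]] at e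
  have hg : g ∈ (Subgroup.closure {a : AutM22 | ∃ q ∈ gs, au q.1 = a}).toSubmonoid := by
    rw [hgen]; exact Subgroup.mem_top g
  rw [Subgroup.closure_toSubmonoid_of_finite] at hg
  induction hg using Submonoid.closure_induction with
  | one => exact fun j hj => ⟨j, hj, mc_one _⟩
  | mul a b _ _ iha ihb =>
    intro j hj
    obtain ⟨t, ht, e⟩ := ihb j hj
    obtain ⟨t', ht', e'⟩ := iha t ht
    exact ⟨t', ht', by rw [mc_mul, e, e']⟩
  | mem a ha =>
    obtain ⟨q, hq, rfl⟩ := ha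
    intro j hj
    obtain ⟨k, hk, rfl⟩ := List.mem_iff_getElem.mp hq
    obtain ⟨ht, hall⟩ := hstep j hj k hk
    set t := (T.getD j []).getD k 0
    refine ⟨t, ht, ?_⟩
    have hrj := getD_ok hreps hj
    have hrt := getD_ok hreps ht
    rw [List.getD_eq_getElem gs _ hk] at hall
    set s := au (gs[k]).1
    set r := au (reps.getD j (0, 0)).1 with hr
    set r' := au (reps.getD t (0, 0)).1 with hr'
    have key : ∀ u ∈ U, r'⁻¹ * s * r * u * (r'⁻¹ * s * r)⁻¹ ∈ U := by
      intro u hu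
      obtain ⟨c, hc, hcu⟩ := (grpL_rep hL).mp hu
      have h1 := rep_cj (hgs _ (List.getElem_mem hk)) (rep_cj hrj hcu)
      have h2 : Rep (cj ((reps.getD t (0, 0)).2, (reps.getD t (0, 0)).1)
          (cj gs[k] (cj (reps.getD j (0, 0)) c)))
          (r'⁻¹ * (s * (r * u * r⁻¹) * s⁻¹) * r') :=
        rep_mul (rep_mul (pairOk_spec hrt).2 h1) (pairOk_spec hrt).1
      refine (grpL_rep hL).mpr ⟨_, hall c hc, ?_⟩
      convert h2 using 1
      group
    have hn : mc (r'⁻¹ * s * r) U = U := by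
      refine Subgroup.eq_of_le_of_card_ge ?_ (le_of_eq ?_)
      · rintro _ ⟨u, hu, rfl⟩
        exact key u hu
      · exact (Subgroup.card_map_of_injective (MulAut.conj _).injective).symm
    show mc s (mc r U) = mc r' U
    conv_rhs => rw [← hn]
    rw [← mc_mul, ← mc_mul]
    congr 1
    group

/-- The key of a conjugate: the sum of its codes. -/
def keyOf (q : ℕ × ℕ) (L : List ℕ) : ℕ := (L.map (cj q)).sum

/-- The key after a further conjugation. -/
def keyOf2 (p q : ℕ × ℕ) (L : List ℕ) : ℕ := (L.map fun a => cj p (cj q a)).sum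

theorem sum_eq_of_rep {U : Subgroup AutM22} {A B : List ℕ}
    (hA : ∀ u, u ∈ U ↔ ∃ c ∈ A, Rep c u) (hB : ∀ u, u ∈ U ↔ ∃ c ∈ B, Rep c u)
    (hA' : ∀ c ∈ A, ∃ u, Rep c u) (hB' : ∀ c ∈ B, ∃ u, Rep c u) (nA : A.Nodup) (nB : B.Nodup) :
    A.sum = B.sum := by
  refine List.Perm.sum_eq ((List.perm_ext_iff_of_nodup nA nB).mpr fun c => ⟨?_, ?_⟩)
  · intro hc
    obtain ⟨u, hu⟩ := hA' c hc
    obtain ⟨d, hd, hdu⟩ := (hB u).mp ((hA u).mpr ⟨c, hc, hu⟩)
    exact rep_code hu hdu ▸ hd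
  · intro hc
    obtain ⟨u, hu⟩ := hB' c hc
    obtain ⟨d, hd, hdu⟩ := (hA u).mp ((hB u).mpr ⟨c, hc, hu⟩)
    exact rep_code hu hdu ▸ hd

theorem map_rep {L : List ℕ} (hL : closedL L = true) {f : ℕ → ℕ} {g : AutM22}
    (hf : ∀ a ∈ L, Rep (f a) (g * au a * g⁻¹)) :
    (∀ u, u ∈ mc g (grpL L) ↔ ∃ c ∈ L.map f, Rep c u) ∧ (∀ c ∈ L.map f, ∃ u, Rep c u) ∧
      (L.map f).Nodup := by
  obtain ⟨hg, hnd, -, -⟩ := closedL_spec hL
  refine ⟨fun u => ⟨?_, ?_⟩, ?_, ?_⟩
  · rintro ⟨_, hx, rfl⟩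
    obtain ⟨a, ha, rfl⟩ := (mem_grpL hL).mp hx
    exact ⟨f a, List.mem_map.mpr ⟨a, ha, rfl⟩, hf a ha⟩
  · rintro ⟨_, hc, hr⟩
    obtain ⟨a, ha, rfl⟩ := List.mem_map.mp hc
    exact ⟨au a, (mem_grpL hL).mpr ⟨a, ha, rfl⟩, rep_val (hf a ha) hr⟩
  · intro c hc
    obtain ⟨a, ha, rfl⟩ := List.mem_map.mp hc
    exact ⟨_, hf a ha⟩
  · refine hnd.map_on fun a ha b hb h => ?_
    exact au_inj (hg a ha) (hg b hb)
      (mul_left_cancel (mul_right_cancel (rep_val (hf a ha) (h ▸ hf b hb))))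

theorem key_eq {L : List ℕ} (hL : closedL L = true) {q q' : ℕ × ℕ} (hq : pairOk q = true)
    (hq' : pairOk q' = true) (h : mc (au q.1) (grpL L) = mc (au q'.1) (grpL L)) :
    keyOf q L = keyOf q' L := by
  have hg := (closedL_spec hL).1
  obtain ⟨a1, a2, a3⟩ := map_rep hL (f := cj q) fun a ha => rep_cj hq (rep_good (hg a ha))
  obtain ⟨b1, b2, b3⟩ := map_rep hL (f := cj q') fun a ha => rep_cj hq' (rep_good (hg a ha))
  exact sum_eq_of_rep a1 (h ▸ b1) a2 b2 a3 b3

theorem key2_eq {L : List ℕ} (hL : closedL L = true) {p q q' : ℕ × ℕ} (hp : pairOk p = true)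
    (hq : pairOk q = true) (hq' : pairOk q' = true)
    (h : mc (au p.1) (mc (au q.1) (grpL L)) = mc (au q'.1) (grpL L)) :
    keyOf2 p q L = keyOf q' L := by
  have hg := (closedL_spec hL).1
  obtain ⟨a1, a2, a3⟩ := map_rep hL (f := fun a => cj p (cj q a)) (g := au p.1 * au q.1)
    fun a ha => by
      convert rep_cj hp (rep_cj hq (rep_good (hg a ha))) using 1
      group
  obtain ⟨b1, b2, b3⟩ := map_rep hL (f := cj q') fun a ha => rep_cj hq' (rep_good (hg a ha))
  rw [← mc_mul] at h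
  exact sum_eq_of_rep a1 (h ▸ b1) a2 b2 a3 b3

end Cfsg.Agent.Lib.J4Big.Codes
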