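import Cfsg.Agent.Lib.J4Big.Facts2

/-!
# Further finite facts on `Aut M22`: two hexad type subgroups, the duad count
-/

set_option autoImplicit false

namespace Cfsg.Agent.Lib.J4Big

open Cfsg.Agent.Lib.J4Local

/-- Two different conjugates of `Uh` generate a subgroup containing a conjugate of `U0`; the duad
type subgroups number 231. -/
structure MeetConfig (Uh U0 : Subgroup AutM22) : Prop where
  meet : ∀ g : AutM22, g ∉ Subgroup.normalizer (Uh : Set AutM22) →
    ∃ h : AutM22, U0.map (MulAut.conj h).toMonoidHom ≤ Uh ⊔ Uh.map (MulAut.conj g).toMonoidHom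
  duads : Set.ncard {U' : Subgroup AutM22 | ∃ g : AutM22, U' = U0.map (MulAut.conj g).toMonoidHom}
    = 231

end Cfsg.Agent.Lib.J4Big
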