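import Cfsg.Agent.Lib.J4Big.Cert
import Cfsg.Agent.Lib.J4Big.CodeRep
import Cfsg.Agent.Lib.J4Big.Data2
import Cfsg.Agent.Lib.J4Big.Facts3
import Cfsg.Agent.Lib.J4Local.AutFacts

/-!
# The normaliser of the hexad type subgroup, the duad type subgroups, joins
-/

set_option autoImplicit false
set_option linter.unusedSectionVars false

namespace Cfsg.Agent.Lib.J4Big.Cert2

open Cfsg Cfsg.Agent.Lib.J4Local Cfsg.Agent.Lib.Golay Cfsg.Agent.Lib.Computation Codes

theorem gens_ok : (Data2.gens.all pairOk && Nat.beq Data2.gens.length 4 &&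
    (List.range 3).all (fun k =>
      Nat.beq (Data2.gens.getD k (0, 0)).1 (cmulC (AutLocal.innGens.getD k 0) oneCode)) &&
    !Nat.beq (getW 5 (Data2.gens.getD 3 (0, 0)).1 23) 23) = true := by decide +kernel

theorem hCover_ok : coverOk Data.uhL Data2.gens Data2.hRep Data2.hTab = true := by decide +kernel

theorem dCover_ok : coverOk Data.u0L Data2.gens Data2.dRep Data2.dTab = true := by decide +kernel

theorem lens_ok : (Nat.beq Data2.hRep.length 77 && Nat.beq Data2.dRep.length 231) = true := by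
  decide +kernel

theorem keys_ok : distinct (Data2.dRep.map fun q => keyOf q Data.u0L) = true := by decide +kernel

/-- The test for being normalised by the hexad type subgroup. -/
def fixTest (j : ℕ) : Bool :=
  Data.uhL.all fun a => Nat.beq (keyOf2 (a, a) (Data2.dRep.getD j (0, 0)) Data.u0L)
    (keyOf (Data2.dRep.getD j (0, 0)) Data.u0L)

theorem fix_count : ((List.range 231).filter fixTest).length = 15 := by decide +kernel

theorem uh_inv_ok : (Data.uhL.all fun a => pairOk (a, a)) = true := by decide +kernel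

theorem u0_sub_ok : (Data.u0L.all (fun c => mem (expand Data.tGens) c &&
    Nat.beq (getW 5 c 23) 23 && Nat.beq (cmulC c c) oneCode)) = true := by decide +kernel

theorem tGens_norm : (Data.tGens.all fun n => normOk Data.uhL n) = true := by decide +kernel

theorem centT_ok : ((expand Data.tGens).all fun c =>
    !(Data.uhL.all fun a => Nat.beq (cmulC c a) (cmulC a c)) || mem Data.uhL c) = true := by
  decide +kernel

/-- A word in the two subgroups. -/
def wordVal (q : ℕ × ℕ) (w : List (Bool × ℕ)) : ℕ :=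
  w.foldl (fun acc x => cmulC acc (bif x.1 then cj q x.2 else x.2)) oneCode

/-- The check of the joins. -/
def meetOk : Bool :=
  genOk Data2.u0G && Data.u0L.all (mem (expand Data2.u0G)) &&
  (List.range 76).all fun k =>
    let w := Data2.meetW.getD k (0, [])
    Nat.blt w.1 231 && (List.range Data2.u0G.length).all fun i =>
      (w.2.getD i []).all (fun x => mem Data.uhL x.2) &&
        Nat.beq (cj (Data2.dRep.getD w.1 (0, 0)) (Data2.u0G.getD i 0))
          (wordVal (Data2.hRep.getD (k + 1) (0, 0)) (w.2.getD i []))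

theorem meet_ok : meetOk = true := by decide +kernel

theorem closure_gens : Subgroup.closure {a : AutM22 | ∃ q ∈ Data2.gens, au q.1 = a} = ⊤ := by
  have hg := gens_ok
  simp only [Bool.and_eq_true, List.all_eq_true, Nat.beq_eq, List.mem_range, Bool.not_eq_true',
    ← Bool.not_eq_true] at hg
  obtain ⟨⟨⟨hpair, hlen⟩, hinn⟩, hout⟩ := hg
  set H := Subgroup.closure {a : AutM22 | ∃ q ∈ Data2.gens, au q.1 = a}
  have hmem : ∀ k < 4, au (Data2.gens.getD k (0, 0)).1 ∈ H := fun k hk => by
    rw [List.getD_eq_getElem _ _ (by omega)]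
    exact Subgroup.subset_closure ⟨_, List.getElem_mem _, rfl⟩
  have hinnle : inn ≤ H := by
    set K := (H.comap AutModel.toAut.toMonoidHom).map AutModel.big.subtype with hK
    have hle : Spor.M22 ≤ K := by
      rw [AutLocal.closure_gens, Subgroup.closure_le]
      rintro _ ⟨c, hc, rfl⟩
      obtain ⟨hb, -⟩ := AutLocal.base.1 c hc
      obtain ⟨k, hk, rfl⟩ := List.mem_iff_getElem.mp (show c ∈ AutLocal.innGens from hc)
      have hk3 : k < 3 := hk
      have he := hinn k hk3
      rw [List.getD_eq_getElem _ _ hk] at he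
      have hp := getD_ok hpair (show k < Data2.gens.length by omega)
      have hr := (pairOk_spec hp).1
      refine ⟨AutModel.toAut.symm (au (Data2.gens.getD k (0, 0)).1), ?_, ?_⟩
      · show AutModel.toAut (AutModel.toAut.symm _) ∈ H
        rw [MulEquiv.apply_symm_apply]
        exact hmem k (by omega)
      · show ((AutModel.toAut.symm _ : ↥AutModel.big) : Equiv.Perm GolayPt) = _
        rw [← hr.2.2, he, show ∀ x, cmulC x oneCode = mulP 24 5 x oneCode from fun _ => rfl,
          gperm_mul (AutModel.inBig_spec hb).1 okCode_oneCode, gperm_oneCode, mul_one]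
    rintro _ ⟨m, rfl⟩
    obtain ⟨g, hg, hge⟩ := hle m.2
    have : g = (⟨m, AutModel.m22_le m.2⟩ : ↥AutModel.big) := Subtype.ext hge
    rw [← AutModel.autHom_m22, ← this]
    exact hg
  have hp3 := getD_ok hpair (show 3 < Data2.gens.length by omega)
  have hg3 : good (Data2.gens.getD 3 (0, 0)).1 = true := by
    simp only [pairOk, Bool.and_eq_true] at hp3
    exact hp3.1.1
  have hno : au (Data2.gens.getD 3 (0, 0)).1 ∉ inn := fun h => hout ((au_inn hg3).mp h)
  rw [eq_top_iff]
  intro x _
  by_cases hx : x ∈ inn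
  · exact hinnle hx
  · have := hinnle ((Subgroup.mul_mem_iff_of_index_two AutLocal.inn_index
      (a := au (Data2.gens.getD 3 (0, 0)).1) (b := x)).mpr (iff_of_false hno hx))
    simpa using mul_mem (inv_mem (hmem 3 (by norm_num))) this

/-- The hexad type subgroup. -/
noncomputable abbrev Uh : Subgroup AutM22 := grpL Data.uhL

/-- The duad type subgroup. -/
noncomputable abbrev U0 : Subgroup AutM22 := grpL Data.u0L

theorem uh_closed : closedL Data.uhL = true := by
  have h := Cert.uh_ok
  simp only [Bool.and_eq_true] at h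
  exact h.1.1

theorem hRep_cover (g : AutM22) : ∃ j < 77, mc g Uh = rmc Data2.hRep Uh j := by
  have hl := lens_ok
  simp only [Bool.and_eq_true, Nat.beq_eq] at hl
  obtain ⟨j, hj, e⟩ := cover_spec uh_closed hCover_ok closure_gens (by omega) g
  exact ⟨j, hl.1 ▸ hj, e⟩

theorem dRep_cover (g : AutM22) : ∃ j < 231, mc g U0 = rmc Data2.dRep U0 j := by
  have hl := lens_ok
  simp only [Bool.and_eq_true, Nat.beq_eq] at hl
  obtain ⟨j, hj, e⟩ := cover_spec Cert.u0_ok dCover_ok closure_gens (by omega) g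
  exact ⟨j, hl.2 ▸ hj, e⟩

theorem dRep_pair {j : ℕ} (hj : j < 231) : pairOk (Data2.dRep.getD j (0, 0)) = true := by
  have h := dCover_ok
  have hl := lens_ok
  simp only [Bool.and_eq_true, Nat.beq_eq] at hl
  simp only [coverOk, Bool.and_eq_true, List.all_eq_true] at h
  exact getD_ok h.1.1.1.1 (by omega)

theorem dRep_inj {i j : ℕ} (hi : i < 231) (hj : j < 231)
    (h : keyOf (Data2.dRep.getD i (0, 0)) Data.u0L = keyOf (Data2.dRep.getD j (0, 0)) Data.u0L) :
    i = j := by
  have hl := lens_ok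
  simp only [Bool.and_eq_true, Nat.beq_eq] at hl
  have hn := distinct_iff keys_ok
  have hi' : i < Data2.dRep.length := by omega
  have hj' : j < Data2.dRep.length := by omega
  rw [List.getD_eq_getElem _ _ hi', List.getD_eq_getElem _ _ hj'] at h
  refine (List.getElem_inj (h₀ := by simpa using hi') (h₁ := by simpa using hj') hn).mp ?_
  rw [List.getElem_map, List.getElem_map]
  exact h

theorem rmc_inj {i j : ℕ} (hi : i < 231) (hj : j < 231)
    (h : rmc Data2.dRep U0 i = rmc Data2.dRep U0 j) : i = j :=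
  dRep_inj hi hj (key_eq Cert.u0_ok (dRep_pair hi) (dRep_pair hj) h)

/-- A subgroup of the hexad type normalises the representative iff the test passes. -/
theorem fixTest_iff {j : ℕ} (hj : j < 231) :
    Uh ≤ Subgroup.normalizer (rmc Data2.dRep U0 j : Set AutM22) ↔ fixTest j = true := by
  have hq := dRep_pair hj
  have hinv := uh_inv_ok
  rw [List.all_eq_true] at hinv
  simp only [fixTest, List.all_eq_true, Nat.beq_eq]
  constructor
  · intro h a ha
    have hag := (closedL_spec uh_closed).1 a ha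
    exact key2_eq Cert.u0_ok (hinv a ha) hq hq
      (mc_eq_self (h ((mem_grpL uh_closed).mpr ⟨a, ha, rfl⟩)))
  · intro h x hx
    obtain ⟨a, ha, rfl⟩ := (mem_grpL uh_closed).mp hx
    refine mem_normalizer_of_mc ?_
    obtain ⟨t, ht, e⟩ := dRep_cover (au a * au (Data2.dRep.getD j (0, 0)).1)
    rw [mc_mul] at e
    have hk := key2_eq Cert.u0_ok (hinv a ha) hq (dRep_pair ht) e
    rw [h a ha] at hk
    exact e.trans (congrArg _ (dRep_inj hj ht hk).symm)

theorem fifteen : Set.ncard {U' : Subgroup AutM22 |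
    (∃ g : AutM22, U' = U0.map (MulAut.conj g).toMonoidHom) ∧
      Uh ≤ Subgroup.normalizer (U' : Set AutM22)} = 15 := by
  classical
  set s := ((List.range 231).filter fixTest).toFinset with hs
  have hset : {U' : Subgroup AutM22 | (∃ g : AutM22, U' = U0.map (MulAut.conj g).toMonoidHom) ∧
      Uh ≤ Subgroup.normalizer (U' : Set AutM22)} =
        (s.image (rmc Data2.dRep U0) : Finset (Subgroup AutM22)) := by
    ext U'
    simp only [Set.mem_ofPred_eq, Finset.coe_image, Set.mem_image, Finset.mem_coe, hs,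
      List.mem_toFinset, List.mem_filter, List.mem_range]
    constructor
    · rintro ⟨⟨g, rfl⟩, hn⟩
      obtain ⟨j, hj, e⟩ := dRep_cover g
      rw [show U0.map (MulAut.conj g).toMonoidHom = mc g U0 from rfl, e] at hn ⊢
      exact ⟨j, ⟨hj, (fixTest_iff hj).mp hn⟩, rfl⟩
    · rintro ⟨j, ⟨hj, hf⟩, rfl⟩
      exact ⟨⟨_, rfl⟩, (fixTest_iff hj).mpr hf⟩
  rw [hset, Set.ncard_coe_finset, Finset.card_image_of_injOn, hs,
    List.toFinset_card_of_nodup (List.nodup_range.filter _), fix_count]
  intro i hi j hj h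
  simp only [hs, Finset.mem_coe, List.mem_toFinset, List.mem_filter, List.mem_range] at hi hj
  exact rmc_inj hi.1 hj.1 h

theorem duads : Set.ncard {U' : Subgroup AutM22 |
    ∃ g : AutM22, U' = U0.map (MulAut.conj g).toMonoidHom} = 231 := by
  classical
  have hset : {U' : Subgroup AutM22 | ∃ g : AutM22, U' = U0.map (MulAut.conj g).toMonoidHom} =
      ((Finset.range 231).image (rmc Data2.dRep U0) : Finset (Subgroup AutM22)) := by
    ext U'
    simp only [Set.mem_ofPred_eq, Finset.coe_image, Set.mem_image, Finset.mem_coe, Finset.mem_range]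
    constructor
    · rintro ⟨g, rfl⟩
      obtain ⟨j, hj, e⟩ := dRep_cover g
      exact ⟨j, hj, e.symm⟩
    · rintro ⟨j, -, rfl⟩
      exact ⟨_, rfl⟩
  rw [hset, Set.ncard_coe_finset, Finset.card_image_of_injOn, Finset.card_range]
  intro i hi j hj h
  simp only [Finset.mem_coe, Finset.mem_range] at hi hj
  exact rmc_inj hi hj h

theorem rep_word {k : ℕ} {q : ℕ × ℕ} (hq : pairOk q = true) : ∀ (w : List (Bool × ℕ)),
    (∀ x ∈ w, x.2 ∈ Data.uhL) → ∀ (c : ℕ) (u : AutM22), Rep c u → u ∈ Uh ⊔ mc (au q.1) Uh →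
    ∃ v ∈ Uh ⊔ mc (au q.1) Uh,
      Rep (w.foldl (fun acc x => cmulC acc (bif x.1 then cj q x.2 else x.2)) c) v
  | [], _, c, u, hc, hu => ⟨u, hu, hc⟩
  | (b, a) :: w, hw, c, u, hc, hu => by
    have ha := hw (b, a) List.mem_cons_self
    have hr := rep_good ((closedL_spec uh_closed).1 a ha)
    have hau : au a ∈ Uh := (mem_grpL uh_closed).mpr ⟨a, ha, rfl⟩
    have hrest := fun x hx => hw x (List.mem_cons_of_mem _ hx)
    cases b with
    | false =>
      exact rep_word (k := k) hq w hrest _ _ (rep_mul hc hr)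
        (mul_mem hu (Subgroup.mem_sup_left hau))
    | true =>
      exact rep_word (k := k) hq w hrest _ _ (rep_mul hc (rep_cj hq hr))
        (mul_mem hu (Subgroup.mem_sup_right ⟨_, hau, rfl⟩))

theorem meet (g : AutM22) (hg : g ∉ Subgroup.normalizer (Uh : Set AutM22)) :
    ∃ h : AutM22, U0.map (MulAut.conj h).toMonoidHom ≤ Uh ⊔ Uh.map (MulAut.conj g).toMonoidHom := by
  obtain ⟨k, hk, e⟩ := hRep_cover g
  have hk0 : k ≠ 0 := by
    rintro rfl
    refine hg (mem_normalizer_of_mc ?_)
    have h := hCover_ok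
    simp only [coverOk, Bool.and_eq_true, Nat.beq_eq] at h
    rw [e, rmc, h.1.2, au_one, mc_one]
  have hm := meet_ok
  simp only [meetOk, Bool.and_eq_true, List.all_eq_true, List.mem_range, Nat.beq_eq, Nat.blt_eq,
    mem_iff] at hm
  obtain ⟨⟨hgen, hsub⟩, hw⟩ := hm
  obtain ⟨hj, hwi⟩ := hw (k - 1) (by omega)
  rw [show k - 1 + 1 = k by omega] at hwi
  set j := (Data2.meetW.getD (k - 1) (0, [])).1
  set r := au (Data2.dRep.getD j (0, 0)).1 with hr
  refine ⟨r, ?_⟩
  have hcomap : U0 ≤ (Uh ⊔ mc g Uh).comap (MulAut.conj r).toMonoidHom := by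
    have hclo : U0 ≤ Subgroup.closure (setL Data2.u0G) := by
      intro x hx
      obtain ⟨c, hc, rfl⟩ := (mem_grpL Cert.u0_ok).mp hx
      exact (Set.ext_iff.mp (coe_genGrp hgen) _).mpr ⟨c, hsub c hc, rfl⟩
    refine hclo.trans ((Subgroup.closure_le _).mpr ?_)
    rintro _ ⟨c, hc, rfl⟩
    obtain ⟨i, hi, rfl⟩ := List.mem_iff_getElem.mp hc
    obtain ⟨hwu, hwe⟩ := hwi i hi
    rw [List.getD_eq_getElem _ _ hi] at hwe
    have hg' : good (Data2.u0G[i]) = true := by
      have h := hgen
      simp only [genOk, Bool.and_eq_true, List.all_eq_true] at h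
      exact h.1.1.1 _ (List.getElem_mem hi)
    have hh := hCover_ok
    simp only [coverOk, Bool.and_eq_true, List.all_eq_true] at hh
    have hl := lens_ok
    simp only [Bool.and_eq_true, Nat.beq_eq] at hl
    obtain ⟨v, hv, hvr⟩ := rep_word (k := k) (getD_ok hh.1.1.1.1 (show k < Data2.hRep.length by omega))
      _ hwu oneCode 1 rep_one (one_mem _)
    have h' := rep_cj (dRep_pair hj) (rep_good hg')
    rw [hwe] at h'
    show r * au _ * r⁻¹ ∈ Uh ⊔ mc g Uh
    rw [rep_val h' hvr, e]
    exact hv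
  rintro _ ⟨x, hx, rfl⟩
  exact hcomap hx

theorem meetConfig : MeetConfig Uh U0 := ⟨meet, duads⟩

section Norm

/-- Every involution class element lies in a conjugate of the hexad subgroup. -/
theorem cover_involution {a b : AutM22} (ha : a ∈ Uh) (h1 : a ≠ 1) (hb : b ∈ inn)
    (hbo : orderOf b = 2) : ∃ c, b ∈ mc c Uh := by
  have B := Cert.bigConfig
  obtain ⟨c, -, hc⟩ := autFacts.conj_involution a (B.le_Uh ha).2 b hb
    (orderOf_eq_prime (by rw [pow_two]; exact B.exp_Uh a ha) h1) hbo
  exact ⟨c, hc ▸ ⟨a, ha, rfl⟩⟩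

theorem inv_count {a : AutM22} (ha : a ∈ inn) (hao : orderOf a = 2) :
    Set.ncard {b : AutM22 | b ∈ inn ∧ orderOf b = 2} = 1155 := by
  have hset : {b : AutM22 | b ∈ inn ∧ orderOf b = 2} =
      (fun n => n * a * n⁻¹) '' (inn : Set AutM22) := by
    ext b
    constructor
    · rintro ⟨hb, hbo⟩
      obtain ⟨c, hc, e⟩ := autFacts.conj_involution a ha b hb hao hbo
      exact ⟨c, hc, e⟩
    · rintro ⟨n, hn, rfl⟩
      refine ⟨mul_mem (mul_mem hn ha) (inv_mem hn), ?_⟩
      rw [← hao]
      exact orderOf_injective (MulAut.conj n).toMonoidHom (MulAut.conj n).injective a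
  have h := AutLocal.card_orbit inn a
  rw [autFacts.card_inn, autFacts.cent_involution a ha hao, ← hset] at h
  omega

theorem index_norm_le : (Subgroup.normalizer (Uh : Set AutM22)).index ≤ 77 := by
  classical
  rw [← ncard_conjugates]
  refine (Set.ncard_le_ncard (t := ↑((Finset.range 77).image (rmc Data2.hRep Uh))) ?_
    (Set.toFinite _)).trans ?_
  · rintro _ ⟨g, rfl⟩
    obtain ⟨j, hj, e⟩ := hRep_cover g
    exact Finset.mem_coe.mpr (Finset.mem_image.mpr ⟨j, Finset.mem_range.mpr hj, e.symm⟩)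
  · rw [Set.ncard_coe_finset]
    exact Finset.card_image_le.trans (by simp)

/-- The conjugates cover the involutions exactly. -/
theorem exact_cover : (Subgroup.normalizer (Uh : Set AutM22)).index = 77 ∧
    ∀ g a, a ∈ Uh → a ≠ 1 → a ∈ mc g Uh → g ∈ Subgroup.normalizer (Uh : Set AutM22) := by
  classical
  have B := Cert.bigConfig
  set C := {U' : Subgroup AutM22 | ∃ g : AutM22, U' = mc g Uh}.toFinite.toFinset with hC
  have hCcard : C.card = (Subgroup.normalizer (Uh : Set AutM22)).index := by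
    rw [← ncard_conjugates, Set.ncard_eq_toFinset_card]
  obtain ⟨a₀, ha₀, ha₀1⟩ : ∃ a ∈ Uh, a ≠ 1 := by
    by_contra h
    push Not at h
    have := B.card_Uh
    rw [show grpL Data.uhL = ⊥ from (Subgroup.eq_bot_iff_forall _).mpr h, Subgroup.card_bot] at this
    norm_num at this
  have hord : ∀ a ∈ Uh, a ≠ 1 → orderOf a = 2 := fun a ha h1 =>
    orderOf_eq_prime (by rw [pow_two]; exact B.exp_Uh a ha) h1
  have := Fintype.ofFinite AutM22
  set I := {b : AutM22 | b ∈ inn ∧ orderOf b = 2}.toFinite.toFinset with hI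
  have hIcard : I.card = 1155 := by
    rw [← Set.ncard_eq_toFinset_card _ _,
      inv_count (B.le_Uh ha₀).2 (hord a₀ ha₀ ha₀1)]
  set part : Subgroup AutM22 → Finset AutM22 := fun U' =>
    (Finset.univ.filter fun b => b ∈ U' ∧ b ≠ 1) with hpart
  have h15 : ∀ U' ∈ C, (part U').card = 15 := by
    intro U' hU'
    rw [hC, Set.Finite.mem_toFinset] at hU'
    obtain ⟨g, rfl⟩ := hU'
    have e : part (mc g Uh) = (Finset.univ.filter fun b => b ∈ mc g Uh).erase 1 := by
      ext b; simp [hpart, and_comm]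
    rw [e, Finset.card_erase_of_mem (by simp), ← Nat.card_eq_finsetCard]
    have : Nat.card ↥(Finset.univ.filter fun b => b ∈ mc g Uh) = 16 := by
      rw [← B.card_Uh]
      refine (Nat.card_congr (Equiv.subtypeEquivRight fun b => ?_)).trans
        (Subgroup.card_map_of_injective (f := (MulAut.conj g).toMonoidHom)
          (MulAut.conj g).injective)
      simp; rfl
    rw [this]
  have hcov : I ⊆ C.biUnion part := by
    intro b hb
    rw [hI, Set.Finite.mem_toFinset] at hb
    obtain ⟨c, hc⟩ := cover_involution ha₀ ha₀1 hb.1 hb.2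
    refine Finset.mem_biUnion.mpr ⟨mc c Uh, (Set.Finite.mem_toFinset _).mpr ⟨c, rfl⟩, ?_⟩
    simp [hpart, hc, show b ≠ 1 from fun e => by have h2 := hb.2; rw [e, orderOf_one] at h2; omega]
  have hle := (Finset.card_le_card hcov).trans Finset.card_biUnion_le
  rw [Finset.sum_congr rfl h15, Finset.sum_const, smul_eq_mul, hIcard, hCcard] at hle
  have h77 : (Subgroup.normalizer (Uh : Set AutM22)).index = 77 :=
    le_antisymm index_norm_le (by omega)
  refine ⟨h77, fun g a ha h1 hag => mem_normalizer_of_mc ?_⟩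
  by_contra hne
  set part' : Subgroup AutM22 → Finset AutM22 := fun U' =>
    if U' = mc g Uh then (part U').erase a else part U' with hpart'
  have hgC : mc g Uh ∈ C := (Set.Finite.mem_toFinset _).mpr ⟨g, rfl⟩
  have hcov' : I ⊆ C.biUnion part' := by
    intro b hb
    obtain ⟨U', hU', hbU⟩ := Finset.mem_biUnion.mp (hcov hb)
    by_cases he : U' = mc g Uh ∧ b = a
    · refine Finset.mem_biUnion.mpr ⟨Uh, (Set.Finite.mem_toFinset _).mpr ⟨1, (mc_one _).symm⟩, ?_⟩
      simp [hpart', Ne.symm hne, hpart, he.2, ha, h1]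
    · refine Finset.mem_biUnion.mpr ⟨U', hU', ?_⟩
      simp only [hpart']
      split
      · exact Finset.mem_erase.mpr ⟨fun e => he ⟨‹_›, e⟩, hbU⟩
      · exact hbU
  have hle' := (Finset.card_le_card hcov').trans Finset.card_biUnion_le
  rw [hIcard] at hle'
  have hlt : ∑ U' ∈ C, (part' U').card < ∑ U' ∈ C, (part U').card := by
    refine Finset.sum_lt_sum (fun U' _ => ?_) ⟨mc g Uh, hgC, ?_⟩
    · simp only [hpart']
      split
      · exact Finset.card_erase_le
      · exact le_rfl
    · simp only [hpart', if_true]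
      exact Finset.card_erase_lt_of_mem (by simp [hpart, hag, h1])
  rw [Finset.sum_congr rfl h15, Finset.sum_const, smul_eq_mul, hCcard, h77] at hlt
  omega

theorem card_norm : Nat.card ↥(Subgroup.normalizer (Uh : Set AutM22)) = 11520 := by
  have h := Subgroup.card_mul_index (Subgroup.normalizer (Uh : Set AutM22))
  rw [exact_cover.1, autFacts.card_aut] at h
  omega

theorem trans (a : AutM22) (ha : a ∈ Uh) (h1 : a ≠ 1) (b : AutM22) (hb : b ∈ Uh) (hb1 : b ≠ 1) :
    ∃ g ∈ Subgroup.normalizer (Uh : Set AutM22), g * a * g⁻¹ = b := by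
  have B := Cert.bigConfig
  obtain ⟨c, -, hc⟩ := autFacts.conj_involution a (B.le_Uh ha).2 b (B.le_Uh hb).2
    (orderOf_eq_prime (by rw [pow_two]; exact B.exp_Uh a ha) h1)
    (orderOf_eq_prime (by rw [pow_two]; exact B.exp_Uh b hb) hb1)
  exact ⟨c, exact_cover.2 c b hb hb1 (hc ▸ ⟨a, ha, rfl⟩), hc⟩

theorem cent_le (a : AutM22) (ha : a ∈ Uh) (h1 : a ≠ 1) :
    Subgroup.centralizer ({a} : Set AutM22) ≤ Subgroup.normalizer (Uh : Set AutM22) := by
  intro c hc
  refine exact_cover.2 c a ha h1 ⟨a, ha, ?_⟩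
  show c * a * c⁻¹ = a
  rw [mul_inv_eq_iff_eq_mul]
  exact Subgroup.mem_centralizer_singleton_iff.mp hc

theorem cent_Uh : Subgroup.centralizer (Uh : Set AutM22) = Uh := by
  have := Fact.mk Nat.prime_two
  have B := Cert.bigConfig
  set C := Subgroup.centralizer (Uh : Set AutM22) with hC
  have hcomm : ∀ a ∈ Uh, ∀ b ∈ Uh, a * b = b * a := fun a ha b hb =>
    AutTwo.isExp2_comm B.exp_Uh a ha b hb
  refine le_antisymm ?_ fun a ha => Subgroup.mem_centralizer_iff.mpr fun b hb => hcomm b hb a ha
  obtain ⟨a₀, ha₀, ha₀1⟩ : ∃ a ∈ Uh, a ≠ 1 := by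
    by_contra h
    push Not at h
    have := B.card_Uh
    rw [show grpL Data.uhL = ⊥ from (Subgroup.eq_bot_iff_forall _).mpr h, Subgroup.card_bot] at this
    norm_num at this
  have ho : orderOf a₀ = 2 := orderOf_eq_prime (by rw [pow_two]; exact B.exp_Uh a₀ ha₀) ha₀1
  have hai : a₀ ∈ inn := (B.le_Uh ha₀).2
  -- the centraliser is a 2-group
  have h768 : Nat.card ↥C ∣ 768 := by
    have hle : C ≤ Subgroup.centralizer ({a₀} : Set AutM22) :=
      Subgroup.centralizer_le (Set.singleton_subset_iff.mpr ha₀)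
    refine (Subgroup.card_dvd_of_le hle).trans ?_
    have hd : Nat.card ↥(Subgroup.centralizer ({a₀} : Set AutM22)) ∣ 2 * 384 := by
      rw [← autFacts.cent_involution a₀ hai ho]
      set K := Subgroup.centralizer ({a₀} : Set AutM22)
      by_cases hKi : K ≤ inn
      · rw [inf_eq_right.mpr hKi]; exact dvd_mul_left _ _
      · obtain ⟨w, hw, hwn⟩ := SetLike.not_le_iff_exists.mp hKi
        rw [AutLocal.card_double hw hwn, inf_comm]
    exact hd
  have h3 : ¬ 3 ∣ Nat.card ↥C := by
    intro h
    have := Fact.mk Nat.prime_three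
    obtain ⟨x, hx⟩ := exists_prime_orderOf_dvd_card' 3 h
    have hxo : orderOf (x : AutM22) = 3 := by rw [Subgroup.orderOf_coe, hx]
    have hle : Uh ≤ inn ⊓ Subgroup.centralizer ({(x : AutM22)} : Set AutM22) := fun a ha =>
      ⟨(B.le_Uh ha).2, Subgroup.mem_centralizer_singleton_iff.mpr
        (Subgroup.mem_centralizer_iff.mp x.2 a ha)⟩
    have := Subgroup.card_dvd_of_le hle
    rw [B.card_Uh, (autFacts.cent_three _ hxo).2] at this
    norm_num at this
  have hp : IsPGroup 2 ↥C := by
    have h256 : Nat.card ↥C ∣ 2 ^ 8 :=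
      (((Nat.prime_three.coprime_iff_not_dvd).mpr h3).symm).dvd_of_dvd_mul_right
        (show Nat.card ↥C ∣ 2 ^ 8 * 3 from h768)
    obtain ⟨k, -, hk⟩ := (Nat.dvd_prime_pow Nat.prime_two).mp h256
    exact IsPGroup.of_card hk
  set T := Subgroup.closure (setL Data.tGens) with hT
  have hTN : T ≤ Subgroup.normalizer (C : Set AutM22) := by
    have hTU : T ≤ Subgroup.normalizer (Uh : Set AutM22) := by
      rw [hT, Subgroup.closure_le]
      rintro _ ⟨c, hc, rfl⟩
      have h := tGens_norm
      rw [List.all_eq_true] at h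
      refine mem_normalizer_of_mc (Subgroup.eq_of_le_of_card_ge ?_ (le_of_eq
        (Subgroup.card_map_of_injective (MulAut.conj _).injective).symm))
      rintro _ ⟨u, hu, rfl⟩
      exact normOk_spec uh_closed (h c hc) u hu
    refine hTU.trans fun n hn => mem_normalizer_of_mc ?_
    ext x
    rw [mem_mc, Subgroup.mem_centralizer_iff, Subgroup.mem_centralizer_iff]
    constructor
    · intro h u hu
      have := h (n⁻¹ * u * n) ((Subgroup.mem_normalizer_iff.mp hn _).mpr (by simpa [mul_assoc] using hu))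
      calc u * x = n * (n⁻¹ * u * n * (n⁻¹ * x * n)) * n⁻¹ := by group
        _ = x * u := by rw [this]; group
    · intro h u hu
      have := h (n * u * n⁻¹) ((Subgroup.mem_normalizer_iff.mp hn _).mp hu)
      calc u * (n⁻¹ * x * n) = n⁻¹ * (n * u * n⁻¹ * x) * n := by group
        _ = (n⁻¹ * x * n) * u := by rw [this]; group
  have hTp : IsPGroup 2 ↥T := IsPGroup.of_card (n := 8) (by rw [hT, B.card_T]; rfl)
  have hsup : IsPGroup 2 ↥(T ⊔ C : Subgroup AutM22) := hTp.to_sup_of_normal_right' hp hTN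
  obtain ⟨k, hk⟩ := IsPGroup.iff_card.mp hsup
  have hk8 : k ≤ 8 := by
    have hd := Subgroup.card_subgroup_dvd_card (T ⊔ C : Subgroup AutM22)
    rw [hk, autFacts.card_aut, show 887040 = 3465 * 2 ^ 8 by norm_num] at hd
    exact (Nat.pow_dvd_pow_iff_le_right (by norm_num)).mp
      (((Nat.coprime_pow_left_iff (n := k + 1) (Nat.succ_pos k) 2 3465).mpr (by decide) |>.coprime_dvd_left
        (pow_dvd_pow 2 (Nat.le_succ k))).dvd_of_dvd_mul_left hd)
  have hCT : C ≤ T := by
    have he : T = T ⊔ C := Subgroup.eq_of_le_of_card_ge le_sup_left (by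
      rw [hk, hT, B.card_T, show 256 = 2 ^ 8 by norm_num]
      exact Nat.pow_le_pow_right (by norm_num) hk8)
    rw [he]
    exact le_sup_right
  intro x hx
  obtain ⟨c, hc, rfl⟩ := (Set.ext_iff.mp (coe_genGrp Cert.tGens_ok) x).mp (hCT hx)
  have hgd : good c = true := by
    have h := Cert.tGens_ok
    simp only [genOk, Bool.and_eq_true, List.all_eq_true] at h
    exact h.1.1.2 c hc
  have h := centT_ok
  simp only [List.all_eq_true, Bool.or_eq_true, Bool.not_eq_true', ← Bool.not_eq_true,
    Nat.beq_eq, mem_iff] at h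
  rcases h c hc with h' | h'
  · refine absurd (fun a ha => ?_) h'
    have hga := rep_good ((closedL_spec uh_closed).1 a ha)
    exact rep_code (rep_mul (rep_good hgd) hga) (by
      rw [← Subgroup.mem_centralizer_iff.mp hx _ ((mem_grpL uh_closed).mpr ⟨a, ha, rfl⟩)]
      exact rep_mul hga (rep_good hgd))
  · exact (mem_grpL uh_closed).mpr ⟨c, h', rfl⟩

theorem normConfig : NormConfig (Subgroup.closure (setL Data.tGens)) Uh U0 :=
  { Cert.bigConfig with
    cent_Uh := cent_Uh
    card_norm := card_norm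
    trans := trans
    cent_le := cent_le
    card_U0 := by rw [card_grpL Cert.u0_ok]; exact Cert.u0_len
    exp_U0 := fun u hu => by
      obtain ⟨c, hc, rfl⟩ := (mem_grpL Cert.u0_ok).mp hu
      have h := u0_sub_ok
      simp only [List.all_eq_true, Bool.and_eq_true, Nat.beq_eq] at h
      have hr := rep_good ((closedL_spec Cert.u0_ok).1 c hc)
      exact rep_val (rep_mul hr hr) ((h c hc).2 ▸ rep_one)
    le_U0 := fun u hu => by
      obtain ⟨c, hc, rfl⟩ := (mem_grpL Cert.u0_ok).mp hu
      have h := u0_sub_ok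
      simp only [List.all_eq_true, Bool.and_eq_true, Nat.beq_eq, mem_iff] at h
      refine ⟨?_, (au_inn ((closedL_spec Cert.u0_ok).1 c hc)).mpr (h c hc).1.2⟩
      exact (Set.ext_iff.mp (coe_genGrp Cert.tGens_ok) _).mpr ⟨c, (h c hc).1.1, rfl⟩
    fifteen := fifteen }

end Norm

end Cfsg.Agent.Lib.J4Big.Cert2
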