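import Cfsg.Agent.Lib.J4Big.CentT
import Cfsg.Agent.Lib.J4Big.Cert2
import Cfsg.Agent.Lib.J4Local.FusionOuter

/-!
# An arbitrary elementary `2^11`: orbits of its normaliser
-/

set_option autoImplicit false
set_option linter.unusedSectionVars false

namespace Cfsg.Agent.Lib.J4Big

open Cfsg Cfsg.Agent.Lib.LargeExtraspecial.Basic Cfsg.Agent.Lib.J4Local Orbit Cocode
open scoped Pointwise

variable {G : Type*} [Group G] [Finite G] {z p : G}
variable {T₀ Uh U0 : Subgroup AutM22}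

theorem mem_map_conj {g x : G} {H : Subgroup G} :
    x ∈ H.map (MulAut.conj g).toMonoidHom ↔ g⁻¹ * x * g ∈ H := by
  constructor
  · rintro ⟨y, hy, rfl⟩
    simpa [mul_assoc] using hy
  · exact fun h => ⟨_, h, by simp [mul_assoc]⟩

theorem mem_normalizer_map {g x : G} {H : Subgroup G} :
    x ∈ Subgroup.normalizer (H.map (MulAut.conj g).toMonoidHom : Set G) ↔
      g⁻¹ * x * g ∈ Subgroup.normalizer (H : Set G) := by
  simp only [Subgroup.mem_normalizer_iff, mem_map_conj]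
  constructor
  · intro h y
    have := h (g * y * g⁻¹)
    simpa [mul_assoc] using this
  · intro h y
    have := h (g⁻¹ * y * g)
    simpa [mul_assoc] using this

/-- Every elementary abelian `2^11` is conjugate to `vv`. -/
theorem exists_conj_vv (S : Setting z p) (F : AutFacts) (B : BigConfig T₀ Uh U0) {V : Subgroup G}
    (hV : Cfsg.IsElementaryAbelian 2 V) (hc : Nat.card ↥V = 2 ^ 11) :
    ∃ g : G, V = (vv S B).map (MulAut.conj g).toMonoidHom := by
  have := Fact.mk Nat.prime_two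
  obtain ⟨hVc, h2, -⟩ := vv_facts S F B
  have hV2 : ∀ a ∈ V, a * a = 1 := fun a ha => by rw [← pow_two]; exact hV.2 a ha
  obtain ⟨T, hT⟩ := (isPGroup_of_sq hV2).exists_le_sylow
  obtain ⟨T', hT'⟩ := (isPGroup_of_sq h2).exists_le_sylow
  obtain ⟨g, hg⟩ := MulAction.exists_smul_eq G T' T
  obtain ⟨U, -, huniq⟩ := unique_in_sylow S F B T
  have elem : ∀ X : Subgroup G, (∀ a ∈ X, a * a = 1) → Cfsg.IsElementaryAbelian 2 X := fun X hX =>
    ⟨⟨⟨fun a b => Subtype.ext (comm_of_sq hX a.2 b.2)⟩⟩, fun v hv => by rw [pow_two]; exact hX v hv⟩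
  refine ⟨g, ?_⟩
  rw [huniq V ⟨hT, hV, hc⟩, huniq ((vv S B).map (MulAut.conj g).toMonoidHom) ⟨?_, elem _ ?_, ?_⟩]
  · rintro _ ⟨a, ha, rfl⟩
    rw [← hg, Sylow.coe_subgroup_smul]
    exact ⟨a, hT' ha, rfl⟩
  · rintro _ ⟨a, ha, rfl⟩
    rw [← map_mul, h2 a ha, map_one]
  · rw [Subgroup.card_map_of_injective (MulAut.conj g).injective, hVc]

theorem orb_dV (S : Setting z p) (F : AutFacts) (B : NormConfig T₀ Uh U0)
    (hE : ∃ e ∈ Q z, IsConj z e ∧ e ≠ z) {t : G} (ht : t ∈ dV S B.toBigConfig) :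
    orb (Subgroup.normalizer (vv S B.toBigConfig : Set G)) t = dV S B.toBigConfig := by
  ext v
  constructor
  · rintro ⟨n, hn, rfl⟩
    exact (conj_mem_dV_iff S F B.toBigConfig hn ht.1).mpr ht
  · exact fun hv => trans_dV S F B hE ht hv

theorem orb_conj (g x : G) (H : Subgroup G) :
    {v : G | ∃ n ∈ Subgroup.normalizer (H.map (MulAut.conj g).toMonoidHom : Set G),
      n * (g * x * g⁻¹) * n⁻¹ = v} =
    (fun v => g * v * g⁻¹) '' orb (Subgroup.normalizer (H : Set G)) x := by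
  ext v
  constructor
  · rintro ⟨n, hn, rfl⟩
    exact ⟨_, ⟨_, mem_normalizer_map.mp hn, rfl⟩, by group⟩
  · rintro ⟨_, ⟨n, hn, rfl⟩, rfl⟩
    exact ⟨g * n * g⁻¹, mem_normalizer_map.mpr (by simpa [mul_assoc] using hn), by group⟩

/-- The row. -/
theorem orbits_of_facts [IsSimpleGroup G] (F : AutFacts) (hG : ¬ IsMulCommutative G)
    (hJ : Cfsg.IsOfJankoFourTypeAt z) (V : Subgroup G) (hV : Cfsg.IsElementaryAbelian 2 V)
    (hc : Nat.card ↥V = 2 ^ 11) :
    ∃ z' t : G, z' ∈ V ∧ t ∈ V ∧ t ≠ 1 ∧ IsConj z z' ∧ ¬ IsConj z t ∧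
    Set.ncard {v : G | ∃ n ∈ Subgroup.normalizer (V : Set G), n * z' * n⁻¹ = v} = 1771 ∧
    Set.ncard {v : G | ∃ n ∈ Subgroup.normalizer (V : Set G), n * t * n⁻¹ = v} = 276 ∧
    Subgroup.centralizer ({t} : Set G) ≤ Subgroup.normalizer (V : Set G) := by
  obtain ⟨p, S⟩ := Setting.of_at hJ
  have B := Cert2.normConfig
  have Me := Cert2.meetConfig
  have hE := S.exists_fused hG F
  obtain ⟨g, rfl⟩ := exists_conj_vv S F B.toBigConfig hV hc
  obtain ⟨t, ht⟩ := dV_nonempty S F B hE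
  obtain ⟨ψ, H, h1⟩ := exists_frame_vv S F B hE ht
  have hinj : Function.Injective fun v : G => g * v * g⁻¹ := (MulAut.conj g).injective
  refine ⟨g * z * g⁻¹, g * t * g⁻¹, ⟨z, z_mem_vv S _, rfl⟩, ⟨t, ht.1, rfl⟩,
    fun e => ht.2.1 (conj_eq_one_iff.mp e), isConj_iff.mpr ⟨g, rfl⟩,
    fun e => ht.2.2 (isConj_conj_iff.mp e), ?_, ?_, ?_⟩
  · rw [orb_conj, Set.ncard_image_of_injective _ hinj, orb_z S F]
    exact (counts S F B hE).1
  · rw [orb_conj, Set.ncard_image_of_injective _ hinj, orb_dV S F B hE ht]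
    exact card_dV S F B hE
  · intro x hx
    refine mem_normalizer_map.mpr (cent_t_le S F B Me hE H h1
      (Subgroup.mem_centralizer_singleton_iff.mpr ?_))
    have := Subgroup.mem_centralizer_singleton_iff.mp hx
    calc g⁻¹ * x * g * t = g⁻¹ * (x * (g * t * g⁻¹)) * g := by group
      _ = t * (g⁻¹ * x * g) := by rw [this]; group

end Cfsg.Agent.Lib.J4Big
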