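import Cfsg.Agent.Lib.J4Big.CentT
import Cfsg.Agent.Lib.J4Big.RowS5568

/-!
# The centraliser of one of the 276 is `2^11 : Aut M22`
-/

set_option autoImplicit false
set_option linter.unusedSectionVars false
set_option linter.unusedVariables false

namespace Cfsg.Agent.Lib.J4Big

open Cfsg Cfsg.Agent.Lib.LargeExtraspecial.Basic Cfsg.Agent.Lib.J4Local Cocode

variable {G : Type*} [Group G] [Finite G] {z p : G}
variable {T₀ Uh U0 : Subgroup AutM22}

/-- The centraliser splits over the `2^11` with quotient `Aut M22`. -/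
theorem centT_split (S : Setting z p) (F : AutFacts) (B : NormConfig T₀ Uh U0)
    (Me : MeetConfig Uh U0) (hE : ∃ e ∈ Q z, IsConj z e ∧ e ≠ z) {K : Subgroup G}
    (hKN : K ≤ Subgroup.normalizer (vv S B.toBigConfig : Set G))
    (hK : K ⊓ vv S B.toBigConfig = ⊥)
    (hKs : K ⊔ vv S B.toBigConfig = Subgroup.normalizer (vv S B.toBigConfig : Set G))
    {t : G} (ht : t ∈ dV S B.toBigConfig) :
    ∃ V K : Subgroup G, V ≤ Subgroup.centralizer ({t} : Set G) ∧
      K ≤ Subgroup.centralizer ({t} : Set G) ∧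
      Subgroup.centralizer ({t} : Set G) ≤ Subgroup.normalizer (V : Set G) ∧
      Cfsg.IsElementaryAbelian 2 V ∧ Nat.card ↥V = 2 ^ 11 ∧ K ⊓ V = ⊥ ∧
      K ⊔ V = Subgroup.centralizer ({t} : Set G) ∧ Nonempty (↥K ≃* MulAut ↥Cfsg.Spor.M22) := by
  obtain ⟨ψ, H, h1⟩ := exists_frame_vv S F B hE ht
  set B' := B.toBigConfig
  set V := vv S B'
  obtain ⟨hVc, hV2, -⟩ := vv_facts S F B'
  have hCN := cent_t_le S F B Me hE H h1
  set C := Subgroup.centralizer ({t} : Set G) with hC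
  have hVC : V ≤ C := fun v hv =>
    Subgroup.mem_centralizer_singleton_iff.mpr (comm_of_sq hV2 hv ht.1)
  have hKC : K ⊓ C ≤ cStab S B' t := fun x hx => mem_cStab.mpr
    ⟨hKN hx.1, Subgroup.mem_centralizer_singleton_iff.mp hx.2⟩
  have hdec : ∀ n ∈ cStab S B' t, ∃ k ∈ K ⊓ C, ∃ v ∈ V, n = k * v := by
    intro n hn
    obtain ⟨hnN, hnt⟩ := mem_cStab.mp hn
    rw [← hKs, ← SetLike.mem_coe, Subgroup.coe_mul_of_left_le_normalizer_right K V hKN] at hnN
    obtain ⟨k, hk, v, hv, rfl⟩ := hnN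
    refine ⟨k, ⟨hk, Subgroup.mem_centralizer_singleton_iff.mpr ?_⟩, v, hv, rfl⟩
    have := hnt.mul_left (show Commute v⁻¹ t from
      Commute.inv_left (comm_of_sq hV2 hv ht.1))
    rwa [mul_inv_cancel_right] at this
  have elem : Cfsg.IsElementaryAbelian 2 V :=
    ⟨⟨⟨fun a b => Subtype.ext (comm_of_sq hV2 a.2 b.2)⟩⟩, fun v hv => by rw [pow_two]; exact hV2 v hv⟩
  refine ⟨V, K ⊓ C, hVC, inf_le_right, hCN, elem, hVc, ?_, le_antisymm (sup_le inf_le_right hVC) ?_, ?_⟩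
  · rw [eq_bot_iff, ← hK]
    exact inf_le_inf_right _ inf_le_left
  · intro x hx
    obtain ⟨k, hk, v, hv, rfl⟩ := hdec x (mem_cStab.mpr
      ⟨hCN hx, Subgroup.mem_centralizer_singleton_iff.mp hx⟩)
    exact mul_mem (Subgroup.mem_sup_left hk) (Subgroup.mem_sup_right hv)
  let φ : ↥(K ⊓ C) →* AutM22 := (theta S F B' H h1).comp (Subgroup.inclusion hKC)
  refine ⟨MulEquiv.ofBijective φ ⟨(injective_iff_map_eq_one φ).mpr fun x hx => ?_, fun u => ?_⟩⟩
  · have hm : (x : G) ∈ K ⊓ V := ⟨x.2.1, (theta_ker S F B H h1 _).mp hx⟩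
    rw [hK, Subgroup.mem_bot] at hm
    exact Subtype.ext hm
  · obtain ⟨⟨n, hn⟩, rfl⟩ := theta_surjective S F B hE H h1 u
    obtain ⟨k, hk, v, hv, rfl⟩ := hdec n hn
    refine ⟨⟨k, hk⟩, ?_⟩
    have hv' : v ∈ cStab S B' t := vv_le_cStab S F B' ht.1 hv
    rw [show (⟨k * v, hn⟩ : ↥(cStab S B' t)) = ⟨k, hKC hk⟩ * ⟨v, hv'⟩ from rfl, map_mul,
      (theta_ker S F B H h1 ⟨v, hv'⟩).mpr hv, mul_one]
    rfl

/-- Transport of the split centraliser along a conjugation. -/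
theorem centT_conj {t : G} (g : G) (h : ∃ V K : Subgroup G,
      V ≤ Subgroup.centralizer ({t} : Set G) ∧ K ≤ Subgroup.centralizer ({t} : Set G) ∧
      Subgroup.centralizer ({t} : Set G) ≤ Subgroup.normalizer (V : Set G) ∧
      Cfsg.IsElementaryAbelian 2 V ∧ Nat.card ↥V = 2 ^ 11 ∧ K ⊓ V = ⊥ ∧
      K ⊔ V = Subgroup.centralizer ({t} : Set G) ∧ Nonempty (↥K ≃* MulAut ↥Cfsg.Spor.M22)) :
    ∃ V K : Subgroup G, V ≤ Subgroup.centralizer ({g * t * g⁻¹} : Set G) ∧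
      K ≤ Subgroup.centralizer ({g * t * g⁻¹} : Set G) ∧
      Subgroup.centralizer ({g * t * g⁻¹} : Set G) ≤ Subgroup.normalizer (V : Set G) ∧
      Cfsg.IsElementaryAbelian 2 V ∧ Nat.card ↥V = 2 ^ 11 ∧ K ⊓ V = ⊥ ∧
      K ⊔ V = Subgroup.centralizer ({g * t * g⁻¹} : Set G) ∧
      Nonempty (↥K ≃* MulAut ↥Cfsg.Spor.M22) := by
  obtain ⟨V, K, hV, hK, hN, ⟨-, hel⟩, hc, hb, hs, ⟨e⟩⟩ := h
  set c := (MulAut.conj g).toMonoidHom
  have hinj : Function.Injective c := (MulAut.conj g).injective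
  have hcent : Subgroup.centralizer ({g * t * g⁻¹} : Set G) =
      (Subgroup.centralizer ({t} : Set G)).map c := by
    ext x
    rw [mem_map_conj, Subgroup.mem_centralizer_singleton_iff, Subgroup.mem_centralizer_singleton_iff]
    constructor
    · intro h
      calc g⁻¹ * x * g * t = g⁻¹ * (x * (g * t * g⁻¹)) * g := by group
        _ = t * (g⁻¹ * x * g) := by rw [h]; group
    · intro h
      calc x * (g * t * g⁻¹) = g * (g⁻¹ * x * g * t) * g⁻¹ := by group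
        _ = g * t * g⁻¹ * x := by rw [h]; group
  have hel2 : ∀ v ∈ V.map c, v * v = 1 := by
    rintro _ ⟨v, hv, rfl⟩
    rw [← map_mul, show v * v = 1 by rw [← pow_two]; exact hel v hv, map_one]
  refine ⟨V.map c, K.map c, hcent ▸ Subgroup.map_mono hV, hcent ▸ Subgroup.map_mono hK, ?_,
    ⟨⟨⟨fun a b => Subtype.ext (comm_of_sq hel2 a.2 b.2)⟩⟩,
      fun v hv => by rw [pow_two]; exact hel2 v hv⟩,
    by rw [Subgroup.card_map_of_injective hinj, hc], ?_, ?_,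
    ⟨(K.equivMapOfInjective c hinj).symm.trans e⟩⟩
  · rw [hcent]
    rintro _ ⟨x, hx, rfl⟩
    refine mem_normalizer_map.mpr ?_
    show g⁻¹ * (g * x * g⁻¹) * g ∈ _
    rw [show g⁻¹ * (g * x * g⁻¹) * g = x by group]
    exact hN hx
  · rw [← Subgroup.map_inf _ _ c hinj, hb, Subgroup.map_bot]
  · rw [← Subgroup.map_sup, hs, hcent]

end Cfsg.Agent.Lib.J4Big
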