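import Cfsg.Agent.Lib.J4Big.CentTAct

/-!
# The centraliser of one of the 276 normalises the `2^11`
-/

set_option autoImplicit false
set_option linter.unusedSectionVars false
set_option linter.unusedVariables false

namespace Cfsg.Agent.Lib.J4Big

open Cfsg Cfsg.Agent.Lib.LargeExtraspecial.Basic Cfsg.Agent.Lib.J4Local Cocode Cfsg.Agent.Lib.Golay
open Cfsg.Agent.Lib.J4Local.AutSylow Cfsg.Agent.Lib.J4Local.AutLocal

variable {G : Type*} [Group G] [Finite G] {z p : G}
variable {T₀ Uh U0 : Subgroup AutM22}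

/-- An involution acting on an elementary `2^11` fixes at least 46 vectors. -/
theorem fix_ge_46 {V : Subgroup G} (hV : ∀ a ∈ V, a * a = 1) (hc : Nat.card ↥V = 2 ^ 11) {w : G}
    (hw : ∀ v ∈ V, w * v * w⁻¹ ∈ V) (hw2 : w * w = 1) :
    46 ≤ Nat.card ↥(V ⊓ Subgroup.centralizer ({w} : Set G)) := by
  set A := V ⊓ Subgroup.centralizer ({w} : Set G) with hA
  have hwi : w⁻¹ = w := inv_eq_of_mul_eq_one_right hw2
  let φ : ↥V →* G :=
    { toFun := fun v => v * (w * v * w⁻¹)
      map_one' := by simp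
      map_mul' := fun a b => by
        have h := comm_of_sq hV b.2 (hw a a.2)
        show (a : G) * b * (w * (a * b) * w⁻¹) = a * (w * a * w⁻¹) * (b * (w * b * w⁻¹))
        calc (a : G) * b * (w * (a * b) * w⁻¹)
            = a * ((b : G) * (w * a * w⁻¹)) * (w * b * w⁻¹) := by group
          _ = a * ((w * a * w⁻¹) * b) * (w * b * w⁻¹) := by rw [h]
          _ = _ := by group }
  have hr : φ.range ≤ A := by
    rintro _ ⟨v, rfl⟩
    have hv := hw v v.2
    refine ⟨mul_mem v.2 hv, Subgroup.mem_centralizer_singleton_iff.mpr ?_⟩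
    show (v : G) * (w * v * w⁻¹) * w = w * (v * (w * v * w⁻¹))
    have h := comm_of_sq hV v.2 hv
    calc (v : G) * (w * v * w⁻¹) * w = w * v * w⁻¹ * v * w := by rw [h]
      _ = w * v * (w⁻¹ * v * w) := by group
      _ = w * v * (w * v * w⁻¹) := by rw [hwi]
      _ = _ := by group
  have hk : φ.ker ≤ A.subgroupOf V := fun v hv => by
    have h1 : (v : G) * (w * v * w⁻¹) = 1 := hv
    have h2 : w * v * w⁻¹ = (v : G) := by
      rw [← inv_eq_of_mul_eq_one_right h1, inv_eq_of_mul_eq_one_right (hV v v.2)]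
    exact Subgroup.mem_subgroupOf.mpr
      ⟨v.2, Subgroup.mem_centralizer_singleton_iff.mpr (mul_inv_eq_iff_eq_mul.mp h2).symm⟩
  have e := Subgroup.card_mul_index φ.ker
  rw [Subgroup.index_ker, hc] at e
  have hkA : Nat.card ↥φ.ker ≤ Nat.card ↥A := (Subgroup.card_le_of_le hk).trans_eq
    (Nat.card_congr (Subgroup.subgroupOfEquivOfLe (inf_le_left : A ≤ V)).toEquiv)
  have hrA : Nat.card ↥φ.range ≤ Nat.card ↥A := Subgroup.card_le_of_le hr
  have := Nat.mul_le_mul hkA hrA
  rw [e] at this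
  by_contra hlt
  push Not at hlt
  nlinarith

/-- Exponent two subgroups inside the inner automorphisms have order at most 16. -/
theorem exp2_le_16 (F : AutFacts) {X : Subgroup AutM22} (hX : IsExp2 X) (hi : X ≤ inn) :
    Nat.card ↥X ≤ 16 := by
  have h32 := F.exp2_card X hX
  have hne : Nat.card ↥X ≠ 32 := fun e => by
    have := F.exp2_inn X hX e
    rw [inf_eq_left.mpr hi, e] at this
    norm_num at this
  obtain ⟨k, hk⟩ := AutTwo.card_exp2 hX
  rw [hk] at hne h32 ⊢
  have : k ≤ 5 := by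
    by_contra hgt
    have : 2 ^ 6 ≤ 2 ^ k := Nat.pow_le_pow_right (by norm_num) (by omega : 6 ≤ k)
    omega
  interval_cases k <;> simp_all

section Frame

variable {V : Subgroup G} {D : Set G} {ψ : ℕ → G} (H : IsFrame V D ψ) {t : G} (h1 : ψ 1 = t)

theorem pt_zero (h1 : ψ 1 = t) : Pt ψ (some 0) = t := h1

/-- An element pairing badly with `t` is one point vector, up to `t`. -/
theorem exists_point (H : IsFrame V D ψ) (h1 : ψ 1 = t) {j : G} (hj : j ∈ D) (hjt : j * t ∈ D) :
    ∃ a : GolayPt, a ≠ none ∧ a ≠ some 0 ∧ (j = Pt ψ a ∨ j = Pt ψ a * t) := by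
  obtain ⟨a, b, hab, rfl⟩ := H.exists_pair hj
  have h0 : Pt ψ none * Pt ψ (some 0) = t := by rw [H.pt_none, one_mul, pt_zero h1]
  have hn : (none : GolayPt) ≠ some 0 := (Option.some_ne_none _).symm
  have key : ∀ x y : GolayPt, x ≠ y → Pt ψ x * Pt ψ y * t ∈ D → x = none ∨ x = some 0 →
      ∃ a : GolayPt, a ≠ none ∧ a ≠ some 0 ∧
        (Pt ψ x * Pt ψ y = Pt ψ a ∨ Pt ψ x * Pt ψ y = Pt ψ a * t) := by
    intro x y hxy hd hx
    have hy : y ≠ none ∧ y ≠ some 0 := by
      by_contra hcon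
      have : y = none ∨ y = some 0 := by tauto
      have e : Pt ψ x * Pt ψ y = t := by
        rcases hx with rfl | rfl <;> rcases this with rfl | rfl
        · exact absurd rfl hxy
        · exact h0
        · rw [H.pt_none, mul_one, pt_zero h1]
        · exact absurd rfl hxy
      rw [e, show t * t = 1 by rw [← pt_zero h1, H.pt_sq]] at hd
      have hb := (H.mem_D 0 (by norm_num)).mp (by rw [H.psi_zero]; exact hd)
      exact absurd hb (by decide +kernel)
    refine ⟨y, hy.1, hy.2, ?_⟩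
    rcases hx with rfl | rfl
    · left; rw [H.pt_none, one_mul]
    · right; rw [pt_zero h1]; exact H.comm (pt_zero h1 ▸ H.pt_mem _) (H.pt_mem _)
  rcases H.share hab hn (by rw [h0]; exact hjt) with h | h | h | h
  · exact key a b hab hjt (Or.inl h)
  · exact key a b hab hjt (Or.inr h)
  all_goals
    rw [H.comm (H.pt_mem a) (H.pt_mem b)] at hjt ⊢
  · exact key b a hab.symm hjt (Or.inl h)
  · exact key b a hab.symm hjt (Or.inr h)

/-- A subgroup containing `t` inside `D ∪ 1` lies in a group of order four. -/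
theorem small_sub (H : IsFrame V D ψ) (h1 : ψ 1 = t) {I : Subgroup G} (htI : t ∈ I)
    (hI : ∀ x ∈ I, x = 1 ∨ x ∈ D) :
    ∃ a : GolayPt, a ≠ none ∧ a ≠ some 0 ∧
      ∀ x ∈ I, x = 1 ∨ x = t ∨ x = Pt ψ a ∨ x = Pt ψ a * t := by
  have ht2 : t * t = 1 := by rw [← pt_zero h1, H.pt_sq]
  by_cases hsmall : ∀ x ∈ I, x = 1 ∨ x = t
  · exact ⟨some 1, by decide, by decide, fun x hx => (hsmall x hx).elim Or.inl (Or.inr ∘ Or.inl)⟩
  push Not at hsmall
  have hpt : ∀ x ∈ I, x ≠ 1 → x ≠ t → ∃ a : GolayPt, a ≠ none ∧ a ≠ some 0 ∧ Pt ψ a ∈ I ∧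
      (x = Pt ψ a ∨ x = Pt ψ a * t) := by
    intro x hx hx1 hxt
    have hd : x * t ∈ D := (hI _ (mul_mem hx htI)).resolve_left fun e => hxt (by
      rw [eq_inv_of_mul_eq_one_left e, inv_eq_of_mul_eq_one_right ht2])
    obtain ⟨a, ha, ha0, hxa⟩ := exists_point H h1 ((hI x hx).resolve_left hx1) hd
    refine ⟨a, ha, ha0, ?_, hxa⟩
    rcases hxa with e | e
    · exact e ▸ hx
    · rw [show Pt ψ a = x * t by rw [e, mul_assoc, ht2, mul_one]]
      exact mul_mem hx htI
  obtain ⟨x₀, hx₀, hx₀1, hx₀t⟩ := hsmall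
  obtain ⟨a, ha, ha0, haI, -⟩ := hpt x₀ hx₀ hx₀1 hx₀t
  refine ⟨a, ha, ha0, fun x hx => ?_⟩
  by_cases hx1 : x = 1
  · exact Or.inl hx1
  by_cases hxt : x = t
  · exact Or.inr (Or.inl hxt)
  obtain ⟨b, hb, hb0, hbI, hxb⟩ := hpt x hx hx1 hxt
  by_cases hab : a = b
  · subst hab
    exact Or.inr (Or.inr hxb)
  exfalso
  have h0 : Pt ψ none * Pt ψ (some 0) = t := by rw [H.pt_none, one_mul, pt_zero h1]
  have hn : (none : GolayPt) ≠ some 0 := (Option.some_ne_none _).symm
  rcases hI _ (mul_mem (mul_mem haI hbI) htI) with e | e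
  · rcases H.pair_unique hab hn (by
      rw [h0, eq_inv_of_mul_eq_one_left e, inv_eq_of_mul_eq_one_right ht2]) with ⟨u, -⟩ | ⟨u, -⟩
    · exact ha u
    · exact ha0 u
  · rw [← h0] at e
    rcases H.share hab hn e with u | u | u | u
    exacts [ha u, ha0 u, hb u, hb0 u]

end Frame

section Main

variable (S : Setting z p) (F : AutFacts) (B : NormConfig T₀ Uh U0) (Me : MeetConfig Uh U0)
variable (hE : ∃ e ∈ Q z, IsConj z e ∧ e ≠ z)
variable {ψ : ℕ → G} (H : IsFrame (vv S B.toBigConfig) (dV S B.toBigConfig) ψ) {t : G}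
variable (h1 : ψ 1 = t)

theorem t_mem_dV (H : IsFrame (vv S B.toBigConfig) (dV S B.toBigConfig) ψ) (h1 : ψ 1 = t) : t ∈ dV S B.toBigConfig := by
  rw [← h1]
  exact (H.mem_D 1 (by norm_num)).mpr (by decide +kernel)

theorem not_oV_cases {x : G} (hx : x ∈ vv S B.toBigConfig) (h : x ∉ oV S B.toBigConfig) :
    x = 1 ∨ x ∈ dV S B.toBigConfig := by
  by_cases hx1 : x = 1
  · exact Or.inl hx1
  · exact Or.inr ⟨hx, hx1, fun hc => h ⟨hx, hc⟩⟩

include F Me hE H h1

/-- The vectors that a bad element keeps in the `2^11`. -/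
theorem keep_small {h : G} (hh : Commute h t)
    (hN : h ∉ Subgroup.normalizer (vv S B.toBigConfig : Set G)) :
    ∃ a : GolayPt, a ≠ none ∧ a ≠ some 0 ∧ ∀ x ∈ vv S B.toBigConfig,
      h * x * h⁻¹ ∈ vv S B.toBigConfig → x = 1 ∨ x = t ∨ x = Pt ψ a ∨ x = Pt ψ a * t := by
  set I := vv S B.toBigConfig ⊓ (vv S B.toBigConfig).comap (MulAut.conj h).toMonoidHom with hI
  have ht := t_mem_dV S B H h1
  have htI : t ∈ I := ⟨ht.1, by
    show h * t * h⁻¹ ∈ vv S B.toBigConfig
    rw [mul_inv_eq_iff_eq_mul.mpr hh.eq]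
    exact ht.1⟩
  obtain ⟨a, ha, ha0, hall⟩ := small_sub H h1 htI (fun x hx => by
    refine not_oV_cases S B hx.1 fun hxo => hN ?_
    have hxh : h * x * h⁻¹ ∈ oV S B.toBigConfig := ⟨hx.2, isConj_conj_iff.mpr hxo.2⟩
    refine mem_normalizer_of_map_le S F B.toBigConfig fun v hv => good S F B Me hE ht hxh ?_ ?_
    · have := (Commute.map (comm_of_sq (vv_facts S F B.toBigConfig).2.1 hv ht.1)
        (MulAut.conj h).toMonoidHom)
      simpa [mul_inv_eq_iff_eq_mul.mpr hh.eq] using this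
    · exact Commute.map (comm_of_sq (vv_facts S F B.toBigConfig).2.1 hv hx.1) (MulAut.conj h).toMonoidHom)
  exact ⟨a, ha, ha0, fun x hx hx' => hall x ⟨hx, hx'⟩⟩

/-- The pullback of the fixed vectors of a bad element: bound by its image. -/
theorem card_fix_le {h v : G} (hh : Commute h t) (hv : v ∈ oV S B.toBigConfig)
    (hN : h ∉ Subgroup.normalizer (vv S B.toBigConfig : Set G)) :
    ∃ X : Subgroup AutM22, IsExp2 X ∧
      (∀ u ∈ X, ∃ c : ↥(cStab S B.toBigConfig t), theta S F B.toBigConfig H h1 c = u ∧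
        Commute (c : G) v ∧ h * (c : G) * h⁻¹ ∈ vv S B.toBigConfig ∧
        Commute (h * (c : G) * h⁻¹) (h * v * h⁻¹)) ∧
      (Nat.card ↥(vv S B.toBigConfig ⊓ Subgroup.centralizer ({h * v * h⁻¹} : Set G)) ≤
        Nat.card ↥X * 4) ∧
      (Nat.card ↥(vv S B.toBigConfig ⊓ Subgroup.centralizer ({h * v * h⁻¹} : Set G)) ≤
        Nat.card ↥X * 2 ∨ X ≤ inn) := by
  classical
  set θ := theta S F B.toBigConfig H h1
  obtain ⟨hVc, hV2, -⟩ := vv_facts S F B.toBigConfig
  have ht := t_mem_dV S B H h1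
  set A := vv S B.toBigConfig ⊓ Subgroup.centralizer ({h * v * h⁻¹} : Set G) with hA
  have hmem : ∀ a ∈ A, Commute (h⁻¹ * a * h) t ∧ Commute (h⁻¹ * a * h) v := by
    intro a ha
    have h2 : Commute a (h * v * h⁻¹) := Subgroup.mem_centralizer_singleton_iff.mp ha.2
    have h3 := Commute.map (comm_of_sq hV2 ha.1 ht.1) (MulAut.conj h⁻¹).toMonoidHom
    have h4 := h2.map (MulAut.conj h⁻¹).toMonoidHom
    have e : h⁻¹ * t * h = t := by rw [mul_assoc, ← hh.eq, inv_mul_cancel_left]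
    constructor
    · simpa [e] using h3
    · simpa [mul_assoc] using h4
  have hA' : ∀ a ∈ A, h⁻¹ * a * h ∈ cStab S B.toBigConfig t := fun a ha =>
    mem_cStab.mpr ⟨good S F B Me hE ht hv (hmem a ha).1 (hmem a ha).2, (hmem a ha).1⟩
  let f : ↥A →* ↥(cStab S B.toBigConfig t) :=
    { toFun := fun a => ⟨h⁻¹ * a * h, hA' a a.2⟩
      map_one' := Subtype.ext (by simp)
      map_mul' := fun a b => Subtype.ext (by simp [mul_assoc]) }
  have hfinj : Function.Injective f := fun a b e =>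
    Subtype.ext (mul_left_cancel (mul_right_cancel (congrArg Subtype.val e)))
  set g := θ.comp f with hg
  refine ⟨g.range, ?_, ?_, ?_⟩
  · rintro _ ⟨a, rfl⟩
    rw [← map_mul, show a * a = 1 from Subtype.ext (hV2 a a.2.1), map_one]
  · rintro _ ⟨a, rfl⟩
    refine ⟨f a, rfl, (hmem a a.2).2, ?_, ?_⟩
    · show h * (h⁻¹ * a * h) * h⁻¹ ∈ vv S B.toBigConfig
      simpa [mul_assoc] using a.2.1
    · show Commute (h * (h⁻¹ * a * h) * h⁻¹) _
      simpa [mul_assoc, Commute, SemiconjBy] using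
        Subgroup.mem_centralizer_singleton_iff.mp a.2.2
  obtain ⟨c, hc, hc0, hall⟩ := keep_small S F B Me hE H h1 hh hN
  have hker : ∀ a ∈ g.ker, (f a : G) = 1 ∨ (f a : G) = t ∨ (f a : G) = Pt ψ c ∨
      (f a : G) = Pt ψ c * t := fun a ha => by
    refine hall _ ((theta_ker S F B H h1 (f a)).mp ha) ?_
    show h * (h⁻¹ * a * h) * h⁻¹ ∈ vv S B.toBigConfig
    simpa [mul_assoc] using a.2.1
  have e := Subgroup.card_mul_index g.ker
  rw [Subgroup.index_ker] at e
  have hval : Function.Injective fun a : ↥g.ker => (f a : G) := fun a b h =>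
    Subtype.ext (hfinj (Subtype.ext h))
  have bound : ∀ s : Finset G, (∀ a ∈ g.ker, (f a : G) ∈ s) → Nat.card ↥g.ker ≤ s.card := by
    intro s hs
    have := Nat.card_le_card_of_injective
      (fun a : ↥g.ker => (⟨(f a : G), hs a a.2⟩ : s)) fun a b e' =>
        hval (congrArg Subtype.val e' :)
    simpa using this
  have h4 : Nat.card ↥g.ker ≤ 4 := (bound {1, t, Pt ψ c, Pt ψ c * t} fun a ha => by
    simpa using hker a ha).trans Finset.card_le_four
  refine ⟨?_, ?_⟩
  · rw [← e, mul_comm]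
    exact Nat.mul_le_mul_left _ h4
  by_cases hsm : ∀ a ∈ g.ker, (f a : G) = 1 ∨ (f a : G) = t
  · left
    rw [← e, mul_comm]
    exact Nat.mul_le_mul_left _ ((bound {1, t} fun a ha => by simpa using hsm a ha).trans
      Finset.card_le_two)
  · right
    push Not at hsm
    obtain ⟨a₀, ha₀, hne1, hnet⟩ := hsm
    rintro _ ⟨a, rfl⟩
    have hcomm : Commute (f a : G) (f a₀ : G) := by
      have : Commute a a₀ := Subtype.ext (comm_of_sq hV2 a.2.1 a₀.2.1)
      exact congrArg Subtype.val (this.map f).eq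
    have hct : Commute (f a : G) t := (hmem a a.2).1
    have hP : Commute (f a : G) (Pt ψ c) := by
      rcases (hker a₀ ha₀).resolve_left hne1 |>.resolve_left hnet with e' | e'
      · exact e' ▸ hcomm
      · rw [show Pt ψ c = (f a₀ : G) * t by
          rw [e', mul_assoc, show t * t = 1 from hV2 t ht.1, mul_one]]
        exact hcomm.mul_right hct
    exact fix_inner S F B.toBigConfig H h1 (f a) hc hc0 hP

/-- An inner image of an involution fixes at least 128 vectors. -/
theorem card_fix_inner (w : ↥(cStab S B.toBigConfig t))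
    (hi : theta S F B.toBigConfig H h1 w ∈ inn)
    (ho : orderOf (theta S F B.toBigConfig H h1 w) = 2) :
    128 ≤ Nat.card ↥(vv S B.toBigConfig ⊓ Subgroup.centralizer ({(w : G)} : Set G)) := by
  obtain ⟨c, -, hc⟩ := conj_zA hi ho
  obtain ⟨m, hm⟩ := theta_surjective S F B hE H h1 c
  set x := m⁻¹ * w * m with hx
  have hθ : theta S F B.toBigConfig H h1 x = zA := by
    rw [hx, map_mul, map_mul, map_inv, hm, ← hc]
    group
  refine (card_fix_zA S F B.toBigConfig H h1 x hθ).trans ?_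
  have hmN := (mem_cStab.mp m.2).1
  have hle : (vv S B.toBigConfig ⊓ Subgroup.centralizer ({(x : G)} : Set G)).map
      (MulAut.conj (m : G)).toMonoidHom ≤
        vv S B.toBigConfig ⊓ Subgroup.centralizer ({(w : G)} : Set G) := by
    rintro _ ⟨v, ⟨hv, hvc⟩, rfl⟩
    refine ⟨(Subgroup.mem_normalizer_iff.mp hmN v).mp hv, ?_⟩
    have h := (show Commute v (x : G) from Subgroup.mem_centralizer_singleton_iff.mp hvc).map
      (MulAut.conj (m : G)).toMonoidHom
    refine Subgroup.mem_centralizer_singleton_iff.mpr ?_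
    simpa [hx, mul_assoc, Commute, SemiconjBy] using h
  have := Subgroup.card_le_of_le hle
  rwa [Subgroup.card_map_of_injective (MulAut.conj (m : G)).injective] at this

/-- A conjugate in the stabiliser of a conjugate of `z` lies in the `2^11`. -/
theorem no_bad {h v : G} (hh : Commute h t) (hv : v ∈ oV S B.toBigConfig)
    (hw : h * v * h⁻¹ ∈ Subgroup.normalizer (vv S B.toBigConfig : Set G)) :
    h * v * h⁻¹ ∈ vv S B.toBigConfig := by
  set θ := theta S F B.toBigConfig H h1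
  obtain ⟨hVc, hV2, -⟩ := vv_facts S F B.toBigConfig
  have ht := t_mem_dV S B H h1
  have hset : ∀ {h' v' : G}, Commute h' t → v' ∈ oV S B.toBigConfig →
      h' * v' * h'⁻¹ ∈ Subgroup.normalizer (vv S B.toBigConfig : Set G) →
      h' * v' * h'⁻¹ ∈ cStab S B.toBigConfig t := fun {h' v'} hh' hv' hw' => by
    refine mem_cStab.mpr ⟨hw', ?_⟩
    exact (hh'.mul_left (comm_of_sq hV2 hv'.1 ht.1)).mul_left hh'.inv_left
  have hNo : ∀ {h' v' : G}, v' ∈ oV S B.toBigConfig → h' * v' * h'⁻¹ ∉ vv S B.toBigConfig →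
      h' ∉ Subgroup.normalizer (vv S B.toBigConfig : Set G) := fun {h' v'} hv' hn hN =>
    hn ((Subgroup.mem_normalizer_iff.mp hN v').mp hv'.1)
  have hord : ∀ {h' v' : G} (hv' : v' ∈ oV S B.toBigConfig) (hc : h' * v' * h'⁻¹ ∈ cStab S B.toBigConfig t),
      h' * v' * h'⁻¹ ∉ vv S B.toBigConfig → orderOf (θ ⟨_, hc⟩) = 2 := fun {h' v'} hv' hc hn => by
    refine orderOf_eq_prime ?_ fun e => hn ((theta_ker S F B H h1 _).mp e)
    rw [pow_two, ← map_mul, show (⟨_, hc⟩ : ↥(cStab S B.toBigConfig t)) * ⟨_, hc⟩ = 1 from Subtype.ext (by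
      show h' * v' * h'⁻¹ * (h' * v' * h'⁻¹) = 1
      rw [show h' * v' * h'⁻¹ * (h' * v' * h'⁻¹) = h' * (v' * v') * h'⁻¹ by group, hV2 v' hv'.1]
      group), map_one]
  -- inner case
  have inner : ∀ {h' v' : G}, Commute h' t → v' ∈ oV S B.toBigConfig →
      (hc : h' * v' * h'⁻¹ ∈ cStab S B.toBigConfig t) → θ ⟨_, hc⟩ ∈ inn → h' * v' * h'⁻¹ ∈ vv S B.toBigConfig := by
    intro h' v' hh' hv' hc hi
    by_contra hn
    have h128 := card_fix_inner S F B Me hE H h1 ⟨_, hc⟩ hi (hord hv' hc hn)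
    obtain ⟨X, hX, -, hb4, hb2⟩ := card_fix_le S F B Me hE H h1 hh' hv' (hNo hv' hn)
    have h32 := F.exp2_card X hX
    rcases hb2 with h2 | h2
    · simp only at h128
      omega
    · have := exp2_le_16 F hX h2
      simp only at h128
      omega
  by_contra hn
  have hc := hset hh hv hw
  have houter : θ ⟨_, hc⟩ ∉ inn := fun hi => hn (inner hh hv hc hi)
  obtain ⟨X, hX, hXel, hb4, -⟩ := card_fix_le S F B Me hE H h1 hh hv (hNo hv hn)
  have hXi : ∀ u ∈ X, u ∈ inn → u = 1 := by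
    intro u hu hui
    obtain ⟨c, hcu, hcv, ha, hac⟩ := hXel u hu
    by_contra hu1
    have hcV : (c : G) ∉ vv S B.toBigConfig := fun hm => hu1 (by rw [← hcu]; exact (theta_ker S F B H h1 c).mpr hm)
    set a := h * (c : G) * h⁻¹ with hadef
    have ea : h⁻¹ * a * h⁻¹⁻¹ = (c : G) := by rw [hadef]; group
    have hhi : Commute h⁻¹ t := hh.inv_left
    have hti : h⁻¹ * t * h⁻¹⁻¹ = t := mul_inv_eq_iff_eq_mul.mpr hhi.eq
    -- neither `a` nor `a * t` is a conjugate of `z`
    have hao : a ∉ oV S B.toBigConfig := fun hao => by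
      refine hcV (ea ▸ inner hhi hao (by rw [ea]; exact c.2) ?_)
      simp only [ea, Subtype.coe_eta]
      exact hcu ▸ hui
    have hato : a * t ∉ oV S B.toBigConfig := fun hato => by
      have e : h⁻¹ * (a * t) * h⁻¹⁻¹ = (c : G) * t := by
        rw [← ea]
        conv_rhs => rw [← hti]
        group
      have htC : t ∈ cStab S B.toBigConfig t := vv_le_cStab S F B.toBigConfig ht.1 ht.1
      have hm := inner hhi hato (by rw [e]; exact mul_mem c.2 htC) (by
        simp only [e]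
        rw [show (⟨(c : G) * t, _⟩ : ↥(cStab S B.toBigConfig t)) = c * ⟨t, htC⟩ from rfl, map_mul,
          (theta_ker S F B H h1 ⟨t, htC⟩).mpr ht.1, mul_one]
        exact hcu ▸ hui)
      rw [e] at hm
      exact hcV (by simpa [mul_assoc, hV2 t ht.1] using mul_mem hm ht.1)
    have ht2 : t * t = 1 := hV2 t ht.1
    rcases not_oV_cases S B ha hao with e | haD
    · exact hcV (by rw [← ea, e]; simp)
    rcases not_oV_cases S B (mul_mem ha ht.1) hato with e | hatD
    · have e' : a = t := by rw [eq_inv_of_mul_eq_one_left e, inv_eq_of_mul_eq_one_right ht2]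
      exact hcV (by rw [← ea, e', hti]; exact ht.1)
    obtain ⟨q, hq, hq0, hq'⟩ := exists_point H h1 haD hatD
    refine houter (fix_inner S F B.toBigConfig H h1 ⟨_, hc⟩ hq hq0 ?_)
    have hwt : Commute (h * v * h⁻¹) t := (mem_cStab.mp hc).2
    rcases hq' with e | e
    · exact e ▸ hac.symm
    · rw [show Pt ψ q = a * t by rw [e, mul_assoc, ht2, mul_one]]
      exact hac.symm.mul_right hwt
  have hX2 : Nat.card ↥X ≤ 2 := by
    classical
    rw [← Nat.card_fin 2]
    refine Nat.card_le_card_of_injective (fun u : ↥X => if (u : AutM22) ∈ inn then (0 : Fin 2) else 1) ?_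
    intro a b e
    by_cases ha : (a : AutM22) ∈ inn <;> by_cases hb : (b : AutM22) ∈ inn <;>
      simp [ha, hb] at e
    · exact Subtype.ext ((hXi _ a.2 ha).trans (hXi _ b.2 hb).symm)
    · have hab := hXi _ (mul_mem a.2 b.2)
        ((Subgroup.mul_mem_iff_of_index_two AutLocal.inn_index).mpr (by simp [ha, hb]))
      exact Subtype.ext (by
        rw [eq_inv_of_mul_eq_one_left hab, inv_eq_of_mul_eq_one_right (hX _ b.2)])
  have h46 := fix_ge_46 hV2 hVc (w := h * v * h⁻¹)
    (fun x hx => (Subgroup.mem_normalizer_iff.mp hw x).mp hx)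
    (by rw [show h * v * h⁻¹ * (h * v * h⁻¹) = h * (v * v) * h⁻¹ by group, hV2 v hv.1]; group)
  have h46' : 46 ≤ Nat.card ↥X * 4 := h46.trans hb4
  omega

/-- The centraliser of one of the 276 normalises the `2^11`. -/
theorem cent_t_le : Subgroup.centralizer ({t} : Set G) ≤
    Subgroup.normalizer (vv S B.toBigConfig : Set G) := by
  obtain ⟨hVc, hV2, -⟩ := vv_facts S F B.toBigConfig
  have ht := t_mem_dV S B H h1
  have ht2 : t * t = 1 := hV2 t ht.1
  intro g hg
  have hgt : Commute g t := Subgroup.mem_centralizer_singleton_iff.mp hg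
  by_contra hgN
  have hbit : dGood.testBit 14 = false ∧ dGood.testBit 15 = false := by decide +kernel
  have hz0 : ∀ a, a < 2048 → a ≠ 0 → dGood.testBit a = false → ψ a ∈ oV S B.toBigConfig := fun a ha h0 hb => by
    by_contra hno
    rcases not_oV_cases S B (H.mem a) hno with e | e
    · exact h0 (H.inj a 0 ha (by norm_num) (e.trans H.psi_zero.symm))
    · rw [H.mem_D a ha, hb] at e
      exact Bool.false_ne_true e
  set z0 := ψ 14
  have hz0o : z0 ∈ oV S B.toBigConfig := hz0 14 (by norm_num) (by norm_num) hbit.1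
  have hz0t : z0 * t ∈ oV S B.toBigConfig := by
    rw [← h1, ← H.mul 14 1 (by norm_num) (by norm_num)]
    exact hz0 15 (by norm_num) (by norm_num) hbit.2
  -- a conjugate of `z0` outside the `2^11`
  obtain ⟨h, hh, hb⟩ : ∃ h, Commute h t ∧ h * z0 * h⁻¹ ∉ vv S B.toBigConfig := by
    by_contra hcon
    push Not at hcon
    refine hgN (mem_normalizer_of_map_le S F B.toBigConfig fun v hv => good S F B Me hE ht hz0o ?_ ?_)
    · exact (hgt.mul_left (comm_of_sq hV2 hv ht.1)).mul_left hgt.inv_left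
    · have := (show Commute v (g⁻¹ * z0 * g⁻¹⁻¹) from comm_of_sq hV2 hv (hcon g⁻¹ hgt.inv_left)).map
        (MulAut.conj g).toMonoidHom
      simpa [mul_assoc] using this
  set b := h * z0 * h⁻¹ with hbdef
  have hbt : Commute b t := (hh.mul_left (comm_of_sq hV2 hz0o.1 ht.1)).mul_left hh.inv_left
  have hbN : b ∉ Subgroup.normalizer (vv S B.toBigConfig : Set G) := fun hN =>
    hb (no_bad S F B Me hE H h1 hh hz0o hN)
  set I := vv S B.toBigConfig ⊓ Subgroup.centralizer ({b} : Set G) with hI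
  obtain ⟨c, hc, hc0, hall⟩ := small_sub H h1 (I := I)
    ⟨ht.1, Subgroup.mem_centralizer_singleton_iff.mpr hbt.eq.symm⟩ fun x hx =>
      not_oV_cases S B hx.1 fun hxo => hbN (good S F B Me hE ht hxo hbt
        (Subgroup.mem_centralizer_singleton_iff.mp hx.2).symm)
  obtain ⟨d, hd, hd0, hdc⟩ : ∃ d : GolayPt, d ≠ none ∧ d ≠ some 0 ∧ d ≠ c := by
    by_cases h' : c = some 1
    · exact ⟨some 2, by decide, by decide, by rw [h']; decide⟩
    · exact ⟨some 1, by decide, by decide, Ne.symm h'⟩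
  have h0 : Pt ψ none * Pt ψ (some 0) = t := by rw [H.pt_none, one_mul, pt_zero h1]
  have hn : (none : GolayPt) ≠ some 0 := (Option.some_ne_none _).symm
  set y := Pt ψ c * Pt ψ d * t with hy
  have cm : ∀ {a b : G}, a ∈ vv S B.toBigConfig → b ∈ vv S B.toBigConfig → a * b = b * a := fun ha hb =>
    comm_of_sq hV2 ha hb
  have hyV : y ∈ vv S B.toBigConfig := mul_mem (mul_mem (H.pt_mem c) (H.pt_mem d)) ht.1
  have hyo : y ∈ oV S B.toBigConfig := by
    by_contra hno
    rcases not_oV_cases S B hyV hno with e | e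
    · rcases H.pair_unique hdc.symm hn (by
        rw [h0, eq_inv_of_mul_eq_one_left e, inv_eq_of_mul_eq_one_right ht2]) with ⟨u, -⟩ | ⟨u, -⟩
      exacts [hc u, hc0 u]
    · rw [hy, ← h0] at e
      rcases H.share hdc.symm hn e with u | u | u | u
      exacts [hc u, hc0 u, hd u, hd0 u]
  have hyt : y * t ∈ dV S B.toBigConfig := by
    rw [hy, mul_assoc, ht2, mul_one]
    exact H.pair_mem hdc.symm
  have hyI : ∀ k ∈ I, k ≠ 1 → ¬ IsConj z (k * y) := by
    intro k hk hk1
    rw [cm hk.1 hyV]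
    rcases (hall k hk).resolve_left hk1 with rfl | rfl | rfl
    · exact hyt.2.2
    · have e : y * Pt ψ c = Pt ψ (some 0) * Pt ψ d := by
        rw [pt_zero h1, cm hyV (H.pt_mem c), hy, ← mul_assoc, ← mul_assoc, H.pt_sq, one_mul,
          cm (H.pt_mem d) ht.1]
      rw [e]
      exact (H.pair_mem hd0.symm).2.2
    · have e : y * (Pt ψ c * t) = Pt ψ none * Pt ψ d := by
        rw [cm hyV (mul_mem (H.pt_mem c) ht.1), hy, H.pt_none, one_mul,
          cm (H.pt_mem c) ht.1]
        rw [show t * Pt ψ c * (Pt ψ c * Pt ψ d * t) = t * (Pt ψ c * Pt ψ c) * (Pt ψ d * t) by group,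
          H.pt_sq, mul_one, cm (H.pt_mem d) ht.1, ← mul_assoc, ht2, one_mul]
      rw [e]
      exact (H.pair_mem hd.symm).2.2
  clear_value y
  have hy2 : y * y = 1 := hV2 y hyV
  have hb2 : b * b = 1 := by
    rw [hbdef, show h * z0 * h⁻¹ * (h * z0 * h⁻¹) = h * (z0 * z0) * h⁻¹ by group, hV2 z0 hz0o.1]
    group
  have hyT : Commute y t := comm_of_sq hV2 hyV ht.1
  set r := y * b with hr
  have hrt : Commute r t := hyT.mul_left hbt
  have hrinv : y * r * y⁻¹ = r⁻¹ := by
    rw [hr, mul_inv_rev, inv_eq_of_mul_eq_one_right hy2, inv_eq_of_mul_eq_one_right hb2,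
      ← mul_assoc y y, hy2, one_mul]
  have hswap : ∀ j : ℤ, y * r ^ (-j) = r ^ j * y := fun j => by
    have : y * r ^ (-j) * y⁻¹ = r ^ j := by
      rw [← MulAut.conj_apply, map_zpow, MulAut.conj_apply, hrinv, inv_zpow', neg_neg]
    rw [← this, inv_mul_cancel_right]
  have hrk : ∀ j : ℤ, r ^ j * y * (r ^ j)⁻¹ = r ^ (2 * j) * y := fun j => by
    rw [← zpow_neg, mul_assoc, hswap, ← mul_assoc, ← zpow_add, two_mul]
  have hry : r * y = y * b * y⁻¹ := by rw [hr, inv_eq_of_mul_eq_one_right hy2]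
  rcases Nat.even_or_odd (orderOf r) with ⟨m, hm⟩ | ⟨m, hm⟩
  · have hm0 : 0 < m := by
      have := orderOf_pos r
      omega
    set k := r ^ (m : ℤ) with hk
    have hk2 : k * k = 1 := by
      rw [hk, ← zpow_add, ← Nat.cast_add, zpow_natCast, ← hm, pow_orderOf_eq_one]
    have hk1 : k ≠ 1 := fun e => by
      rw [hk, zpow_natCast] at e
      have := Nat.le_of_dvd hm0 (orderOf_dvd_of_pow_eq_one e)
      omega
    have hky : Commute k y := by
      show k * y = y * k
      rw [hk, ← hswap (m : ℤ), zpow_neg, ← hk, inv_eq_of_mul_eq_one_right hk2]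
    have hkb : Commute k b := by
      have : b = y * r := by rw [hr, ← mul_assoc, hy2, one_mul]
      rw [this]
      exact hky.mul_right ((Commute.refl r).zpow_left _)
    have hkt : Commute k t := hrt.zpow_left _
    have hkN : k ∈ Subgroup.normalizer (vv S B.toBigConfig : Set G) := good S F B Me hE ht hyo hkt hky
    obtain ⟨g', v', hg', hv', he⟩ : ∃ g' v', Commute g' t ∧ v' ∈ oV S B.toBigConfig ∧
        g' * v' * g'⁻¹ = k * y := by
      rcases Nat.even_or_odd m with ⟨j, hj⟩ | ⟨j, hj⟩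
      · refine ⟨r ^ (j : ℤ), y, hrt.zpow_left _, hyo, ?_⟩
        rw [hrk, hk, hj, Nat.cast_add, two_mul]
      · refine ⟨r ^ (j : ℤ) * y * h, z0, ((hrt.zpow_left _).mul_left hyT).mul_left hh, hz0o, ?_⟩
        calc r ^ (j : ℤ) * y * h * z0 * (r ^ (j : ℤ) * y * h)⁻¹
            = r ^ (j : ℤ) * (y * b * y⁻¹) * (r ^ (j : ℤ))⁻¹ := by rw [hbdef]; group
          _ = r * (r ^ (j : ℤ) * y * (r ^ (j : ℤ))⁻¹) := by
              rw [← hry, ← mul_assoc (r ^ (j : ℤ)) r y, ← zpow_add_one, add_comm, zpow_one_add]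
              group
          _ = k * y := by
              rw [hrk, ← mul_assoc, ← zpow_one_add, hk, hj]
              push_cast
              rw [add_comm]
    have hmem := no_bad S F B Me hE H h1 hg' hv'
      (by rw [he]; exact mul_mem hkN (Subgroup.le_normalizer hyV))
    rw [he] at hmem
    have hkV : k ∈ vv S B.toBigConfig := by
      simpa [mul_assoc, hy2] using mul_mem hmem hyV
    refine hyI k ⟨hkV, Subgroup.mem_centralizer_singleton_iff.mpr hkb.eq⟩ hk1 ?_
    rw [← he]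
    exact isConj_conj_iff.mpr hv'.2
  · -- odd order: `y` and `b` are conjugate
    have e1 : r ^ ((m : ℤ) + 1) * b * (r ^ ((m : ℤ) + 1))⁻¹ = y := by
      have hb' : b = r ^ (-1 : ℤ) * y := by
        rw [zpow_neg_one, hr, mul_inv_rev, inv_eq_of_mul_eq_one_right hy2,
          inv_eq_of_mul_eq_one_right hb2, mul_assoc, hy2, mul_one]
      rw [hb', show r ^ ((m : ℤ) + 1) * (r ^ (-1 : ℤ) * y) * (r ^ ((m : ℤ) + 1))⁻¹
        = r ^ (-1 : ℤ) * (r ^ ((m : ℤ) + 1) * y * (r ^ ((m : ℤ) + 1))⁻¹) by group, hrk,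
        ← mul_assoc, ← zpow_add,
        show (-1 : ℤ) + 2 * ((m : ℤ) + 1) = (orderOf r : ℤ) by rw [hm]; push_cast; ring,
        zpow_natCast, pow_orderOf_eq_one, one_mul]
    set u := r ^ ((m : ℤ) + 1) * h with hu
    have hut : Commute u t := (hrt.zpow_left _).mul_left hh
    have e2 : u * (z0 * t) * u⁻¹ = y * t := by
      rw [← e1, hbdef]
      calc u * (z0 * t) * u⁻¹ = (u * z0 * u⁻¹) * (u * t * u⁻¹) := by group
        _ = _ := by rw [mul_inv_eq_iff_eq_mul.mpr hut.eq, hu]; group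
    refine hyt.2.2 ?_
    rw [← e2]
    exact isConj_conj_iff.mpr hz0t.2

end Main

end Cfsg.Agent.Lib.J4Big
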