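import Cfsg.Agent.Lib.J4Big.Count
import Cfsg.Agent.Lib.J4Big.Facts3

/-!
# The centraliser of `z` and of one of the 276 lies in the normaliser
-/

set_option autoImplicit false
set_option linter.unusedSectionVars false
set_option linter.unusedVariables false

namespace Cfsg.Agent.Lib.J4Big

open Cfsg.Agent.Lib.LargeExtraspecial.Basic Cfsg.Agent.Lib.J4Local Orbit

variable {G : Type*} [Group G] [Finite G] {z p : G}
variable {T₀ Uh U0 : Subgroup AutM22}

/-- The stabiliser in `kc` of a vector. -/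
noncomputable def vStab (z p : G) (v : Vec z) : Subgroup G where
  carrier := {x | x ∈ kc z p ∧ tau z x v = v}
  one_mem' := ⟨one_mem _, tau_one v⟩
  mul_mem' := by
    rintro a b ⟨ha, ha'⟩ ⟨hb, hb'⟩
    exact ⟨mul_mem ha hb, by rw [tau_mul (kc_le_cz ha) (kc_le_cz hb), hb', ha']⟩
  inv_mem' := by
    rintro a ⟨ha, ha'⟩
    refine ⟨inv_mem ha, ?_⟩
    conv_lhs => rw [← ha']
    rw [← tau_mul (inv_mem (kc_le_cz ha)) (kc_le_cz ha), inv_mul_cancel, tau_one]

/-- Two hexad type subgroups have no common fixed vector from the 276. -/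
theorem wFix_disjoint (S : Setting z p) (F : AutFacts) (B : NormConfig T₀ Uh U0)
    (Me : MeetConfig Uh U0) (hE : ∃ e ∈ Q z, IsConj z e ∧ e ≠ z) {d : G} (hd : d ∈ Q z)
    (h1 : d ≠ 1) (hnc : ¬ IsConj z d) (hm : mkV z ⟨d, hd⟩ ∈ wFix S Uh B.exp_Uh) {g : AutM22}
    (hm' : mkV z ⟨d, hd⟩ ∈
      wFix S (Uh.map (MulAut.conj g).toMonoidHom) (isExp2_map B.exp_Uh g)) :
    g ∈ Subgroup.normalizer (Uh : Set AutM22) := by
  by_contra hg
  obtain ⟨h, hh⟩ := Me.meet g hg
  have hi : Uh ≤ inn := (hexad B.toBigConfig).1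
  have hx2 : IsExp2 (U0.map (MulAut.conj h).toMonoidHom) := isExp2_map B.exp_U0 h
  have hi0 : U0.map (MulAut.conj h).toMonoidHom ≤ inn :=
    map_conj_le_inn F (fun a ha => (B.le_U0 ha).2) h
  set v := mkV z ⟨d, hd⟩ with hv
  set X := vStab z p v
  have hXc : X ≤ cz z := fun x hx => kc_le_cz hx.1
  have key : ∀ (W : Subgroup AutM22) (hW : IsExp2 W), W ≤ inn → v ∈ wFix S W hW → W ≤ S.imgS X := by
    intro W hW hWi hvW u hu
    obtain ⟨f, hf, rfl⟩ := fSub_surj S F hW hWi hu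
    exact (S.mem_imgS hXc).mpr ⟨f, ⟨hf.1, hvW f hf⟩, rfl⟩
  have hsup : Uh ⊔ Uh.map (MulAut.conj g).toMonoidHom ≤ S.imgS X :=
    sup_le (key _ B.exp_Uh hi hm) (key _ _ (map_conj_le_inn F hi g) hm')
  have hmem : v ∈ wFix S (U0.map (MulAut.conj h).toMonoidHom) hx2 := by
    intro f hf
    obtain ⟨x, ⟨hxk, hxv⟩, hxi⟩ := (S.mem_imgS hXc).mp (hsup (hh hf.2.1))
    have hxc := kc_le_cz hxk
    have hfc := fSub_le S hx2 hf
    have h2 : x * x ∈ Q z := by
      have himg : S.img (x * x) = 1 := by rw [S.img_mul hxc hxc, hxi]; exact hx2 _ hf.2.1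
      obtain ⟨q, hq, i, hqi⟩ := (S.img_eq_one (mul_mem hxc hxc)).mp himg
      have hpc : p ^ i ∈ cz z := zpow_mem S.p_mem_cz i
      have hfix : tau z (p ^ i) v = v := by
        have e : tau z (x * x) v = v := by rw [tau_mul hxc hxc, hxv, hxv]
        rwa [hqi, tau_mul (Q_le_cz z hq) hpc, tau_Q S hq] at e
      have hv1 : v ≠ 1 := fun e => by
        rcases (S.mem_center _).mp ((QuotientGroup.eq_one_iff _).mp e) with e' | e'
        · exact h1 e'
        · exact hnc (by rw [show d = z from e'])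
      rcases S.p_zpow_cases i with e | e | e
      · rw [hqi, e, mul_one]; exact hq
      · rw [e] at hfix
        exact absurd (tau_p_fix S v hfix) hv1
      · exfalso
        rw [e, tau_mul S.p_mem_cz S.p_mem_cz] at hfix
        have h3 := tau_p3 S v
        rw [hfix] at h3
        exact hv1 (tau_p_fix S v h3)
    rw [← tau_eq_lift S F hx2 hi0 (by rw [card_map_conj, B.card_U0]) hxc hf hxi
      (tau_sq_of_sq S hxc h2)]
    exact hxv
  have hdz : d ≠ z := fun e => hnc (by rw [e])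
  exact hnc ((line_of_duad S F B hE hx2 ⟨h, rfl⟩).2 d hd h1 hdz hmem).1

/-- The centraliser of `z` and of one of the 276 normalises the `2^11`. -/
theorem cent_dV_le (S : Setting z p) (F : AutFacts) (B : NormConfig T₀ Uh U0)
    (Me : MeetConfig Uh U0) (hE : ∃ e ∈ Q z, IsConj z e ∧ e ≠ z) {d : G}
    (hd : d ∈ dV S B.toBigConfig) {c : G} (hc : c ∈ cz z) (hcd : Commute c d) :
    c ∈ Subgroup.normalizer (vv S B.toBigConfig : Set G) := by
  set B' := B.toBigConfig
  refine mSt_le_normalizer S F B' ((mem_mSt S).mpr ⟨hc, ?_⟩)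
  have hdc := (vv_facts S F B').2.2 hd.1
  by_cases hu : S.img d = 1
  · have hy := (img_one_iff S F B' hd.1).mp hu
    obtain ⟨hdQ, hm⟩ := mem_up.mp hy
    have hfix : tau z c (mkV z ⟨d, hdQ⟩) = mkV z ⟨d, hdQ⟩ := by
      rw [tau_mk hc, S.mk_eq_iff]
      exact Or.inl (mul_inv_eq_iff_eq_mul.mpr hcd.eq)
    have hm' := wFix_map S F B.exp_Uh (hexad B').1 B.card_Uh hc
      (isExp2_map B.exp_Uh (S.img c)) hm
    rw [hfix] at hm'
    exact wFix_disjoint S F B Me hE hdQ hd.2.1 hd.2.2 hm hm'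
  · refine B.cent_le _ (img_mem_Uh S F B' hd.1) hu (Subgroup.mem_centralizer_singleton_iff.mpr ?_)
    rw [← S.img_mul hc hdc, ← S.img_mul hdc hc, hcd.eq]

end Cfsg.Agent.Lib.J4Big
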