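import Cfsg.Agent.Lib.J4Big.Ident
import Cfsg.Agent.Lib.J4Big.Good
import Cfsg.Agent.Lib.J4Local.AutLocal

/-!
# One of the 276: the action of its stabiliser, fixed vectors
-/

set_option autoImplicit false
set_option linter.unusedSectionVars false
set_option linter.unusedVariables false

namespace Cfsg.Agent.Lib.J4Big

open Cfsg Cfsg.Agent.Lib.Golay Cfsg.Agent.Lib.Computation Cfsg.Agent.Lib.LargeExtraspecial.Basic Cfsg.Agent.Lib.J4Local
open Cocode
open Cfsg.Agent.Lib.J4Local.AutModel Cfsg.Agent.Lib.J4Local.AutSylow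
open Cfsg.Agent.Lib.J4Local.AutLocal

variable {G : Type*} [Group G] [Finite G] {z p : G}
variable {T₀ Uh U0 : Subgroup AutM22}

/-- The elements of the normaliser commuting with `t`. -/
def cStab (S : Setting z p) (B : BigConfig T₀ Uh U0) (t : G) : Subgroup G :=
  Subgroup.normalizer (vv S B : Set G) ⊓ Subgroup.centralizer ({t} : Set G)

theorem mem_cStab {S : Setting z p} {B : BigConfig T₀ Uh U0} {t c : G} :
    c ∈ cStab S B t ↔ c ∈ Subgroup.normalizer (vv S B : Set G) ∧ Commute c t := by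
  rw [cStab, Subgroup.mem_inf, Subgroup.mem_centralizer_singleton_iff]
  exact Iff.rfl

theorem vv_le_cStab (S : Setting z p) (F : AutFacts) (B : BigConfig T₀ Uh U0) {t : G}
    (ht : t ∈ vv S B) : vv S B ≤ cStab S B t := fun v hv =>
  mem_cStab.mpr ⟨Subgroup.le_normalizer hv, comm_of_sq (vv_facts S F B).2.1 hv ht⟩

/-- An elementary `2^11` inside the normaliser is equal to `vv`. -/
theorem eq_vv_of_le (S : Setting z p) (F : AutFacts) (B : BigConfig T₀ Uh U0) {W : Subgroup G}
    (hW : ∀ a ∈ W, a * a = 1) (hc : Nat.card ↥W = 2 ^ 11)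
    (hle : W ≤ Subgroup.normalizer (vv S B : Set G)) : W = vv S B := by
  have := Fact.mk Nat.prime_two
  obtain ⟨hVc, hV2, -⟩ := vv_facts S F B
  obtain ⟨Sy, hSy⟩ :=
    ((isPGroup_of_sq hW).to_sup_of_normal_right' (isPGroup_of_sq hV2) hle).exists_le_sylow
  obtain ⟨U, -, huniq⟩ := unique_in_sylow S F B Sy
  have elem : ∀ X : Subgroup G, (∀ a ∈ X, a * a = 1) → Cfsg.IsElementaryAbelian 2 X := fun X hX =>
    ⟨⟨⟨fun a b => Subtype.ext (comm_of_sq hX a.2 b.2)⟩⟩, fun v hv => by rw [pow_two]; exact hX v hv⟩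
  rw [huniq W ⟨le_sup_left.trans hSy, elem W hW, hc⟩,
    huniq (vv S B) ⟨le_sup_right.trans hSy, elem _ hV2, hVc⟩]

/-- A conjugate of the `2^11` inside the normaliser comes from a stabiliser element. -/
theorem mem_normalizer_of_map_le (S : Setting z p) (F : AutFacts) (B : BigConfig T₀ Uh U0) {g : G}
    (h : ∀ v ∈ vv S B, g * v * g⁻¹ ∈ Subgroup.normalizer (vv S B : Set G)) :
    g ∈ Subgroup.normalizer (vv S B : Set G) := by
  obtain ⟨hc, h2, -⟩ := vv_facts S F B
  have hW : (vv S B).map (MulAut.conj g).toMonoidHom = vv S B := by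
    refine eq_vv_of_le S F B ?_ ?_ ?_
    · rintro _ ⟨a, ha, rfl⟩
      rw [← map_mul, h2 a ha, map_one]
    · rw [Subgroup.card_map_of_injective (MulAut.conj g).injective, hc]
    · rintro _ ⟨a, ha, rfl⟩
      exact h a ha
  refine mSt_le_normalizer.mem_normalizer_of_fwd fun v hv => ?_
  rw [← hW]
  exact ⟨v, hv, rfl⟩

/-- An element commuting with one of the 276 and a conjugate of `z` normalises the `2^11`. -/
theorem good (S : Setting z p) (F : AutFacts) (B : NormConfig T₀ Uh U0) (Me : MeetConfig Uh U0)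
    (hE : ∃ e ∈ Q z, IsConj z e ∧ e ≠ z) {t w c : G} (ht : t ∈ dV S B.toBigConfig)
    (hw : w ∈ oV S B.toBigConfig) (hct : Commute c t) (hcw : Commute c w) :
    c ∈ Subgroup.normalizer (vv S B.toBigConfig : Set G) := by
  set B' := B.toBigConfig
  obtain ⟨n, hn, rfl⟩ := fusion_vv S F B' (z_mem_vv S B') hw.1 hw.2
  have hd := (conj_mem_dV_iff S F B' (inv_mem hn) ht.1).mpr ht
  have e : ∀ {a b : G}, Commute a b → Commute (n⁻¹ * a * n⁻¹⁻¹) (n⁻¹ * b * n⁻¹⁻¹) := fun h =>
    h.map (MulAut.conj n⁻¹).toMonoidHom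
  have hz : n⁻¹ * (n * z * n⁻¹) * n⁻¹⁻¹ = z := by group
  have h1 := e hcw
  rw [hz] at h1
  have h := cent_dV_le S F B Me hE hd (mem_cz.mpr h1) (e hct)
  have e' : c = n * (n⁻¹ * c * n⁻¹⁻¹) * n⁻¹ := by group
  rw [e']
  exact mul_mem (mul_mem hn h) (inv_mem hn)

section Act

variable (S : Setting z p) (F : AutFacts) (B : BigConfig T₀ Uh U0)
variable {ψ : ℕ → G} (H : IsFrame (vv S B) (dV S B) ψ) {t : G} (h1 : ψ 1 = t)

/-- The permutation of a stabiliser element. -/
noncomputable def toBig : ↥(cStab S B t) →* ↥AutModel.big :=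
  ((Cfsg.M24.subtype.comp (phiM24 S F B H)).comp (Subgroup.inclusion inf_le_left)).codRestrict
    AutModel.big fun c => (commute_one_iff S F B H (Subgroup.inclusion inf_le_left c)).mp
      (by rw [h1]; exact (mem_cStab.mp c.2).2)

/-- The automorphism of `M22` induced by a stabiliser element. -/
noncomputable def theta : ↥(cStab S B t) →* AutM22 :=
  toAut.toMonoidHom.comp (toBig S F B H h1)

theorem theta_apply (c : ↥(cStab S B t)) : theta S F B H h1 c = toAut (toBig S F B H h1 c) := rfl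

theorem rel_toBig (c : ↥(cStab S B t)) :
    Rel ψ (c : G) (toBig S F B H h1 c : Equiv.Perm GolayPt) :=
  phiM24_rel S F B H (Subgroup.inclusion inf_le_left c)

/-- An element fixing a further point vector is inner. -/
theorem fix_inner (c : ↥(cStab S B t)) {a : GolayPt} (ha : a ≠ none) (ha0 : a ≠ some 0)
    (h : Commute (c : G) (Pt ψ a)) : theta S F B H h1 c ∈ inn := by
  rw [theta_apply, toAut_mem_inn]
  set σ := (toBig S F B H h1 c : Equiv.Perm GolayPt) with hσ
  have hr : (c : G) * (Pt ψ a * Pt ψ none) * (c : G)⁻¹ = Pt ψ (σ a) * Pt ψ (σ none) :=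
    rel_toBig S F B H h1 c a none
  rw [H.pt_none, mul_one, mul_inv_eq_iff_eq_mul.mpr h.eq] at hr
  rcases H.pair_unique ha (σ.injective.ne ha)
      (show Pt ψ a * Pt ψ none = Pt ψ (σ a) * Pt ψ (σ none) by rw [H.pt_none, mul_one]; exact hr)
    with ⟨-, h'⟩ | ⟨h', -⟩
  · exact h'.symm
  · rcases (toBig S F B H h1 c).2.2 with ⟨hn, -⟩ | ⟨hn, -⟩
    · exact hn
    · exact absurd (h'.trans hn) ha0

end Act

theorem theta_ker (S : Setting z p) (F : AutFacts) (B : NormConfig T₀ Uh U0) {ψ : ℕ → G}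
    (H : IsFrame (vv S B.toBigConfig) (dV S B.toBigConfig) ψ) {t : G} (h1 : ψ 1 = t)
    (c : ↥(cStab S B.toBigConfig t)) :
    theta S F B.toBigConfig H h1 c = 1 ↔ (c : G) ∈ vv S B.toBigConfig := by
  rw [theta_apply, EmbeddingLike.map_eq_one_iff]
  have h : phiM24 S F B.toBigConfig H (Subgroup.inclusion inf_le_left c) = 1 ↔
      (c : G) ∈ vv S B.toBigConfig := by
    rw [← MonoidHom.mem_ker, phiM24_ker S F B H, Subgroup.mem_subgroupOf]
    exact Iff.rfl
  refine Iff.trans ⟨fun e => Subtype.ext ?_, fun e => Subtype.ext ?_⟩ h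
  · exact (congrArg Subtype.val e : (toBig S F B.toBigConfig H h1 c : Equiv.Perm GolayPt) = 1)
  · exact (congrArg Subtype.val e :
      (phiM24 S F B.toBigConfig H (Subgroup.inclusion inf_le_left c) : Equiv.Perm GolayPt) = 1)

theorem theta_surjective (S : Setting z p) (F : AutFacts) (B : NormConfig T₀ Uh U0)
    (hE : ∃ e ∈ Q z, IsConj z e ∧ e ≠ z) {ψ : ℕ → G}
    (H : IsFrame (vv S B.toBigConfig) (dV S B.toBigConfig) ψ) {t : G} (h1 : ψ 1 = t) :
    Function.Surjective (theta S F B.toBigConfig H h1) := by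
  intro u
  obtain ⟨g, rfl⟩ := toAut.surjective u
  obtain ⟨n, hn⟩ := phiM24_surjective S F B hE H ⟨g, g.2.1⟩
  have hc : Commute (n : G) t := by
    rw [← h1, commute_one_iff S F B.toBigConfig H n, hn]
    exact g.2
  exact ⟨⟨n, mem_cStab.mpr ⟨n.2, hc⟩⟩, congrArg toAut (Subtype.ext
    (congrArg Subtype.val hn : (phiM24 S F B.toBigConfig H n : Equiv.Perm GolayPt) = g))⟩

/-- The images of the basis under a coded permutation. -/
def rowsOf (c : ℕ) : List ℕ :=
  (List.range 11).map fun i => piV (pt (getW 5 c i)) ^^^ piV (pt (getW 5 c 23))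

/-- A coded stabiliser element acts linearly. -/
theorem act_code {V : Subgroup G} {D : Set G} {ψ : ℕ → G} (H : IsFrame V D ψ) {n : G} {c : ℕ}
    (hc : okCode c = true) (hr : Rel ψ n (gperm c))
    (hlt : ∀ a < 2048, combine (rowsOf c) a < 2048) {a : ℕ} (ha : a < 2048) :
    n * ψ a * n⁻¹ = ψ (combine (rowsOf c) a) := by
  refine ext_basis (φ := fun a => n * ψ a * n⁻¹) (φ' := fun a => ψ (combine (rowsOf c) a))
    ?_ ?_ ?_ a ha
  · intro x y hx hy
    simp only [H.mul x y hx hy]
    group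
  · intro x y hx hy
    simp only [combine_xor, H.mul _ _ (hlt x hx) (hlt y hy)]
  · intro i hi
    have e1 : piV (pt i) = 2 ^ i := by
      have : ∀ j < 11, piV (pt j) = 2 ^ j := by unfold piV; decide +kernel
      exact this i hi
    have himg : ∀ q, gperm c q = pt (getW 5 c (idx q)) := fun q => by
      rw [← idx_gperm hc, pt_idx]
    have e2 : combine (rowsOf c) (2 ^ i) = piV (gperm c (pt i)) ^^^ piV (gperm c none) := by
      rw [himg, himg, idx_pt (show i < 24 by omega), show idx (none : GolayPt) = 23 from rfl,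
        rowsOf]
      interval_cases i <;> simp [combine, List.range, List.range.loop]
    have h := hr (pt i) none
    rw [H.pt_none, mul_one, Pt, e1] at h
    rw [h, e2, H.mul _ _ (piV_lt _) (piV_lt _)]
    rfl

/-- Seven independent vectors fixed by `zA`. -/
def fixBasis : List ℕ := [1, 2, 36, 80, 128, 540, 1024]

theorem fixBasis_ok : (okCode zCode &&
    ((List.range 2048).all fun a => Nat.blt (combine (rowsOf zCode) a) 2048) &&
    ((List.range 128).all fun m => Nat.blt (combine fixBasis m) 2048 &&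
      Nat.beq (combine (rowsOf zCode) (combine fixBasis m)) (combine fixBasis m)) &&
    noRep ((List.range 128).map (combine fixBasis))) = true := by decide +kernel

/-- An element over the involution `zA` fixes at least 128 vectors. -/
theorem card_fix_zA (S : Setting z p) (F : AutFacts) (B : BigConfig T₀ Uh U0)
    {ψ : ℕ → G} (H : IsFrame (vv S B) (dV S B) ψ) {t : G} (h1 : ψ 1 = t)
    (x : ↥(cStab S B t)) (hx : theta S F B H h1 x = zA) :
    128 ≤ Nat.card ↥(vv S B ⊓ Subgroup.centralizer ({(x : G)} : Set G)) := by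
  have hok := fixBasis_ok
  simp only [Bool.and_eq_true, List.all_eq_true, List.mem_range, Nat.blt_eq, Nat.beq_eq] at hok
  obtain ⟨⟨⟨hc, hlt⟩, hfix⟩, hrep⟩ := hok
  have hz : inBig zCode = true := base.2.1
  have hperm : (toBig S F B H h1 x : Equiv.Perm GolayPt) = gperm zCode := by
    rw [theta_apply, zA_eq, aut_eq hz] at hx
    exact congrArg Subtype.val (toAut.injective hx)
  have hr : Rel ψ (x : G) (gperm zCode) := hperm ▸ rel_toBig S F B H h1 x
  have hnd := noRep_spec hrep
  let f : Fin 128 → ↥(vv S B ⊓ Subgroup.centralizer ({(x : G)} : Set G)) := fun m =>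
    ⟨ψ (combine fixBasis m), H.mem _, Subgroup.mem_centralizer_singleton_iff.mpr (by
      have h := act_code H hc hr hlt (hfix m m.2).1
      rw [(hfix m m.2).2] at h
      exact (mul_inv_eq_iff_eq_mul.mp h).symm)⟩
  have hf : Function.Injective f := fun a b h => by
    have h' := H.inj _ _ (hfix a a.2).1 (hfix b b.2).1 (congrArg Subtype.val h)
    exact Fin.ext (List.inj_on_of_nodup_map hnd (List.mem_range.mpr a.2) (List.mem_range.mpr b.2) h')
  have := Nat.card_le_card_of_injective f hf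
  rwa [Nat.card_fin] at this

end Cfsg.Agent.Lib.J4Big
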