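/-!
# Codes of permutations of the 24 points used by the certificate on `Aut M22`

Generators of a Sylow 2-subgroup of the duad stabiliser in M24, its two elementary abelian
subgroups of order 16 fixing both points of the duad, a group of order 9 and a Frobenius pair.
-/

set_option autoImplicit false

namespace Cfsg.Agent.Lib.J4Big.Data

/-- Generators of the Sylow 2-subgroup. -/
def tGens : List Nat :=
  [5851571794184423287915321781374519,
   5974015337515374653923280061448631,
   984169119608203352993209106286478400,
   26071277717594622315063045037282359,
   984655427084676159037510678926013952,
   965894700540258920634461008419136736,
   961292854003529066635766956080780384,
   26094017289524203704772910045673559]

/-- The hexad type subgroup. -/
def uhL : List Nat :=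
  [984818244535754528103549039458486304,
   984169119608203352993209106286478400,
   984574537506417163112261518983470176,
   984047379121870168806603060567921824,
   984412421473907193312266097351112896,
   984331428084543721804263348148178144,
   984250132374674243132699426645261600,
   984209118219899382534684339287476576,
   984737182502729783464923423941280160,
   984696157558112865101038733610195392,
   984087560216922182649172594027832800,
   984655427084676159037510678926013952,
   984614727818273766694750887392923168,
   984533793844585853448292408907836992,
   984492998717364844942742504411088480,
   984006705477435657308845753131046560]

/-- The duad type subgroup. -/
def u0L : List Nat :=
  [984818244535754528103549039458486304,
   961275424125373966548332256304608288,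
   981900097418149356294900620993184800,
   965854187687885174613743780153906208,
   966624790664968556689856877765789856,
   982062253446977559283173177126401184,
   961113055178878765030242569745974432,
   984047379121870168806603060567921824,
   961437127394284971752149738070575616,
   984655427084676159037510678926013952,
   966299849372061425927814308339959296,
   981453331455054520264720603739706880,
   982223914627216435625744270302153312,
   966461936076848350177929152207894112,
   984492998717364844942742504411088480,
   960666252078690145234912720196163168]

/-- A group of order nine normalising the hexad type subgroup. -/
def nineL : List Nat :=
  [984818244535754528103549039458486304,
   982125237077252311731715764534741024,
   966039336168793943308839874394687520,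
   981922379375586628653612587014130720,
   965998625761142479424049948188183584,
   984655772300440613386386926892977184,
   966525922141474399055035349350816800,
   984615008361566622328537315350223904,
   981720065691719392799159415558183968]

/-- An element of order five. -/
def xC : Nat := 975445153980656578509060710000102464

/-- It is squared by this one. -/
def yC : Nat := 977923480219198810997392770899086368

end Cfsg.Agent.Lib.J4Big.Data
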