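import Cfsg.Agent.Lib.J4Local.Facts

/-!
# Further finite facts on `Aut M22`: the two classes of elementary abelian subgroups of order 16
-/

set_option autoImplicit false

namespace Cfsg.Agent.Lib.J4Big

open Cfsg.Agent.Lib.J4Local

/-- A Sylow 2-subgroup `T` contains, inside the inner automorphisms, exactly the two elementary
abelian subgroups `Uh` (hexad type) and `U0` (duad type) of order 16. -/
structure BigConfig (T Uh U0 : Subgroup AutM22) : Prop where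
  card_T : Nat.card ↥T = 256
  card_Uh : Nat.card ↥Uh = 16
  exp_Uh : IsExp2 Uh
  le_Uh : Uh ≤ T ⊓ inn
  nine : ∃ N : Subgroup AutM22, N ≤ inn ∧ Nat.card ↥N = 9 ∧ (∀ a ∈ N, a ^ 3 = 1) ∧
    ∀ n ∈ N, ∀ a ∈ Uh, n * a * n⁻¹ ∈ Uh
  five : ∃ x ∈ inn, ∃ y ∈ inn, x ^ 5 = 1 ∧ y * x * y⁻¹ = x * x ∧ (∀ a ∈ U0, x * a * x⁻¹ ∈ U0) ∧
    (∀ a ∈ U0, y * a * y⁻¹ ∈ U0) ∧ ∃ a ∈ U0, x * a ≠ a * x
  only_two : ∀ U : Subgroup AutM22, U ≤ T ⊓ inn → IsExp2 U → Nat.card ↥U = 16 → U = Uh ∨ U = U0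

end Cfsg.Agent.Lib.J4Big
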