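import Cfsg.Agent.Lib.J4Big.Codes
import Cfsg.Agent.Lib.J4Big.Data
import Cfsg.Agent.Lib.J4Big.Facts

/-!
# The two classes of elementary abelian subgroups of order 16 in `Aut M22`
-/

set_option autoImplicit false

namespace Cfsg.Agent.Lib.J4Big.Cert

open Cfsg.Agent.Lib.J4Local Cfsg.Agent.Lib.Golay Cfsg.Agent.Lib.Computation Codes

theorem tGens_ok : genOk Data.tGens = true := by decide +kernel

theorem tGens_len : (expand Data.tGens).length = 256 := by decide +kernel

theorem uh_ok : (closedL Data.uhL && Nat.beq Data.uhL.length 16 &&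
    Data.uhL.all (fun c => mem (expand Data.tGens) c && Nat.beq (getW 5 c 23) 23 &&
      Nat.beq (cmulC c c) oneCode)) = true := by
  decide +kernel

theorem sq_good : ((expand Data.tGens).all fun c => good (cmulC c c)) = true := by decide +kernel

theorem u0_ok : closedL Data.u0L = true := by decide +kernel

theorem u0_len : Data.u0L.length = 16 := by decide +kernel

theorem nine_ok : (closedL Data.nineL && Nat.beq Data.nineL.length 9 &&
    Data.nineL.all (fun c => Nat.beq (getW 5 c 23) 23 && normOk Data.uhL c &&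
      Nat.beq (cmulC (cmulC c c) c) oneCode && good (cmulC c c))) = true := by
  decide +kernel

theorem five_ok : (normOk Data.u0L Data.xC && normOk Data.u0L Data.yC &&
    Nat.beq (getW 5 Data.xC 23) 23 && Nat.beq (getW 5 Data.yC 23) 23 &&
    (let x2 := cmulC Data.xC Data.xC
     let x4 := cmulC x2 x2
     good x2 && good x4 && Nat.beq (cmulC x4 Data.xC) oneCode &&
       good (cmulC Data.yC Data.xC) && Nat.beq (cmulC Data.yC Data.xC) (cmulC x2 Data.yC)) &&
    Data.u0L.any (fun a => good (cmulC Data.xC a) && good (cmulC a Data.xC) &&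
      !Nat.beq (cmulC Data.xC a) (cmulC a Data.xC))) = true := by
  decide +kernel

theorem search_ok :
    go Data.uhL Data.u0L 4 [oneCode] (invs (expand Data.tGens)) = true := by decide +kernel

theorem bigConfig :
    BigConfig (Subgroup.closure (setL Data.tGens)) (grpL Data.uhL) (grpL Data.u0L) := by
  have hT := coe_genGrp tGens_ok
  have hTg : ∀ c ∈ expand Data.tGens, good c = true := by
    have h := tGens_ok
    simp only [genOk, Bool.and_eq_true, List.all_eq_true] at h
    exact h.1.1.2
  have hu := uh_ok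
  simp only [Bool.and_eq_true, List.all_eq_true, Nat.beq_eq, mem_iff] at hu
  obtain ⟨⟨hcl, hlen⟩, hall⟩ := hu
  have hug := (closedL_spec hcl).1
  have hn := nine_ok
  simp only [Bool.and_eq_true, List.all_eq_true, Nat.beq_eq] at hn
  obtain ⟨⟨hncl, hnlen⟩, hnall⟩ := hn
  have hng := (closedL_spec hncl).1
  refine
    { card_T := ?_
      card_Uh := ?_
      exp_Uh := ?_
      le_Uh := ?_
      nine := ⟨grpL Data.nineL, ?_, ?_, ?_, ?_⟩
      five := ?_
      only_two := ?_ }
  · rw [card_genGrp tGens_ok]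
    exact tGens_len
  · rw [card_grpL hcl]
    exact hlen
  · intro u hu'
    obtain ⟨c, hc, rfl⟩ := (mem_grpL hcl).mp hu'
    rw [← au_mul (hug c hc) (hug c hc) (by rw [(hall c hc).2]; exact good_one), (hall c hc).2, au_one]
  · intro u hu'
    obtain ⟨c, hc, rfl⟩ := (mem_grpL hcl).mp hu'
    refine ⟨?_, (au_inn (hug c hc)).mpr (hall c hc).1.2⟩
    exact (Set.ext_iff.mp hT (au c)).mpr ⟨c, (hall c hc).1.1, rfl⟩
  · intro u hu'
    obtain ⟨c, hc, rfl⟩ := (mem_grpL hncl).mp hu'
    exact (au_inn (hng c hc)).mpr (hnall c hc).1.1.1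
  · rw [card_grpL hncl]
    exact hnlen
  · intro u hu'
    obtain ⟨c, hc, rfl⟩ := (mem_grpL hncl).mp hu'
    have h2 := (hnall c hc).2
    rw [pow_succ, pow_two, ← au_mul (hng c hc) (hng c hc) h2,
      ← au_mul h2 (hng c hc) (by rw [(hnall c hc).1.2]; exact good_one), (hnall c hc).1.2, au_one]
  · intro u hu'
    obtain ⟨c, hc, rfl⟩ := (mem_grpL hncl).mp hu'
    exact normOk_spec hcl (hnall c hc).1.1.2
  · have h := five_ok
    simp only [Bool.and_eq_true, List.any_eq_true, Nat.beq_eq, Bool.not_eq_true',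
      ← Bool.not_eq_true] at h
    obtain ⟨⟨⟨⟨⟨nx, ny⟩, ix⟩, iy⟩, ⟨⟨⟨⟨g2, g4⟩, p5⟩, gyx⟩, eyx⟩⟩, a, ha, ⟨gxa, gax⟩, hne⟩ := h
    have gx : good Data.xC = true := by
      simp only [normOk, Bool.and_eq_true] at nx; exact nx.1
    have gy : good Data.yC = true := by
      simp only [normOk, Bool.and_eq_true] at ny; exact ny.1
    have ga := (closedL_spec u0_ok).1 a ha
    refine ⟨au Data.xC, (au_inn gx).mpr ix, au Data.yC, (au_inn gy).mpr iy, ?_, ?_,
      normOk_spec u0_ok nx, normOk_spec u0_ok ny, au a, (mem_grpL u0_ok).mpr ⟨a, ha, rfl⟩, ?_⟩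
    · rw [show au Data.xC ^ 5 = au Data.xC * au Data.xC * (au Data.xC * au Data.xC) * au Data.xC by
        simp only [pow_succ, pow_zero, one_mul, mul_assoc], ← au_mul gx gx g2, ← au_mul g2 g2 g4,
        ← au_mul g4 gx (by rw [p5]; exact good_one), p5, au_one]
    · rw [← au_mul gy gx gyx, eyx, au_mul g2 gy (by rw [← eyx]; exact gyx), au_mul gx gx g2, mul_inv_cancel_right]
    · intro heq
      rw [← au_mul gx ga gxa, ← au_mul ga gx gax] at heq
      exact hne (au_inj gxa gax heq)
  · intro U hU hexp hcard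
    have hspan : ∀ c ∈ [oneCode], good c = true ∧ au c ∈ U := fun c hc => by
      rw [List.mem_singleton.mp hc]
      exact ⟨good_one, by rw [au_one]; exact one_mem U⟩
    have hIg : ∀ c ∈ invs (expand Data.tGens), good c = true := fun c hc =>
      hTg c (List.mem_filter.mp hc).1
    have hcov : ∀ u ∈ U, u ∈ setL [oneCode] ∨ u ∈ setL (invs (expand Data.tGens)) := by
      intro u hu'
      obtain ⟨hT', hi⟩ := hU hu'
      obtain ⟨c, hc, rfl⟩ := (Set.ext_iff.mp hT u).mp hT'
      by_cases h1 : c = oneCode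
      · exact Or.inl ⟨c, List.mem_singleton.mpr h1, rfl⟩
      · refine Or.inr ⟨c, List.mem_filter.mpr ⟨hc, ?_⟩, rfl⟩
        have hg := hTg c hc
        have hmem : good (cmulC c c) = true :=
          List.all_eq_true.mp sq_good c hc
        simp only [Bool.and_eq_true, Bool.not_eq_true', ← Bool.not_eq_true, Nat.beq_eq]
        refine ⟨⟨(au_inn hg).mp hi, au_inj hmem good_one ?_⟩, h1⟩
        rw [au_mul hg hg hmem, hexp _ hu', au_one]
    rcases go_spec hcl u0_ok hexp hcard 4 _ _ search_ok (List.mem_singleton.mpr rfl) hspan hIg hcov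
      with h | h
    · exact Or.inl (Subgroup.eq_of_le_of_card_ge h (by rw [card_grpL hcl, hlen, hcard]))
    · refine Or.inr (Subgroup.eq_of_le_of_card_ge h ?_)
      rw [card_grpL u0_ok, hcard]
      exact le_of_eq u0_len.symm

end Cfsg.Agent.Lib.J4Big.Cert
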