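/-!
# Data for the configuration of two opposite hexad type subgroups

The opposite representative, three involutions, their group, subgroups of order 32 through the outer
involutions, two duad type subgroups in the join.
-/

set_option autoImplicit false

namespace Cfsg.Agent.Lib.J4Big.Data3

/-- The index of the opposite hexad type subgroup. -/
def opp : Nat := 7

/-- First involution. -/
def aC : Nat := 971054094202045224860670048180950240

/-- Second involution. -/
def bC : Nat := 13249567452574013054672615527501047

/-- Third involution. -/
def wC : Nat := 13848590552447254803414323101272311

/-- The group of order sixteen. -/
def sixL : List Nat := [
  984818244535754528103549039458486304,
  969160292160230017122544166829037600,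
  984198939025519787097594379710843936,
  968459963501775994645613085853013024,
  982224113796045310472644456471431392,
  982127597790386758765775593650264288,
  971231633357434215313033617356704992,
  971054094202045224860670048180950240,
  16441686340434924356279569257433143,
  16375593948412519470089330363996215,
  26218393257836308672247297328368695,
  26071277717594622315063045037282359,
  13848590552447254803414323101272311,
  29344419793114802503510808190261495,
  13249567452574013054672615527501047,
  28664373543511122009256802092635383]

/-- Generators of a subgroup of order 32, number 0. -/
def e0 : List Nat := [
  13848590552447254803414323101272311,
  965336593953319795376374240321323328,
  984690096700511497057451740670141472,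
  969119267058609576570987380683784416,
  1557312924905912605495753074878167]

/-- Generators of a subgroup of order 32, number 1. -/
def e1 : List Nat := [
  29344419793114802503510808190261495,
  966645205281450554401883888952754624,
  969160292160230017122544166829037600,
  969241353870756385364331985140518304,
  968754537289126987927570659913337280]

/-- Generators of a subgroup of order 32, number 2. -/
def e2 : List Nat := [
  13249567452574013054672615527501047,
  9958052022297635190927727335155031,
  956827830979578909122992877756665536,
  9336607339661311021632517344674135,
  29415934126259888158686815361027127]

/-- Generators of a subgroup of order 32, number 3. -/
def e3 : List Nat := [
  16441686340434924356279569257433143,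
  22689936458665601657854526990030135,
  974421726786807685069869546966649056,
  28773906478073681956665387647221047,
  984035668360141982437242148508390688]

/-- Generators of a subgroup of order 32, number 4. -/
def e4 : List Nat := [
  28664373543511122009256802092635383,
  29182921867771703228355785177273399,
  984561664131678682933695704404628576,
  15793996111389650632871201439268087,
  973771501256562028186416545792113696]

/-- Generators of a subgroup of order 32, number 5. -/
def e5 : List Nat := [
  26071277717594622315063045037282359,
  983537349213874834064199631516291264,
  3434802727920268219734223682361399,
  958816971593803810495111138405407232,
  981453407877639882082346830698730528]

/-- The subgroups of order 32. -/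
def eAll : List (List Nat) := [e0, e1, e2, e3, e4, e5]

/-- Two duad type subgroups in the join. -/
def joinW : List (Nat × List (List (Bool × Nat))) := [
  (71, [[(true, 984169119608203352993209106286478400)], [(true, 984533793844585853448292408907836992)], [(false, 984209118219899382534684339287476576), (true, 984533793844585853448292408907836992), (false, 984209118219899382534684339287476576)], [(false, 984209118219899382534684339287476576), (true, 984169119608203352993209106286478400), (false, 984209118219899382534684339287476576)]]),
  (210, [[(true, 984614727818273766694750887392923168)], [(true, 984006705477435657308845753131046560)], [(false, 984655427084676159037510678926013952), (true, 984006705477435657308845753131046560), (false, 984655427084676159037510678926013952)], [(false, 984655427084676159037510678926013952), (true, 984614727818273766694750887392923168), (false, 984655427084676159037510678926013952)]])]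

end Cfsg.Agent.Lib.J4Big.Data3
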