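import Cfsg.Agent.Lib.J4Big.Facts3

/-!
# Finite facts on `Aut M22` for the splitting over the `2^11`
-/

set_option autoImplicit false

namespace Cfsg.Agent.Lib.J4Big

open Cfsg.Agent.Lib.J4Local

/-- A second hexad type subgroup `Uh'` opposite to `Uh` and a subgroup `D₈ × 2` normalising both,
meeting `Uh` trivially. -/
structure SplitConfig (Uh U0 : Subgroup AutM22) : Prop where
  exists_opposite : ∃ g : AutM22, ∃ a b w : AutM22,
    (∃ h₁ h₂ : AutM22,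
      U0.map (MulAut.conj h₁).toMonoidHom ≠ U0.map (MulAut.conj h₂).toMonoidHom ∧
      U0.map (MulAut.conj h₁).toMonoidHom ≤ Uh ⊔ Uh.map (MulAut.conj g).toMonoidHom ∧
      U0.map (MulAut.conj h₂).toMonoidHom ≤ Uh ⊔ Uh.map (MulAut.conj g).toMonoidHom) ∧
    a * a = 1 ∧ b * b = 1 ∧ w * w = 1 ∧ (a * b) ^ 4 = 1 ∧ Commute a w ∧ Commute b w ∧
    Nat.card ↥(Subgroup.closure ({a, b, w} : Set AutM22)) = 16 ∧
    (∀ u ∈ Subgroup.closure ({a, b, w} : Set AutM22), u ∈ Uh → u = 1) ∧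
    (∀ u ∈ Subgroup.closure ({a, b, w} : Set AutM22),
      u ∈ Subgroup.normalizer (Uh : Set AutM22) ∧
      u ∈ Subgroup.normalizer (Uh.map (MulAut.conj g).toMonoidHom : Set AutM22)) ∧
    (∀ u ∈ Subgroup.closure ({a, b, w} : Set AutM22), u * u = 1 → u ∉ inn →
      ∃ E : Subgroup AutM22, IsExp2 E ∧ Nat.card ↥E = 32 ∧ u ∈ E)

end Cfsg.Agent.Lib.J4Big
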