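import Cfsg.Agent.Lib.J4Big.Cert2
import Cfsg.Agent.Lib.J4Big.Data3
import Cfsg.Agent.Lib.J4Big.Facts4

/-!
# Two opposite hexad type subgroups and a dihedral times two group normalising both
-/

set_option autoImplicit false
set_option linter.unusedSectionVars false

namespace Cfsg.Agent.Lib.J4Big.Cert3

open Cfsg Cfsg.Agent.Lib.J4Local Cfsg.Agent.Lib.Golay Cfsg.Agent.Lib.Computation Codes

/-- The opposite representative. -/
abbrev opQ : ℕ × ℕ := Data2.hRep.getD Data3.opp (0, 0)

theorem rel_ok : (pairOk opQ && closedL Data3.sixL &&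
    mem Data3.sixL Data3.aC && mem Data3.sixL Data3.bC && mem Data3.sixL Data3.wC &&
    Nat.beq (cmulC Data3.aC Data3.aC) oneCode && Nat.beq (cmulC Data3.bC Data3.bC) oneCode &&
    Nat.beq (cmulC Data3.wC Data3.wC) oneCode &&
    (let r := cmulC Data3.aC Data3.bC; Nat.beq (cmulC (cmulC (cmulC r r) r) r) oneCode) &&
    Nat.beq (cmulC Data3.aC Data3.wC) (cmulC Data3.wC Data3.aC) &&
    Nat.beq (cmulC Data3.bC Data3.wC) (cmulC Data3.wC Data3.bC) &&
    Nat.beq Data3.sixL.length 16 && true) = true := by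
  decide +kernel

/-- Normalising a conjugate, on codes. -/
def normConj (q : ℕ × ℕ) (n : ℕ) : Bool :=
  Data.uhL.all fun a => Data.uhL.any fun b =>
    Nat.beq (cmulC n (cj q a)) (cmulC (cj q b) n)

theorem six_ok : (Data3.sixL.all (fun c => normOk Data.uhL c && normConj opQ c &&
    (!mem Data.uhL c || Nat.beq c oneCode)) &&
    Data3.sixL.all (fun c => Nat.beq (getW 5 c 23) 23 || !Nat.beq (cmulC c c) oneCode ||
      Data3.eAll.any fun E => mem (expand E) c)) = true := by decide +kernel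

theorem e_ok : (Data3.eAll.all fun E => genOk E && Nat.beq (expand E).length 32 &&
    (expand E).all fun c => Nat.beq (cmulC c c) oneCode) = true := by decide +kernel

/-- The check of the two duad type subgroups in the join. -/
def joinOk : Bool :=
  Data3.joinW.all (fun w => Nat.blt w.1 231 && (List.range Data2.u0G.length).all fun i =>
      (w.2.getD i []).all (fun x => mem Data.uhL x.2) &&
        Nat.beq (cj (Data2.dRep.getD w.1 (0, 0)) (Data2.u0G.getD i 0))
          (Cert2.wordVal opQ (w.2.getD i []))) &&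
  Nat.beq Data3.joinW.length 2 &&
  !Nat.beq (Data3.joinW.getD 0 (0, [])).1 (Data3.joinW.getD 1 (0, [])).1

theorem join_ok : joinOk = true := by decide +kernel

theorem gen_six : ∀ c ∈ Data3.sixL, au c ∈
    Subgroup.closure ({au Data3.aC, au Data3.bC, au Data3.wC} : Set AutM22) := by
  have h := rel_ok
  simp only [Bool.and_eq_true, mem_iff] at h
  have hcl : closedL Data3.sixL = true := h.1.1.1.1.1.1.1.1.1.1.1.2
  have hg := (closedL_spec hcl).1
  have hexp : (Data3.sixL.all fun c =>
      mem (expand [Data3.aC, Data3.bC, Data3.aC, Data3.bC, Data3.wC]) c) = true := by decide +kernel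
  have hgood : (expand [Data3.aC, Data3.bC, Data3.aC, Data3.bC, Data3.wC]).all good = true := by
    decide +kernel
  simp only [List.all_eq_true, mem_iff] at hexp hgood
  intro c hc
  refine expand_mem (gs := [Data3.aC, Data3.bC, Data3.aC, Data3.bC, Data3.wC]) _
    (List.Subset.refl _) hgood (fun g hgm => ?_) c (hexp c hc)
  simp only [List.mem_cons, List.not_mem_nil, or_false] at hgm
  rcases hgm with rfl | rfl | rfl | rfl | rfl <;>
    refine ⟨by decide +kernel, Subgroup.subset_closure ?_⟩ <;> simp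

theorem splitConfig : SplitConfig Cert2.Uh Cert2.U0 := by
  have h := rel_ok
  simp only [Bool.and_eq_true, mem_iff, Nat.beq_eq] at h
  obtain ⟨⟨⟨⟨⟨⟨⟨⟨⟨⟨⟨⟨hq, hcl⟩, ha⟩, hb⟩, hw⟩, ha2⟩, hb2⟩, hw2⟩, h4⟩, haw⟩, hbw⟩, hlen⟩, -⟩ := h
  have hg := (closedL_spec hcl).1
  have ra := rep_good (hg _ ha)
  have rb := rep_good (hg _ hb)
  have rw' := rep_good (hg _ hw)
  have hT : Subgroup.closure ({au Data3.aC, au Data3.bC, au Data3.wC} : Set AutM22) =
      grpL Data3.sixL := by
    refine le_antisymm ((Subgroup.closure_le _).mpr ?_) fun x hx => ?_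
    · rintro x (rfl | rfl | rfl) <;> exact (mem_grpL hcl).mpr ⟨_, ‹_›, rfl⟩
    · obtain ⟨c, hc, rfl⟩ := (mem_grpL hcl).mp hx
      exact gen_six c hc
  have h6 := six_ok
  simp only [Bool.and_eq_true, List.all_eq_true, Bool.or_eq_true, Bool.not_eq_true',
    ← Bool.not_eq_true, mem_iff, Nat.beq_eq, List.any_eq_true, normConj] at h6
  have hj := join_ok
  simp only [joinOk, Bool.and_eq_true, List.all_eq_true, Nat.beq_eq, Nat.blt_eq, mem_iff,
    List.mem_range, Bool.not_eq_true', ← Bool.not_eq_true] at hj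
  obtain ⟨⟨hwords, hlen2⟩, hne⟩ := hj
  set g := au opQ.1 with hgdef
  have hsub : ∀ w ∈ Data3.joinW,
      mc (au (Data2.dRep.getD w.1 (0, 0)).1) Cert2.U0 ≤ Cert2.Uh ⊔ mc g Cert2.Uh := by
    intro w hwm
    obtain ⟨hj', hwi⟩ := hwords w hwm
    set r := au (Data2.dRep.getD w.1 (0, 0)).1
    have hgen : genOk Data2.u0G = true := by
      have := Cert2.meet_ok
      simp only [Cert2.meetOk, Bool.and_eq_true] at this
      exact this.1.1
    have hclo : Cert2.U0 ≤ (Cert2.Uh ⊔ mc g Cert2.Uh).comap (MulAut.conj r).toMonoidHom := by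
      have hclo' : Cert2.U0 ≤ Subgroup.closure (setL Data2.u0G) := by
        intro x hx
        obtain ⟨c, hc, rfl⟩ := (mem_grpL Cert.u0_ok).mp hx
        have := Cert2.meet_ok
        simp only [Cert2.meetOk, Bool.and_eq_true, List.all_eq_true, mem_iff] at this
        exact (Set.ext_iff.mp (coe_genGrp hgen) _).mpr ⟨c, this.1.2 c hc, rfl⟩
      refine hclo'.trans ((Subgroup.closure_le _).mpr ?_)
      rintro _ ⟨c, hc, rfl⟩
      obtain ⟨i, hi, rfl⟩ := List.mem_iff_getElem.mp hc
      obtain ⟨hwu, hwe⟩ := hwi i hi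
      rw [List.getD_eq_getElem _ _ hi] at hwe
      have hg' : good (Data2.u0G[i]) = true := by
        have h := hgen
        simp only [genOk, Bool.and_eq_true, List.all_eq_true] at h
        exact h.1.1.1 _ (List.getElem_mem hi)
      obtain ⟨v, hv, hvr⟩ := Cert2.rep_word (k := 0) hq _ hwu oneCode 1 rep_one (one_mem _)
      have h' := rep_cj (Cert2.dRep_pair hj') (rep_good hg')
      rw [hwe] at h'
      show r * au Data2.u0G[i] * r⁻¹ ∈ Cert2.Uh ⊔ mc g Cert2.Uh
      rw [rep_val h' hvr]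
      exact hv
    rintro _ ⟨x, hx, rfl⟩
    exact hclo hx
  have hm : ∀ n < 2, Data3.joinW.getD n (0, []) ∈ Data3.joinW := fun n hn => by
    rw [List.getD_eq_getElem _ _ (by omega)]; exact List.getElem_mem _
  have caw : au Data3.aC * au Data3.wC = au Data3.wC * au Data3.aC := by
    have h' := rep_mul ra rw'
    rw [haw] at h'
    exact rep_val h' (rep_mul rw' ra)
  have cbw : au Data3.bC * au Data3.wC = au Data3.wC * au Data3.bC := by
    have h' := rep_mul rb rw'
    rw [hbw] at h'
    exact rep_val h' (rep_mul rw' rb)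
  refine ⟨⟨g, au Data3.aC, au Data3.bC, au Data3.wC,
    ⟨_, _, ?_, hsub _ (hm 0 (by norm_num)), hsub _ (hm 1 (by norm_num))⟩,
    rep_val (rep_mul ra ra) (ha2 ▸ rep_one), rep_val (rep_mul rb rb) (hb2 ▸ rep_one),
    rep_val (rep_mul rw' rw') (hw2 ▸ rep_one), ?_, caw,
    cbw, ?_, ?_, ?_, ?_⟩⟩
  · intro e
    exact hne (Cert2.rmc_inj (hwords _ (hm 0 (by norm_num))).1 (hwords _ (hm 1 (by norm_num))).1 e)
  · refine rep_val ?_ (h4 ▸ rep_one)
    rw [pow_succ, pow_succ, pow_succ, pow_one]
    exact rep_mul (rep_mul (rep_mul (rep_mul ra rb) (rep_mul ra rb)) (rep_mul ra rb)) (rep_mul ra rb)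
  · rw [hT, card_grpL hcl, hlen]
  all_goals rw [hT]; intro u hu; obtain ⟨c, hc, rfl⟩ := (mem_grpL hcl).mp hu
  · intro hU
    rcases (h6.1 c hc).2 with h' | h'
    · obtain ⟨d, hd, hde⟩ := (grpL_rep Cert2.uh_closed).mp hU
      exact absurd (rep_code (rep_good (hg c hc)) hde ▸ hd) h'
    · rw [h', au_one]
  · obtain ⟨⟨hn, hc'⟩, -⟩ := h6.1 c hc
    constructor
    · refine mem_normalizer_of_mc (Subgroup.eq_of_le_of_card_ge ?_ (le_of_eq
        (Subgroup.card_map_of_injective (MulAut.conj _).injective).symm))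
      rintro _ ⟨x, hx, rfl⟩
      exact normOk_spec Cert2.uh_closed hn x hx
    · refine mem_normalizer_of_mc (Subgroup.eq_of_le_of_card_ge ?_ (le_of_eq
        (Subgroup.card_map_of_injective (MulAut.conj _).injective).symm))
      rintro _ ⟨_, ⟨x, hx, rfl⟩, rfl⟩
      obtain ⟨e, he, rfl⟩ := (mem_grpL Cert2.uh_closed).mp hx
      obtain ⟨b', hb', heq⟩ := hc' e he
      have hge := fun e (he : e ∈ Data.uhL) => rep_good ((closedL_spec Cert2.uh_closed).1 e he)
      have h' : au c * (g * au e * g⁻¹) = g * au b' * g⁻¹ * au c :=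
        rep_val (rep_mul (rep_good (hg c hc)) (rep_cj hq (hge e he)))
          (heq ▸ rep_mul (rep_cj hq (hge b' hb')) (rep_good (hg c hc)))
      show au c * (g * au e * g⁻¹) * (au c)⁻¹ ∈ mc g Cert2.Uh
      rw [h', mul_inv_cancel_right]
      exact ⟨au b', (mem_grpL Cert2.uh_closed).mpr ⟨b', hb', rfl⟩, rfl⟩
  · intro hu2 hno
    rcases h6.2 c hc with (h' | h') | ⟨E, hE, hcE⟩
    · exact absurd ((au_inn (hg c hc)).mpr h') hno
    · exact absurd (rep_code (rep_mul (rep_good (hg c hc)) (rep_good (hg c hc)))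
        (hu2 ▸ rep_one)) h'
    · have he := e_ok
      simp only [List.all_eq_true, Bool.and_eq_true, Nat.beq_eq] at he
      obtain ⟨⟨hgen, hl⟩, hsq⟩ := he E hE
      refine ⟨Subgroup.closure (setL E), ?_, by rw [card_genGrp hgen, hl],
        (Set.ext_iff.mp (coe_genGrp hgen) _).mpr ⟨c, hcE, rfl⟩⟩
      intro x hx
      obtain ⟨d, hd, rfl⟩ := (Set.ext_iff.mp (coe_genGrp hgen) _).mp hx
      have hdg : good d = true := by
        have := hgen
        simp only [genOk, Bool.and_eq_true, List.all_eq_true] at this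
        exact this.1.1.2 d hd
      exact rep_val (rep_mul (rep_good hdg) (rep_good hdg)) (hsq d hd ▸ rep_one)

end Cfsg.Agent.Lib.J4Big.Cert3
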