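import Cfsg.Agent.Lib.J4Big.CentTAct
import Cfsg.Agent.Lib.J4Big.CodeRep
import Cfsg.Agent.Lib.J4Big.Data4
import Cfsg.Agent.Lib.J4Local.SylTable

/-!
# The finite check on classes of involutions over the sextet group
-/

set_option autoImplicit false
set_option linter.unusedSectionVars false

namespace Cfsg.Agent.Lib.J4Big.Cert4

open Cfsg Cfsg.Agent.Lib.Golay Cfsg.Agent.Lib.Computation Cfsg.Agent.Lib.J4Local Cocode Codes
open Cfsg.Agent.Lib.J4Local.SylTable (maskOf testBit_maskOf)

/-- The linear map of a code. -/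
def lin (c a : ℕ) : ℕ := combine (rowsOf c) a

theorem lin_xor (c a b : ℕ) : lin c (a ^^^ b) = lin c a ^^^ lin c b := combine_xor _ a b

/-- Evaluates a list before use, for the kernel. -/
def forceL {α : Type} : List ℕ → (List ℕ → α) → α
  | [], k => k []
  | a :: l, k => forceNat a fun a' => forceL l fun l' => k (a' :: l')

theorem forceL_eq {α : Type} : ∀ (l : List ℕ) (k : List ℕ → α), forceL l k = k l
  | [], _ => rfl
  | a :: l, k => by rw [forceL, forceNat_eq, forceL_eq l]

theorem combine_lt : ∀ (l : List ℕ), (∀ x ∈ l, x < 2048) → ∀ a, combine l a < 2048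
  | [], _, a => by simp [combine]
  | r :: l, h, a => by
    rw [combine]
    refine Nat.xor_lt_two_pow (n := 11) ?_ (combine_lt l (fun x hx => h x (List.mem_cons_of_mem _ hx)) _)
    split
    · exact h r List.mem_cons_self
    · norm_num

theorem lin_lt {c : ℕ} (h : ((rowsOf c).all (Nat.blt · 2048)) = true) (a : ℕ) : lin c a < 2048 :=
  combine_lt _ (fun x hx => by simpa [Nat.blt_eq] using List.all_eq_true.mp h x hx) a

/-- A permutation acting trivially modulo the span on a basis does so everywhere. -/
theorem mask_xor {a b : ℕ} (ha : Data4.yMask.testBit a = true) (hb : Data4.yMask.testBit b = true) :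
    Data4.yMask.testBit (a ^^^ b) = true := by
  have h : Nat.beq Data4.yMask (maskOf ((List.range 128).map (combine Data4.yB))) = true := by
    decide +kernel
  rw [Nat.beq_eq] at h
  rw [h, testBit_maskOf, List.mem_map] at ha hb ⊢
  obtain ⟨i, hi, rfl⟩ := ha
  obtain ⟨j, hj, rfl⟩ := hb
  exact ⟨i ^^^ j, List.mem_range.mpr (Nat.xor_lt_two_pow (n := 7) (List.mem_range.mp hi)
    (List.mem_range.mp hj)), combine_xor _ i j⟩

theorem yB_ok : (Data4.yB.all (fun y => Nat.blt y 2048 && dGood.testBit y && dGood.testBit (y ^^^ 14)) &&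
    (List.range 128).all (fun k => Nat.blt (combine Data4.yB k) 2048) &&
    noRep ((List.range 128).map (combine Data4.yB)) &&
    Nat.beq Data4.yMask (maskOf ((List.range 128).map (combine Data4.yB))) &&
    !dGood.testBit 14) = true := by decide +kernel

/-- One permutation: it fixes `14`, acts trivially modulo the span and fixes a vector of the span
modulo `14`. -/
def trivOk (s : ℕ) : Bool :=
  inM24 s && Nat.beq (cmulC s oneCode) s &&
    (rowsOf s).all (Nat.blt · 2048) &&
    ((List.range 11).all fun i => Data4.yMask.testBit (lin s (2 ^ i) ^^^ 2 ^ i)) &&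
    Nat.beq (lin s 14) 14 &&
    (let y := Data4.yB.getD 0 0; Nat.beq (lin s y) y || Nat.beq (lin s y) (y ^^^ 14))

theorem triv_ok : (Data4.perms.all fun e => trivOk e.1) = true := by decide +kernel

theorem perms_ok : (Nat.beq Data4.perms.length 64 && distinct (Data4.perms.map Prod.fst) &&
    mem (Data4.perms.map Prod.fst) oneCode) = true := by decide +kernel

theorem conjs_ok : (Data4.conjs.all fun q => inM24 q.1 && okCode q.2 &&
    Nat.beq (cmulC q.1 q.2) oneCode &&
    (rowsOf q.1).all (Nat.blt · 2048)) = true := by decide +kernel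

theorem triv_mask {e : ℕ × List ℕ × List (ℕ × ℕ)} (he : e ∈ Data4.perms) {a : ℕ} (ha : a < 2048) :
    lin e.1 a < 2048 ∧ Data4.yMask.testBit (lin e.1 a ^^^ a) = true := by
  have h := triv_ok
  simp only [List.all_eq_true, trivOk, Bool.and_eq_true] at h
  obtain ⟨⟨⟨⟨-, hlt⟩, hbas⟩, -⟩, -⟩ := h e he
  refine ⟨lin_lt (List.all_eq_true.mpr hlt) a, ?_⟩
  have h0 : Data4.yMask.testBit 0 = true := by decide +kernel
  have key : ∀ i ≤ 11, ∀ a < 2 ^ i, Data4.yMask.testBit (lin e.1 a ^^^ a) = true := by
    intro i
    induction i with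
    | zero =>
      intro _ a ha
      have ha' : a = 0 := by simpa using ha
      rw [ha', lin, combine_zero]
      exact h0
    | succ i ih =>
      intro hi a ha
      by_cases hlt : a < 2 ^ i
      · exact ih (by omega) a hlt
      · have hbit : a ^^^ 2 ^ i < 2 ^ i := by
          refine Nat.lt_pow_two_of_testBit _ fun j hj => ?_
          rcases eq_or_lt_of_le hj with rfl | hj'
          · have : a.testBit i = true := Nat.testBit_of_two_pow_le_and_two_pow_add_one_gt
              (by omega) ha
            simp [this]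
          · rw [Nat.testBit_xor, Nat.testBit_lt_two_pow (ha.trans_le
              (Nat.pow_le_pow_right (by norm_num) hj')), Nat.testBit_two_pow]
            simp [Nat.ne_of_lt hj']
        have e1 : lin e.1 a ^^^ a =
            (lin e.1 (a ^^^ 2 ^ i) ^^^ (a ^^^ 2 ^ i)) ^^^ (lin e.1 (2 ^ i) ^^^ 2 ^ i) := by
          rw [lin_xor]
          apply Nat.eq_of_testBit_eq
          intro j
          simp only [Nat.testBit_xor]
          cases (lin e.1 a).testBit j <;> cases (lin e.1 (2 ^ i)).testBit j <;>
            cases a.testBit j <;> cases (2 ^ i).testBit j <;> rfl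
        rw [e1]
        exact mask_xor (ih (by omega) _ hbit) (hbas i (List.mem_range.mpr (by omega)))
  exact key 11 le_rfl a (by norm_num; omega)

/-- The preimage of a commutator. -/
def preim (us : List ℕ) (k : ℕ) : ℕ := combine us k

/-- One row: every fixed vector is a transversal element times a commutator, and every transversal
element is moved into the span. -/
def rowOk (e : ℕ × List ℕ × List (ℕ × ℕ)) : Bool :=
  Nat.beq e.1 oneCode ||
    (((List.range (2 ^ e.2.1.length)).all fun k => Nat.blt (preim e.2.1 k) 2048) &&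
     (let B := maskOf ((List.range (2 ^ e.2.1.length)).map fun k =>
        lin e.1 (preim e.2.1 k) ^^^ preim e.2.1 k)
      forceL (rowsOf e.1) fun rs => forceNat B fun B =>
      (List.range 2048).all fun c => !Nat.beq (combine rs c) c ||
        e.2.2.any fun r => B.testBit (c ^^^ r.1)) &&
     e.2.2.all fun r => Nat.blt r.1 2048 && Nat.blt r.2 Data4.conjs.length &&
       (let q := Data4.conjs.getD r.2 (0, 0)
        mem (Data4.perms.map Prod.fst) (cj q e.1) && Data4.yMask.testBit (lin q.1 r.1)))

theorem rows_ok : (Data4.perms.all rowOk) = true := by decide +kernel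

/-- Every fixed vector of a nontrivial permutation is, up to a commutator, moved into the span. -/
theorem row_spec {e : ℕ × List ℕ × List (ℕ × ℕ)} (he : e ∈ Data4.perms) (h1 : e.1 ≠ oneCode)
    {c : ℕ} (hc : c < 2048) (hfix : lin e.1 c = c) :
    ∃ m r : ℕ, ∃ q ∈ Data4.conjs, m < 2048 ∧ r < 2048 ∧ c = r ^^^ (lin e.1 m ^^^ m) ∧
      cj q e.1 ∈ Data4.perms.map Prod.fst ∧ Data4.yMask.testBit (lin q.1 r) = true := by
  have h := rows_ok
  simp only [rowOk, forceL_eq, forceNat_eq, List.all_eq_true, Bool.or_eq_true, Bool.and_eq_true, Nat.beq_eq, List.mem_range,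
    Bool.not_eq_true', ← Bool.not_eq_true, List.any_eq_true, testBit_maskOf, Nat.blt_eq,
    mem_iff] at h
  obtain ⟨⟨hlt, hcov⟩, hrep⟩ := (h e he).resolve_left h1
  obtain ⟨r, hr, hrB⟩ := (hcov c hc).resolve_left (fun hn => hn hfix)
  obtain ⟨k, hk, hke⟩ := List.mem_map.mp hrB
  obtain ⟨⟨hr1, hr2⟩, hmem, hy⟩ := hrep r hr
  refine ⟨preim e.2.1 k, r.1, _, ?_, hlt k (List.mem_range.mp hk), hr1, ?_, hmem, hy⟩
  · rw [List.getD_eq_getElem _ _ hr2]
    exact List.getElem_mem hr2
  · rw [hke, ← Nat.xor_assoc, Nat.xor_comm r.1 c, Nat.xor_assoc, Nat.xor_self, Nat.xor_zero]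

end Cfsg.Agent.Lib.J4Big.Cert4
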