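import Cfsg.Agent.Lib.J4Big.Good
import Cfsg.Agent.Lib.J4Local.ESCount
import Cfsg.Agent.S0111

/-!
# Involutions: first into `O₂(C(z)) V`, then the involutions of `O₂(C(z))`

Every involution is conjugate into `O₂(C(z))` times the `2^11`; an involution of `O₂(C(z))` is a
conjugate of `z` or of one of the 276 (`1 + 1 + 1386 + 2772 = 4160` solutions of `x * x = 1`).
-/

set_option autoImplicit false
set_option linter.unusedSectionVars false
set_option linter.unusedVariables false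

namespace Cfsg.Agent.Lib.J4Big

open Cfsg.Agent.Lib.LargeExtraspecial.Basic Cfsg.Agent.Lib.J4Local Orbit
open scoped Pointwise

variable {G : Type*} [Group G] [Finite G] {z p : G}
variable {T₀ Uh U0 : Subgroup AutM22}

/-- Every involution is conjugate into the inner part of `C(z)`. -/
theorem exists_conj_inner [IsSimpleGroup G] (hG : ¬ IsMulCommutative G) (S : Setting z p)
    {x : G} (hx2 : x * x = 1) (hx1 : x ≠ 1) : ∃ y ∈ inner z p, IsConj x y := by
  have := Fact.mk Nat.prime_two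
  obtain ⟨T, hT⟩ := S.isPGroup_Q.exists_le_sylow
  have hTcz := sylow_le_cz S T hT
  have hxp : IsPGroup 2 ↥(Subgroup.zpowers x) := IsPGroup.of_card (n := 1) (by
    rw [Nat.card_zpowers, orderOf_eq_prime (by rw [pow_two]; exact hx2) hx1, pow_one])
  obtain ⟨P, hP⟩ := hxp.exists_le_sylow
  obtain ⟨g, hg⟩ := MulAction.exists_smul_eq G P T
  set x' := g * x * g⁻¹ with hx'
  have hconj : IsConj x x' := isConj_iff.mpr ⟨g, rfl⟩
  have hx'T : x' ∈ (T : Subgroup G) := by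
    rw [← hg]
    exact ⟨x, hP (Subgroup.mem_zpowers x), rfl⟩
  by_cases hin : x' ∈ inner z p
  · exact ⟨x', hin, hconj⟩
  set R := (T : Subgroup G) ⊓ inner z p with hR
  have hidx : R.relIndex (T : Subgroup G) = 2 := by
    rw [Subgroup.relIndex, Subgroup.index_eq_two_iff]
    refine ⟨⟨x', hx'T⟩, fun b => ?_⟩
    simp only [Subgroup.mem_subgroupOf, Subgroup.coe_mul, hR, Subgroup.mem_inf, b.2,
      mul_mem b.2 hx'T, true_and]
    by_cases hb : (b : G) ∈ inner z p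
    · exact Or.inr ⟨hb, fun h => hin ((Subgroup.mul_mem_cancel_left _ hb).mp h)⟩
    · exact Or.inl ⟨S.mul_mem_inner (hTcz b.2) (hTcz hx'T) hb hin, hb⟩
  have hord : orderOf x' = 2 :=
    (MulEquiv.orderOf_eq (MulAut.conj g) x).trans (orderOf_eq_prime (by rw [pow_two]; exact hx2) hx1)
  rcases Cfsg.Agent.S0111.result T R inf_le_left hidx x' hord hx'T fun h => hin h.2 with
    ⟨M, hM, hMi, hxM⟩ | ⟨k, hk⟩
  · exfalso
    rcases hM.eq_bot_or_eq_top with rfl | rfl
    · rw [Subgroup.index_bot] at hMi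
      refine hG ⟨⟨fun a b => ?_⟩⟩
      have := Fact.mk Nat.prime_two
      have hcyc : IsCyclic G := isCyclic_of_prime_card hMi
      exact (IsCyclic.commGroup (α := G)).mul_comm a b
    · exact hxM (Subgroup.mem_top _)
  · exact ⟨k * x' * k⁻¹, hk.2, hconj.trans (isConj_iff.mpr ⟨k, rfl⟩)⟩

/-- Every involution is conjugate into `O₂(C(z))` times the `2^11`. -/
theorem invol_QV [IsSimpleGroup G] (hG : ¬ IsMulCommutative G) (S : Setting z p) (F : AutFacts)
    (B : BigConfig T₀ Uh U0) {x : G} (hx2 : x * x = 1) (hx1 : x ≠ 1) :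
    ∃ y ∈ Q z ⊔ vv S B, y * y = 1 ∧ IsConj x y := by
  obtain ⟨y, hy, hxy⟩ := exists_conj_inner hG S hx2 hx1
  have hy2 : y * y = 1 := by
    obtain ⟨g, rfl⟩ := isConj_iff.mp hxy
    rw [show g * x * g⁻¹ * (g * x * g⁻¹) = g * (x * x) * g⁻¹ by group, hx2]
    group
  have hyc : y ∈ cz z := inner_le_cz z p hy
  by_cases hu1 : S.img y = 1
  · exact ⟨y, Subgroup.mem_sup_left (S.mem_Q_of_img_one hyc hu1 (k := 1)
      (by rw [pow_one, pow_two]; exact hy2)), hy2, hxy⟩
  have hu : orderOf (S.img y) = 2 := orderOf_eq_prime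
    (by rw [pow_two, ← S.img_mul hyc hyc, hy2, S.img_Q (one_mem _)]) hu1
  have hh := hexad B
  obtain ⟨a, ha, ha1⟩ : ∃ a ∈ Uh, a ≠ 1 := by
    by_contra h
    push Not at h
    have := B.card_Uh
    rw [(Subgroup.eq_bot_iff_forall _).mpr h, Subgroup.card_bot] at this
    norm_num at this
  obtain ⟨c, -, hc⟩ := F.conj_involution _ ((S.img_mem_inn F hyc).mpr hy) a (hh.1 ha) hu
    (orderOf_eq_prime (by rw [pow_two]; exact B.exp_Uh a ha) ha1)
  obtain ⟨k, hk, rfl⟩ := S.img_surj c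
  set y' := k * y * k⁻¹ with hy'
  have hyc' : y' ∈ cz z := mul_mem (mul_mem hk hyc) (inv_mem hk)
  have hy'2 : y' * y' = 1 := by
    rw [show y' * y' = k * (y * y) * k⁻¹ by rw [hy']; group, hy2]
    group
  have himg : S.img y' = a := by
    rw [← hc, hy', S.img_mul (mul_mem hk hyc) (inv_mem hk), S.img_mul hk hyc, S.img_inv hk]
  refine ⟨y', ?_, hy'2, hxy.trans (isConj_iff.mpr ⟨k, rfl⟩)⟩
  obtain ⟨f, hf, hfe⟩ := fSub_surj S F B.exp_Uh hh.1 ha
  have hfc := fSub_le S B.exp_Uh hf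
  have heq := tau_eq_lift S F B.exp_Uh hh.1 B.card_Uh hyc' hf (himg.trans hfe.symm)
    (tau_sq_of_sq S hyc' (by rw [hy'2]; exact one_mem _))
  have hq : f⁻¹ * y' ∈ Q z := mem_Q_of_tau S (mul_mem (inv_mem hfc) hyc') fun v => by
    rw [tau_mul (inv_mem hfc) hyc', heq, ← tau_mul (inv_mem hfc) hfc, inv_mul_cancel, tau_one]
  rw [show y' = f * (f⁻¹ * y') by group]
  exact mul_mem (Subgroup.mem_sup_right (Subgroup.mem_sup_left hf)) (Subgroup.mem_sup_left hq)

/-- The 276 meet `O₂(C(z))` in 36 elements. -/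
theorem ncard_dV_yBig (S : Setting z p) (F : AutFacts) (B : NormConfig T₀ Uh U0)
    (hE : ∃ e ∈ Q z, IsConj z e ∧ e ≠ z) :
    (dV S B.toBigConfig ∩ fibre S B.toBigConfig 1).ncard = 36 := by
  classical
  set B' := B.toBigConfig
  have := Fintype.ofFinite G
  have := Fintype.ofFinite AutM22
  have hmaps : ∀ v ∈ (dV S B').toFinset, S.img v ∈ (Uh : Set AutM22).toFinset := fun v hv => by
    rw [Set.mem_toFinset] at hv ⊢
    exact img_mem_Uh S F B' hv.1
  have hf : ∀ u : AutM22, ((dV S B').toFinset.filter fun v => S.img v = u).card =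
      (dV S B' ∩ fibre S B' u).ncard := fun u => by
    rw [Set.ncard_eq_toFinset_card']
    congr 1
    ext v
    simp only [Finset.mem_filter, Set.mem_toFinset, Set.mem_inter_iff]
    exact ⟨fun h => ⟨h.1, h.1.1, h.2⟩, fun h => ⟨h.1, h.2.2⟩⟩
  have h := card_dV S F B hE
  rw [Set.ncard_eq_toFinset_card', Finset.card_eq_sum_card_fiberwise hmaps,
    ← Finset.add_sum_erase _ _ (show (1 : AutM22) ∈ (Uh : Set AutM22).toFinset by simp),
    hf, Finset.sum_const_nat (m := 16), Finset.card_erase_of_mem (by simp),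
    ← Set.ncard_eq_toFinset_card', show (Uh : Set AutM22).ncard = 16 by
      rw [← Nat.card_coe_set_eq]; exact B.card_Uh] at h
  · omega
  · intro u hu
    rw [Finset.mem_erase, Set.mem_toFinset] at hu
    rw [hf]
    exact (dV_fibre S F B hE hu.2 hu.1).1

/-- At least 1386 conjugates of `z` other than `z` lie in `O₂(C(z))`. -/
theorem ncard_conj_z_Q (S : Setting z p) (F : AutFacts) (B : NormConfig T₀ Uh U0)
    (Me : MeetConfig Uh U0) (hE : ∃ e ∈ Q z, IsConj z e ∧ e ≠ z) :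
    1386 ≤ {e : G | e ∈ Q z ∧ IsConj z e ∧ e ≠ z}.ncard := by
  classical
  have := Fintype.ofFinite G
  have := Fintype.ofFinite (Subgroup AutM22)
  set X := {e : G | e ∈ Q z ∧ IsConj z e ∧ e ≠ z} with hX
  set D := {U' : Subgroup AutM22 | ∃ g : AutM22, U' = U0.map (MulAut.conj g).toMonoidHom} with hD
  have hmaps : ∀ e ∈ X.toFinset, uE S e ∈ D.toFinset := by
    intro e he
    rw [Set.mem_toFinset] at he ⊢
    obtain ⟨heQ, hc, hne⟩ := he
    obtain ⟨r, T⟩ := S.exists_setting hc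
    exact (uE_facts S F B T heQ hne).2.2
  rw [Set.ncard_eq_toFinset_card', Finset.card_eq_sum_card_fiberwise hmaps]
  have hc : D.toFinset.card = 231 := by rw [← Set.ncard_eq_toFinset_card']; exact Me.duads
  refine le_trans (le_of_eq (show (1386 : ℕ) = D.toFinset.card • 6 by rw [hc]; rfl))
    (Finset.card_nsmul_le_sum _ _ _ fun U' hU' => ?_)
  rw [Set.mem_toFinset] at hU'
  obtain ⟨g, hg⟩ := hU'
  have hx2 : IsExp2 U' := hg ▸ isExp2_map B.exp_U0 g
  obtain ⟨h4, hl⟩ := line_of_duad S F B hE hx2 ⟨g, hg⟩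
  refine le_trans (le_of_eq ?_) (Finset.card_le_card
    (show ((up z (wFix S U' hx2) : Set G) \ {1, z}).toFinset ⊆
      X.toFinset.filter fun e => uE S e = U' from ?_))
  · have hsub : ({1, z} : Set G) ⊆ (up z (wFix S U' hx2) : Set G) := by
      rintro x (rfl | rfl)
      exacts [one_mem _, z_mem_up S _]
    rw [← Set.ncard_eq_toFinset_card', Set.ncard_sdiff hsub, ← Nat.card_coe_set_eq,
      SetLike.coe_sort_coe, card_up S, h4, Set.ncard_pair S.z_ne_one.symm]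
  · intro e he
    simp only [Set.mem_toFinset, Set.mem_sdiff, SetLike.mem_coe, Set.mem_insert_iff,
      Set.mem_singleton_iff, not_or] at he
    obtain ⟨heQ, hm⟩ := mem_up.mp he.1
    obtain ⟨hc, hu⟩ := hl e heQ he.2.1 he.2.2 hm
    exact Finset.mem_filter.mpr ⟨Set.mem_toFinset.mpr ⟨heQ, hc, he.2.2⟩, hu⟩

/-- At least 2772 elements of `O₂(C(z))` are conjugate to one of the 276. -/
theorem ncard_conj_dV_Q (S : Setting z p) (F : AutFacts) (B : NormConfig T₀ Uh U0)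
    (Me : MeetConfig Uh U0) (hE : ∃ e ∈ Q z, IsConj z e ∧ e ≠ z) :
    2772 ≤ {x : G | x ∈ Q z ∧ ∃ d ∈ dV S B.toBigConfig, IsConj x d}.ncard := by
  classical
  have := Fintype.ofFinite G
  set B' := B.toBigConfig
  set X := {x : G | x ∈ Q z ∧ ∃ d ∈ dV S B', IsConj x d} with hX
  set D := dV S B' ∩ fibre S B' 1 with hD
  have hy : ∀ {d}, d ∈ D → d ∈ yBig S Uh B.exp_Uh := fun {d} hd =>
    (img_one_iff S F B' hd.1.1).mp hd.2.2
  set s := (cz z : Set G).toFinset ×ˢ D.toFinset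
  have hmaps : ∀ a ∈ s, a.1 * a.2 * a.1⁻¹ ∈ X.toFinset := by
    rintro ⟨h, d⟩ ha
    obtain ⟨hh, hd⟩ := Finset.mem_product.mp ha
    rw [Set.mem_toFinset] at hh hd ⊢
    exact ⟨S.conj_mem hh (yBig_le S B.exp_Uh (hy hd)), d, hd.1,
      (isConj_iff.mpr ⟨h, rfl⟩).symm⟩
  have hfib : ∀ x ∈ X.toFinset, (s.filter fun a => a.1 * a.2 * a.1⁻¹ = x).card ≤
      Nat.card ↥(mSt S Uh) := by
    intro x _
    rcases (s.filter fun a => a.1 * a.2 * a.1⁻¹ = x).eq_empty_or_nonempty with he | ⟨⟨h₀, d₀⟩, h0⟩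
    · rw [he, Finset.card_empty]; exact Nat.zero_le _
    rw [← SetLike.coe_sort_coe, Nat.card_coe_set_eq, Set.ncard_eq_toFinset_card']
    simp only [s, Finset.mem_filter, Finset.mem_product, Set.mem_toFinset] at h0
    obtain ⟨⟨hh₀, hd₀⟩, hx0⟩ := h0
    refine Finset.card_le_card_of_injOn (fun a => h₀⁻¹ * a.1) ?_ ?_
    · rintro ⟨h, d⟩ ha
      simp only [s, Finset.coe_filter, Set.mem_ofPred_eq, Finset.mem_product, Set.mem_toFinset] at ha
      obtain ⟨⟨hh, hd⟩, hx⟩ := ha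
      simp only [Set.coe_toFinset, SetLike.mem_coe]
      have hk : h₀⁻¹ * h ∈ cz z := mul_mem (inv_mem hh₀) hh
      refine (mem_mSt S).mpr ⟨hk, ?_⟩
      have hkd : h₀⁻¹ * h * d * (h₀⁻¹ * h)⁻¹ = d₀ := by
        calc h₀⁻¹ * h * d * (h₀⁻¹ * h)⁻¹ = h₀⁻¹ * (h * d * h⁻¹) * h₀ := by group
          _ = h₀⁻¹ * (h₀ * d₀ * h₀⁻¹) * h₀ := by rw [hx, hx0]
          _ = d₀ := by group
      obtain ⟨hdQ, hdm⟩ := mem_up.mp (hy hd)
      obtain ⟨hd₀Q, hd₀m⟩ := mem_up.mp (hy hd₀)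
      have hm := wFix_map S F B.exp_Uh (hexad B').1 B.card_Uh hk
        (isExp2_map B.exp_Uh (S.img (h₀⁻¹ * h))) hdm
      rw [tau_mk hk, show (⟨_, isQ.normal (mem_cz.mp hk) hdQ⟩ : ↥(Q z)) = ⟨d₀, hd₀Q⟩ from
        Subtype.ext hkd] at hm
      exact wFix_disjoint S F B Me hE hd₀Q hd₀.1.2.1 hd₀.1.2.2 hd₀m hm
    · rintro ⟨h, d⟩ ha ⟨h', d'⟩ ha' e
      simp only [Finset.coe_filter, Set.mem_ofPred_eq] at ha ha'
      have e1 : h = h' := mul_left_cancel e
      subst e1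
      exact Prod.ext rfl (mul_left_cancel (mul_right_cancel (ha.2.trans ha'.2.symm)))
  have hle := Finset.card_le_mul_card_image_of_maps_to hmaps _ hfib
  rw [Finset.card_product, ← Set.ncard_eq_toFinset_card', ← Set.ncard_eq_toFinset_card',
    ← Set.ncard_eq_toFinset_card', ← Nat.card_coe_set_eq (cz z : Set G), SetLike.coe_sort_coe,
    S.card_cz F, card_mSt S F B, ncard_dV_yBig S F B hE] at hle
  omega

/-- An involution of `O₂(C(z))` is a conjugate of `z` or of one of the 276. -/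
theorem invol_Q (S : Setting z p) (F : AutFacts) (B : NormConfig T₀ Uh U0)
    (Me : MeetConfig Uh U0) (hE : ∃ e ∈ Q z, IsConj z e ∧ e ≠ z) {x : G} (hx : x ∈ Q z)
    (hx2 : x * x = 1) (hx1 : x ≠ 1) :
    IsConj z x ∨ ∃ d ∈ dV S B.toBigConfig, IsConj x d := by
  set B' := B.toBigConfig
  set C₁ := {e : G | e ∈ Q z ∧ IsConj z e ∧ e ≠ z} with hC₁
  set C₂ := {x : G | x ∈ Q z ∧ ∃ d ∈ dV S B', IsConj x d} with hC₂
  set I := {x : G | x ∈ Q z ∧ x * x = 1} with hI
  have sq_conj : ∀ {a b : G}, IsConj a b → a * a = 1 → b * b = 1 := by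
    intro a b h ha
    obtain ⟨g, rfl⟩ := isConj_iff.mp h
    rw [show g * a * g⁻¹ * (g * a * g⁻¹) = g * (a * a) * g⁻¹ by group, ha]
    group
  have hsub : ({1, z} : Set G) ∪ C₁ ∪ C₂ ⊆ I := by
    rintro a (((rfl | rfl) | ⟨ha, hc, -⟩) | ⟨ha, d, hd, hc⟩)
    exacts [⟨one_mem _, one_mul 1⟩, ⟨S.es.mem, S.z_sq⟩, ⟨ha, sq_conj hc S.z_sq⟩,
      ⟨ha, sq_conj hc.symm ((vv_facts S F B').2.1 d hd.1)⟩]
  have hIc : I.ncard ≤ 4160 := by
    have h := ESCount.sq_count S.es
    have e : Nat.card {e : ↥(Q z) // (e : G) * e = 1} = I.ncard := by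
      rw [← Nat.card_coe_set_eq]
      exact Nat.card_congr (Equiv.subtypeSubtypeEquivSubtypeInter (fun a => a ∈ Q z) fun a => a * a = 1)
    rw [e, S.card_E] at h
    push_cast at h
    have : (I.ncard : ℤ) ≤ 4160 := by nlinarith
    exact_mod_cast this
  have d1 : Disjoint ({1, z} : Set G) C₁ := Set.disjoint_left.mpr fun a ha hc => by
    rcases ha with rfl | rfl
    · exact S.z_ne_one (isConj_one_left.mp hc.2.1)
    · exact hc.2.2 rfl
  have d2 : Disjoint (({1, z} : Set G) ∪ C₁) C₂ := Set.disjoint_left.mpr fun a ha hc => by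
    obtain ⟨-, d, hd, hcd⟩ := hc
    rcases ha with (rfl | rfl) | hz
    · exact hd.2.1 (isConj_one_right.mp hcd)
    · exact hd.2.2 hcd
    · exact hd.2.2 (hz.2.1.trans hcd)
  have h4160 : I.ncard ≤ (({1, z} : Set G) ∪ C₁ ∪ C₂).ncard := by
    rw [Set.ncard_union_eq d2, Set.ncard_union_eq d1, Set.ncard_pair S.z_ne_one.symm]
    have h1 := ncard_conj_z_Q S F B Me hE
    have h2 := ncard_conj_dV_Q S F B Me hE
    rw [← hC₁] at h1
    rw [← hC₂] at h2
    omega
  have hmem : x ∈ ({1, z} : Set G) ∪ C₁ ∪ C₂ :=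
    (Set.eq_of_subset_of_ncard_le hsub h4160 (Set.toFinite _)).symm ▸ ⟨hx, hx2⟩
  rcases hmem with (h | h) | h
  · rcases h with rfl | rfl
    · exact absurd rfl hx1
    · exact Or.inl (IsConj.refl _)
  · exact Or.inl h.2.1
  · exact Or.inr h.2

end Cfsg.Agent.Lib.J4Big
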