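import Cfsg.Agent.Lib.J4Big.Cert4
import Cfsg.Agent.Lib.J4Big.Invol

/-!
# Involutions over the sextet group are conjugate into `O₂` or lie in the `2^11`
-/

set_option autoImplicit false
set_option linter.unusedSectionVars false
set_option linter.unusedVariables false

namespace Cfsg.Agent.Lib.J4Big

open Cfsg Cfsg.Agent.Lib.Golay Cfsg.Agent.Lib.Computation Cfsg.Agent.Lib.LargeExtraspecial.Basic
open Cfsg.Agent.Lib.J4Local Cocode
open Cfsg.Agent.Lib.J4Local.SylTable (testBit_maskOf)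
open Cfsg.Agent.Lib.J4Big.Cert4

variable {G : Type*} [Group G] [Finite G] {z p : G}
variable {T₀ Uh U0 : Subgroup AutM22}

theorem qConj {g e : G} (hg : g ∈ cz z) (he : e ∈ Q z) : g * e * g⁻¹ ∈ Q z := by
  have := isQ.mem_conj g he
  rwa [mul_inv_eq_iff_eq_mul.mpr (mem_cz.mp hg).eq] at this

theorem Q_le_normalizer (S : Setting z p) (F : AutFacts) (B : BigConfig T₀ Uh U0) :
    Q z ≤ Subgroup.normalizer (vv S B : Set G) :=
  (Q_le_mSt S).trans (mSt_le_normalizer S F B)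

theorem QV_le_normalizer (S : Setting z p) (F : AutFacts) (B : BigConfig T₀ Uh U0) :
    Q z ⊔ vv S B ≤ Subgroup.normalizer (vv S B : Set G) :=
  sup_le (Q_le_normalizer S F B) Subgroup.le_normalizer

/-- Every element of the join is a product. -/
theorem mem_QV (S : Setting z p) (F : AutFacts) (B : BigConfig T₀ Uh U0) {x : G}
    (hx : x ∈ Q z ⊔ vv S B) : ∃ q ∈ Q z, ∃ v ∈ vv S B, x = q * v := by
  have hn : ∀ n ∈ Q z, ∀ v ∈ vv S B, n * v * n⁻¹ ∈ vv S B := fun n hn v hv =>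
    (Subgroup.mem_normalizer_iff.mp (Q_le_normalizer S F B hn) v).mp hv
  let M : Subgroup G :=
    { carrier := {x | ∃ q ∈ Q z, ∃ v ∈ vv S B, x = q * v}
      one_mem' := ⟨1, one_mem _, 1, one_mem _, (one_mul 1).symm⟩
      mul_mem' := by
        rintro _ _ ⟨q, hq, v, hv, rfl⟩ ⟨r, hr, w, hw, rfl⟩
        refine ⟨q * r, mul_mem hq hr, r⁻¹ * v * r * w, mul_mem ?_ hw, by group⟩
        simpa using hn r⁻¹ (inv_mem hr) v hv
      inv_mem' := by
        rintro _ ⟨q, hq, v, hv, rfl⟩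
        exact ⟨q⁻¹, inv_mem hq, q * v⁻¹ * q⁻¹, hn q hq _ (inv_mem hv), by group⟩ }
  have hle : Q z ⊔ vv S B ≤ M := sup_le (fun q hq => ⟨q, hq, 1, one_mem _, (mul_one q).symm⟩)
    fun v hv => ⟨1, one_mem _, v, hv, (one_mul v).symm⟩
  exact hle hx

/-- The elements of the join centralising `p` lie in the `2^11`. -/
theorem centP_QV (S : Setting z p) (F : AutFacts) (B : BigConfig T₀ Uh U0) {x : G}
    (hx : x ∈ Q z ⊔ vv S B) (hp : Commute x p) : x ∈ vv S B := by
  obtain ⟨q, hq, v, hv, rfl⟩ := mem_QV S F B hx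
  obtain ⟨hc, h2, hcz⟩ := vv_facts S F B
  have hi : Uh ≤ inn := (hexad B).1
  obtain ⟨f, hf, hfe⟩ := fSub_surj S F B.exp_Uh hi (img_mem_Uh S F B hv)
  have hfV : f ∈ vv S B := Subgroup.mem_sup_left hf
  have hy : f⁻¹ * v ∈ yBig S Uh B.exp_Uh := by
    refine (img_one_iff S F B (mul_mem (inv_mem hfV) hv)).mp ?_
    rw [S.img_mul (inv_mem (hcz hfV)) (hcz hv), S.img_inv (hcz hfV), hfe, inv_mul_cancel]
  set q' := q * (f * (f⁻¹ * v) * f⁻¹) with hq'
  have hyQ : f⁻¹ * v ∈ Q z := yBig_le S B.exp_Uh hy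
  have hfy : f * (f⁻¹ * v) * f⁻¹ ∈ Q z := by
    rw [comm_of_sq h2 hfV (Subgroup.mem_sup_right hy), mul_inv_cancel_right]
    exact hyQ
  have hq'Q : q' ∈ Q z := mul_mem hq hfy
  have e : q * v = q' * f := by rw [hq']; group
  rw [e] at hp ⊢
  have hfp : Commute f p := mem_cz.mp hf.1.2
  have hqp : Commute q' p := by
    have := hp.mul_left hfp.inv_left
    rwa [mul_inv_cancel_right] at this
  refine mul_mem ?_ hfV
  rcases S.fix q' hq'Q hqp with h | h <;> rw [h]
  · exact one_mem _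
  · exact z_mem_vv S B

/-- A subgroup meeting the `2^11` trivially and containing `p` meets the join inside `O₂`. -/
theorem inf_QV_le_Q (S : Setting z p) (F : AutFacts) (B : BigConfig T₀ Uh U0) {K : Subgroup G}
    (hK : K ⊓ vv S B = ⊥) (hp : p ∈ K) {k : G} (hk : k ∈ K) (hkQ : k ∈ Q z ⊔ vv S B) : k ∈ Q z := by
  set A := K ⊓ (Q z ⊔ vv S B) with hA
  have hQcz : Q z ⊔ vv S B ≤ cz z := sup_le (Q_le_cz z) (vv_facts S F B).2.2
  have hpN : p ∈ Subgroup.normalizer (vv S B : Set G) :=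
    mSt_le_normalizer S F B ((mem_mSt S).mpr ⟨S.p_mem_cz, by rw [S.img_p]; exact one_mem _⟩)
  have hconj : ∀ a ∈ Q z ⊔ vv S B, p * a * p⁻¹ ∈ Q z ⊔ vv S B := by
    intro a ha
    obtain ⟨q, hq, v, hv, rfl⟩ := mem_QV S F B ha
    rw [show p * (q * v) * p⁻¹ = p * q * p⁻¹ * (p * v * p⁻¹) by group]
    exact mul_mem (Subgroup.mem_sup_left (qConj (S.p_mem_cz) hq))
      (Subgroup.mem_sup_right ((Subgroup.mem_normalizer_iff.mp hpN v).mp hv))
  have hpow : ∀ a ∈ Q z ⊔ vv S B, ∃ n : ℕ, a ^ (2 ^ n) = 1 := by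
    intro a ha
    obtain ⟨q, hq, v, hv, rfl⟩ := mem_QV S F B ha
    have hac := hQcz ha
    have h1 : S.img ((q * v) * (q * v)) = 1 := by
      rw [S.img_mul hac hac, S.img_mul (Q_le_cz z hq) (hQcz (Subgroup.mem_sup_right hv)),
        S.img_Q hq, one_mul]
      exact B.exp_Uh _ (img_mem_Uh S F B hv)
    have h2 : (q * v) * (q * v) ∈ Q z := by
      obtain ⟨v', hv', e⟩ : ∃ v' ∈ vv S B, (q * v) * (q * v) = q * (v * q * v⁻¹) * v' :=
        ⟨v * v, mul_mem hv hv, by group⟩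
      rw [e, show v' = v' from rfl]
      have hq2 : q * (v * q * v⁻¹) ∈ Q z :=
        mul_mem hq (qConj (hQcz (Subgroup.mem_sup_right hv)) hq)
      have hvv : v' = v * v := by
        have := e
        calc v' = (q * (v * q * v⁻¹))⁻¹ * ((q * v) * (q * v)) := by rw [this]; group
          _ = v * v := by group
      rw [hvv, (vv_facts S F B).2.1 v hv, mul_one]
      exact hq2
    obtain ⟨n, hn⟩ := S.isPGroup_Q ⟨_, h2⟩
    refine ⟨n + 1, ?_⟩
    have := congrArg Subtype.val hn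
    rw [pow_succ', pow_mul, pow_two]
    simpa using this
  let φ : ↥A → ↥(A ⊓ Q z) := fun a => ⟨(a : G)⁻¹ * (p * a * p⁻¹), ⟨
    ⟨K.mul_mem (K.inv_mem a.2.1) (K.mul_mem (K.mul_mem hp a.2.1) (K.inv_mem hp)),
      (Q z ⊔ vv S B).mul_mem ((Q z ⊔ vv S B).inv_mem a.2.2) (hconj a a.2.2)⟩, by
      have hac := hQcz a.2.2
      refine S.mem_Q_of_img_one (mul_mem (inv_mem hac) (hQcz (hconj a a.2.2))) ?_
        (k := Classical.choose (hpow _ ((Q z ⊔ vv S B).mul_mem ((Q z ⊔ vv S B).inv_mem a.2.2) (hconj a a.2.2))))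
        (Classical.choose_spec (hpow _ ((Q z ⊔ vv S B).mul_mem ((Q z ⊔ vv S B).inv_mem a.2.2) (hconj a a.2.2))))
      rw [S.img_mul (inv_mem hac) (hQcz (hconj a a.2.2)), S.img_inv hac,
        S.img_mul (mul_mem S.p_mem_cz hac) (inv_mem S.p_mem_cz), S.img_mul S.p_mem_cz hac,
        S.img_inv S.p_mem_cz, S.img_p]
      group⟩⟩
  have hφ : Function.Injective φ := by
    intro a b h
    have h' : (a : G)⁻¹ * (p * a * p⁻¹) = (b : G)⁻¹ * (p * b * p⁻¹) := congrArg Subtype.val h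
    set c := (b : G) * (a : G)⁻¹ with hcdef
    have hcp : Commute c p := by
      have e : p * c * p⁻¹ = c := by
        calc p * c * p⁻¹ = (b : G) * ((b : G)⁻¹ * (p * b * p⁻¹)) * (p * a * p⁻¹)⁻¹ := by
              rw [hcdef]; group
          _ = (b : G) * ((a : G)⁻¹ * (p * a * p⁻¹)) * (p * a * p⁻¹)⁻¹ := by rw [h']
          _ = c := by rw [hcdef]; group
      exact (mul_inv_eq_iff_eq_mul.mp e).symm
    have hc1 : c = 1 := by
      have hcV := centP_QV S F B ((Q z ⊔ vv S B).mul_mem b.2.2 ((Q z ⊔ vv S B).inv_mem a.2.2)) hcp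
      have : c ∈ K ⊓ vv S B := ⟨K.mul_mem b.2.1 (K.inv_mem a.2.1), hcV⟩
      rwa [hK, Subgroup.mem_bot] at this
    exact Subtype.ext (mul_inv_eq_one.mp hc1).symm
  have hle : A ⊓ Q z = A := Subgroup.eq_of_le_of_card_ge inf_le_left (Nat.card_le_card_of_injective φ hφ)
  have : k ∈ A ⊓ Q z := by rw [hle]; exact ⟨hk, hkQ⟩
  exact this.2

section Frame

variable (S : Setting z p) (F : AutFacts) (B : NormConfig T₀ Uh U0)
variable (hE : ∃ e ∈ Q z, IsConj z e ∧ e ≠ z)

include F hE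

/-- There are coordinates in which `z` is the vector `14`, as stated. -/
theorem exists_frame_z : ∃ ψ, IsFrame (vv S B.toBigConfig) (dV S B.toBigConfig) ψ ∧ ψ 14 = z := by
  obtain ⟨t, ht⟩ := dV_nonempty S F B hE
  obtain ⟨ψ, H, -⟩ := exists_frame_vv S F B hE ht
  have hbit : dGood.testBit 14 = false := by decide +kernel
  have h14 : ψ 14 ∈ oV S B.toBigConfig := by
    refine ⟨H.mem 14, ?_⟩
    by_contra hc
    have : ψ 14 ∈ dV S B.toBigConfig := ⟨H.mem 14, fun e => by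
      have := H.inj 14 0 (by norm_num) (by norm_num) (e.trans H.psi_zero.symm)
      omega, hc⟩
    rw [H.mem_D 14 (by norm_num), hbit] at this
    exact Bool.false_ne_true this
  rw [← orb_z S F] at h14
  obtain ⟨n, hn, hne⟩ := h14
  refine ⟨_, frame_conj H (n := n⁻¹)
    (fun v => (Subgroup.mem_normalizer_iff.mp (inv_mem hn) v).symm)
    (fun v hv => conj_mem_dV_iff S F B.toBigConfig (inv_mem hn) hv), ?_⟩
  simp only [← hne]
  group

variable {ψ : ℕ → G} (H : IsFrame (vv S B.toBigConfig) (dV S B.toBigConfig) ψ) (hz : ψ 14 = z)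

include H hz

/-- The masked vectors lie in `O₂`. -/
theorem mask_mem_yBig {a : ℕ} (ha : Data4.yMask.testBit a = true) :
    ψ a ∈ yBig S Uh B.exp_Uh := by
  have hok := yB_ok
  simp only [Bool.and_eq_true, List.all_eq_true, Nat.blt_eq, List.mem_range, Nat.beq_eq] at hok
  obtain ⟨⟨⟨⟨hgen, hlt⟩, -⟩, hmask⟩, -⟩ := hok
  rw [hmask, testBit_maskOf] at ha
  obtain ⟨k, -, rfl⟩ := List.mem_map.mp ha
  have key : ∀ (l : List ℕ), (∀ y ∈ l, y < 2048 ∧ ψ y ∈ yBig S Uh B.exp_Uh) →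
      ∀ k, combine l k < 2048 ∧ ψ (combine l k) ∈ yBig S Uh B.exp_Uh := by
    intro l
    induction l with
    | nil => intro _ k; simp only [combine]; exact ⟨by norm_num, by rw [H.psi_zero]; exact one_mem _⟩
    | cons r l ih =>
      intro hl k
      obtain ⟨hlt', hmem⟩ := ih (fun y hy => hl y (List.mem_cons_of_mem _ hy)) (k / 2)
      rw [combine]
      by_cases hk : k % 2 = 1
      · obtain ⟨hr, hrm⟩ := hl r List.mem_cons_self
        rw [if_pos hk, H.mul _ _ hr hlt']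
        exact ⟨Nat.xor_lt_two_pow (n := 11) hr hlt', mul_mem hrm hmem⟩
      · rw [if_neg hk, Nat.zero_xor]
        exact ⟨hlt', hmem⟩
  refine (key _ (fun y hy => ?_) k).2
  obtain ⟨⟨hy1, hy2⟩, hy3⟩ := hgen y hy
  refine ⟨hy1, mem_yBig_of_mul_z S F B hE ((H.mem_D y hy1).mpr hy2) ?_⟩
  rw [show ψ y * z = ψ (y ^^^ 14) by
    rw [H.mul y 14 hy1 (by norm_num)]; exact congrArg _ hz.symm]
  exact (H.mem_D _ (Nat.xor_lt_two_pow (n := 11) hy1 (by norm_num))).mpr hy3

/-- A listed permutation is only induced by elements of the join. -/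
theorem mem_QV_of_perm {e : ℕ × List ℕ × List (ℕ × ℕ)} (he : e ∈ Data4.perms) {n : G}
    (hn : n ∈ Subgroup.normalizer (vv S B.toBigConfig : Set G)) (hr : Rel ψ n (gperm e.1)) :
    n ∈ Q z ⊔ vv S B.toBigConfig := by
  have hok := triv_ok
  simp only [List.all_eq_true, trivOk, Bool.and_eq_true, Bool.or_eq_true, Nat.beq_eq] at hok
  obtain ⟨⟨⟨⟨⟨hM, -⟩, -⟩, -⟩, h14⟩, hy0⟩ := hok e he
  have hc := okCode_of_inM24 hM
  have hlt : ∀ a < 2048, combine (rowsOf e.1) a < 2048 := fun a ha => (triv_mask he ha).1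
  have hact : ∀ a < 2048, n * ψ a * n⁻¹ = ψ (lin e.1 a) := fun a ha => act_code H hc hr hlt ha
  have hncz : n ∈ cz z := by
    refine mem_cz.mpr (mul_inv_eq_iff_eq_mul.mp ?_)
    rw [← hz, hact 14 (by norm_num), h14]
  obtain ⟨hVc, hV2, hVcz⟩ := vv_facts S F B.toBigConfig
  -- the image centralises `Uh`
  have himg : S.img n ∈ Uh := by
    rw [← B.cent_Uh, Subgroup.mem_centralizer_iff]
    intro u hu
    rw [← imgS_vv S F B.toBigConfig] at hu
    obtain ⟨v, hv, rfl⟩ := (S.mem_imgS hVcz).mp hu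
    obtain ⟨a, ha, rfl⟩ := H.surj v hv
    obtain ⟨hl, hmask⟩ := triv_mask he ha
    have hyb := mask_mem_yBig S F B hE H hz hmask
    rw [H.mul _ _ hl ha, ← hact a ha] at hyb
    have h1 := S.img_Q (yBig_le S B.exp_Uh hyb)
    rw [S.img_mul (mul_mem (mul_mem hncz (hVcz (H.mem a))) (inv_mem hncz)) (hVcz (H.mem a)),
      S.img_mul (mul_mem hncz (hVcz (H.mem a))) (inv_mem hncz), S.img_mul hncz (hVcz (H.mem a)),
      S.img_inv hncz] at h1
    have hsq : S.img (ψ a) * S.img (ψ a) = 1 := B.exp_Uh _ (img_mem_Uh S F B.toBigConfig (H.mem a))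
    have h2 := eq_inv_of_mul_eq_one_left h1
    rw [inv_eq_of_mul_eq_one_right hsq] at h2
    exact (mul_inv_eq_iff_eq_mul.mp h2).symm
  obtain ⟨f, hf, hfe⟩ := fSub_surj S F B.exp_Uh (hexad B.toBigConfig).1 himg
  have hfc := fSub_le S B.exp_Uh hf
  have hfV : f ∈ vv S B.toBigConfig := Subgroup.mem_sup_left hf
  have h1 : S.img (f⁻¹ * n) = 1 := by
    rw [S.img_mul (inv_mem hfc) hncz, S.img_inv hfc, hfe, inv_mul_cancel]
  obtain ⟨q, hq, i, hqi⟩ := (S.img_eq_one (mul_mem (inv_mem hfc) hncz)).mp h1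
  have hne : n = f * (q * p ^ i) := by rw [← hqi, mul_inv_cancel_left]
  have hpi : p ^ i = 1 := by
    -- a vector of the span fixed modulo `z`
    set y := Data4.yB.getD 0 0
    have hyok := yB_ok
    simp only [Bool.and_eq_true, List.all_eq_true, Nat.blt_eq, List.mem_range, Nat.beq_eq] at hyok
    obtain ⟨⟨hy1, hy2⟩, hy3⟩ := hyok.1.1.1.1 y (by decide +kernel)
    have hyd : ψ y ∈ dV S B.toBigConfig := (H.mem_D y hy1).mpr hy2
    have hyY : ψ y ∈ yBig S Uh B.exp_Uh := by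
      refine mem_yBig_of_mul_z S F B hE hyd ?_
      rw [show ψ y * z = ψ (y ^^^ 14) by
        rw [H.mul y 14 hy1 (by norm_num)]; exact congrArg _ hz.symm]
      exact (H.mem_D _ (Nat.xor_lt_two_pow (n := 11) hy1 (by norm_num))).mpr hy3
    obtain ⟨hyQ, hym⟩ := mem_up.mp hyY
    set w := mkV z ⟨ψ y, hyQ⟩
    have hw1 : w ≠ 1 := fun h => by
      rcases (S.mem_center _).mp ((QuotientGroup.eq_one_iff _).mp h) with h' | h'
      · exact hyd.2.1 h'
      · exact hyd.2.2 (by rw [show ψ y = z from h'])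
    have hpc : p ^ i ∈ cz z := zpow_mem S.p_mem_cz i
    have hnw : tau z n w = w := by
      rw [tau_mk hncz, S.mk_eq_iff]
      have hey := hact y hy1
      rcases hy0 with h | h <;> rw [h] at hey
      · exact Or.inl hey
      · exact Or.inr (hey.trans (by rw [H.mul y 14 hy1 (by norm_num), hz]))
    rw [hne, tau_mul hfc (mul_mem (Q_le_cz z hq) hpc), tau_mul (Q_le_cz z hq) hpc, tau_Q S hq] at hnw
    have hpf : tau z (p ^ i) w = w := tau_injective hfc (hnw.trans (hym f hf).symm)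
    rcases S.p_zpow_cases i with h | h | h
    · exact h
    · exact absurd (tau_p_fix S w (by rwa [h] at hpf)) hw1
    · exfalso
      rw [h, tau_mul S.p_mem_cz S.p_mem_cz] at hpf
      have h3 := tau_p3 S w
      rw [hpf] at h3
      exact hw1 (tau_p_fix S w h3)
  rw [hne, hpi, mul_one]
  exact mul_mem (Subgroup.mem_sup_right hfV) (Subgroup.mem_sup_left hq)

/-- The permutations of the join are the listed ones. -/
theorem perm_QV {n : G} (hn : n ∈ Q z ⊔ vv S B.toBigConfig) :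
    ∃ e ∈ Data4.perms, Rel ψ n (gperm e.1) := by
  classical
  set N := Subgroup.normalizer (vv S B.toBigConfig : Set G)
  have hQN := Q_le_normalizer S F B.toBigConfig
  have hQV := QV_le_normalizer S F B.toBigConfig
  let g : ↥(Q z) →* ↥Cfsg.M24 := (phiM24 S F B.toBigConfig H).comp (Subgroup.inclusion hQN)
  have hg : Nat.card ↥g.range ≤ 64 := by
    have h := Subgroup.card_mul_index g.ker
    rw [Subgroup.index_ker, S.card_E] at h
    have hker : g.ker = (yBig S Uh B.exp_Uh).subgroupOf (Q z) := by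
      ext q
      rw [MonoidHom.mem_ker, Subgroup.mem_subgroupOf, show g q = phiM24 S F B.toBigConfig H (Subgroup.inclusion hQN q) from rfl,
        ← MonoidHom.mem_ker, phiM24_ker S F B H, Subgroup.mem_subgroupOf,
        ← vv_inf_Q S F B.toBigConfig]
      exact ⟨fun h => ⟨h, q.2⟩, fun h => h.1⟩
    rw [hker, Nat.card_congr (Subgroup.subgroupOfEquivOfLe (yBig_le S B.exp_Uh)).toEquiv,
      show Nat.card ↥(yBig S Uh B.exp_Uh) = 128 from
        (Nat.card_coe_set_eq _).trans (card_yBig_set S F B.toBigConfig)] at h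
    exact le_of_eq (Nat.eq_of_mul_eq_mul_left (show 0 < 128 by norm_num)
      (h.trans (show (2 : ℕ) ^ 13 = 128 * 64 by norm_num)))
  have himg : ∀ m (hm : m ∈ Q z ⊔ vv S B.toBigConfig), phiM24 S F B.toBigConfig H ⟨m, hQV hm⟩ ∈ g.range := by
    intro m hm
    obtain ⟨q, hq, v, hv, rfl⟩ := mem_QV S F B.toBigConfig hm
    refine ⟨⟨q, hq⟩, ?_⟩
    have hv1 : phiM24 S F B.toBigConfig H ⟨v, Subgroup.le_normalizer hv⟩ = 1 := by
      rw [← MonoidHom.mem_ker, phiM24_ker S F B H, Subgroup.mem_subgroupOf]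
      exact hv
    rw [show (⟨q * v, hQV hm⟩ : ↥N) = ⟨q, hQN hq⟩ * ⟨v, Subgroup.le_normalizer hv⟩ from rfl,
      map_mul, hv1, mul_one]
    rfl
  have hok := triv_ok
  simp only [List.all_eq_true, trivOk, Bool.and_eq_true, Nat.beq_eq] at hok
  have hp := perms_ok
  simp only [Bool.and_eq_true, Nat.beq_eq] at hp
  obtain ⟨⟨hlen, hdist⟩, -⟩ := hp
  have hnd := Codes.distinct_iff hdist
  have hspec : ∀ e ∈ Data4.perms, inM24 e.1 = true ∧
      FusionAlperin.MathieuCert.canon e.1 = e.1 := fun e he => by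
    refine ⟨(hok e he).1.1.1.1.1, ?_⟩
    rw [← (hok e he).1.1.1.1.2]
    exact AutLocal.canon_mulP
  have hpre : ∀ i : Fin Data4.perms.length,
      (⟨gperm (Data4.perms[i]).1, gperm_mem_M24 (hspec _ (List.getElem_mem i.2)).1⟩ : ↥Cfsg.M24) ∈
        g.range := fun i => by
    obtain ⟨m, hm⟩ := phiM24_surjective S F B hE H
      ⟨gperm (Data4.perms[i]).1, gperm_mem_M24 (hspec _ (List.getElem_mem i.2)).1⟩
    have hr := phiM24_rel S F B.toBigConfig H m
    rw [hm] at hr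
    rw [← hm]
    exact himg m (mem_QV_of_perm S F B hE H hz (List.getElem_mem i.2) m.2 hr)
  let j : Fin Data4.perms.length → ↥g.range := fun i => ⟨_, hpre i⟩
  have hj : Function.Injective j := by
    intro i k h
    have h' : gperm (Data4.perms[i]).1 = gperm (Data4.perms[k]).1 :=
      congrArg (fun x : ↥g.range => ((x : ↥Cfsg.M24) : Equiv.Perm GolayPt)) h
    obtain ⟨hi1, hi2⟩ := hspec _ (List.getElem_mem i.2)
    obtain ⟨hk1, hk2⟩ := hspec _ (List.getElem_mem k.2)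
    have h2 := FusionAlperin.MathieuCert.eq_of_gperm (okCode_of_inM24 hi1) (okCode_of_inM24 hk1)
      hi2 hk2 h'
    refine Fin.ext ((List.getElem_inj (h₀ := by simp) (h₁ := by simp) hnd).mp ?_)
    rw [List.getElem_map, List.getElem_map]
    exact h2
  have hbij := hj.bijective_of_nat_card_le (by rw [Nat.card_fin, hlen]; exact hg)
  obtain ⟨i, hi⟩ := hbij.2 ⟨_, himg n hn⟩
  refine ⟨_, List.getElem_mem i.2, ?_⟩
  have hr := phiM24_rel S F B.toBigConfig H ⟨n, hQV hn⟩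
  have h' : gperm (Data4.perms[i]).1 = (phiM24 S F B.toBigConfig H ⟨n, hQV hn⟩ : Equiv.Perm GolayPt) :=
    congrArg (fun x : ↥g.range => ((x : ↥Cfsg.M24) : Equiv.Perm GolayPt)) hi
  rw [show Data4.perms[i] = Data4.perms[i.val] from rfl] at h'
  rw [h']
  exact hr

/-- An involution of the join lies in the `2^11` or is conjugate into `O₂`. -/
theorem class_QV {K : Subgroup G} (hKN : K ≤ Subgroup.normalizer (vv S B.toBigConfig : Set G))
    (hK : K ⊓ vv S B.toBigConfig = ⊥)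
    (hKs : K ⊔ vv S B.toBigConfig = Subgroup.normalizer (vv S B.toBigConfig : Set G)) (hp : p ∈ K)
    {x : G} (hx : x ∈ Q z ⊔ vv S B.toBigConfig) (hx2 : x * x = 1) :
    x ∈ vv S B.toBigConfig ∨ ∃ y ∈ Q z, IsConj x y := by
  set V := vv S B.toBigConfig with hV
  set N := Subgroup.normalizer (V : Set G) with hN
  have hQV := QV_le_normalizer S F B.toBigConfig
  have hxN : x ∈ N := hQV hx
  have hnV : ∀ n ∈ N, ∀ v ∈ V, n * v * n⁻¹ ∈ V := fun n hn v hv =>
    (Subgroup.mem_normalizer_iff.mp hn v).mp hv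
  -- products
  have hdec : ∀ n ∈ N, ∃ k ∈ K, ∃ v ∈ V, n = k * v := by
    intro n hn
    rw [← hKs, sup_comm] at hn
    have hle : K ≤ Subgroup.normalizer (V : Set G) := hKN
    rw [← SetLike.mem_coe, sup_comm, Subgroup.coe_mul_of_left_le_normalizer_right K V hle] at hn
    obtain ⟨k, hk, v, hv, rfl⟩ := hn
    exact ⟨k, hk, v, hv, rfl⟩
  have hKV : ∀ k ∈ K, k ∈ V → k = 1 := fun k hk hv => by
    have : k ∈ K ⊓ V := ⟨hk, hv⟩
    rwa [hK, Subgroup.mem_bot] at this
  have hV2 : ∀ v ∈ V, v * v = 1 := (vv_facts S F B.toBigConfig).2.1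
  obtain ⟨k, hk, v, hv, rfl⟩ := hdec x hxN
  by_cases hk1 : k = 1
  · exact Or.inl (by rw [hk1, one_mul]; exact hv)
  refine Or.inr ?_
  have hkQV : k ∈ Q z ⊔ V := by
    have := mul_mem hx (Subgroup.mem_sup_right (inv_mem hv) : v⁻¹ ∈ Q z ⊔ V)
    rwa [mul_inv_cancel_right] at this
  have hkv : k * k = 1 ∧ k * v * k⁻¹ = v := by
    have e : k * k = (k * v * k⁻¹)⁻¹ * (k * v * (k * v)) * v⁻¹ * 1 := by
      rw [hx2, mul_one, mul_one]
      have : k * v * (k * v) = 1 := hx2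
      calc k * k = k * v⁻¹ * k⁻¹ * (k * v * (k * v)) * v⁻¹ := by group
        _ = _ := by rw [this]; group
    have hkk : k * k = 1 := hKV _ (mul_mem hk hk) (by
      rw [e, hx2, mul_one, mul_one]
      exact mul_mem (inv_mem (hnV k (hKN hk) v hv)) (inv_mem hv))
    refine ⟨hkk, ?_⟩
    have h3 : k * v * k⁻¹ * v = 1 := by
      have hki : k⁻¹ = k := inv_eq_of_mul_eq_one_right hkk
      rw [hki]
      simpa [mul_assoc] using hx2
    rw [eq_inv_of_mul_eq_one_left h3, inv_eq_of_mul_eq_one_right (hV2 v hv)]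
  obtain ⟨e, he, hr⟩ := perm_QV S F B hE H hz hkQV
  have hok := triv_ok
  simp only [List.all_eq_true, trivOk, Bool.and_eq_true, Nat.beq_eq] at hok
  have hMe := (hok e he).1.1.1.1.1
  have hce := okCode_of_inM24 hMe
  have hlt : ∀ a < 2048, combine (rowsOf e.1) a < 2048 := fun a ha => (triv_mask he ha).1
  have hact : ∀ a < 2048, k * ψ a * k⁻¹ = ψ (lin e.1 a) := fun a ha => act_code H hce hr hlt ha
  have he1 : e.1 ≠ oneCode := by
    intro h
    rw [h, gperm_oneCode] at hr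
    refine hk1 (hKV k hk ?_)
    have hc : k ∈ Subgroup.centralizer (V : Set G) :=
      Subgroup.mem_centralizer_iff.mpr fun w hw => ((H.rel_one_iff).mp hr w hw).eq.symm
    rwa [centralizer_vv S F B] at hc
  obtain ⟨c, hc, rfl⟩ := H.surj v hv
  have hfix : lin e.1 c = c := H.inj _ _ (hlt c hc) hc (by rw [← hact c hc, hkv.2])
  obtain ⟨m, r, q, hq, hm, hr', hcr, hmem, hy⟩ := row_spec he he1 hc hfix
  have hlm := hlt m hm
  -- move to the transversal element
  have e1 : ψ m * (k * ψ c) * (ψ m)⁻¹ = k * ψ r := by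
    have hk2 : k⁻¹ * ψ m * k = ψ (lin e.1 m) := by
      rw [← hact m hm]
      rw [inv_eq_of_mul_eq_one_right hkv.1]
    calc ψ m * (k * ψ c) * (ψ m)⁻¹ = k * (k⁻¹ * ψ m * k * ψ c * (ψ m)⁻¹) := by group
      _ = k * ψ r := by
        rw [hk2, inv_eq_of_mul_eq_one_right (hV2 _ (H.mem m))]
        simp only [lin] at hcr ⊢
        rw [
          ← H.mul _ _ hlm hc, ← H.mul _ _ (Nat.xor_lt_two_pow (n := 11) hlm hc) hm]
        congr 2
        rw [hcr]
        apply Nat.eq_of_testBit_eq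
        intro i
        simp only [Nat.testBit_xor, lin]
        cases (combine (rowsOf e.1) m).testBit i <;> cases r.testBit i <;>
          cases m.testBit i <;> rfl
  -- move by a lift of the witness
  have hcj := conjs_ok
  simp only [List.all_eq_true, Bool.and_eq_true, Nat.beq_eq] at hcj
  obtain ⟨⟨⟨hMq, hq2⟩, hq12⟩, hqlt⟩ := hcj q hq
  have hcq := okCode_of_inM24 hMq
  obtain ⟨⟨n, hn⟩, hfn⟩ := phiM24_surjective S F B hE H ⟨gperm q.1, gperm_mem_M24 hMq⟩
  obtain ⟨g, hg, w, hw, rfl⟩ := hdec n hn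
  have hgr : Rel ψ g (gperm q.1) := by
    have hr1 := phiM24_rel S F B.toBigConfig H ⟨g, hKN hg⟩
    have hfg : phiM24 S F B.toBigConfig H ⟨g, hKN hg⟩ = ⟨gperm q.1, gperm_mem_M24 hMq⟩ := by
      rw [← hfn, show (⟨g * w, hn⟩ : ↥N) = ⟨g, hKN hg⟩ * ⟨w, Subgroup.le_normalizer hw⟩ from rfl,
        map_mul, show phiM24 S F B.toBigConfig H ⟨w, Subgroup.le_normalizer hw⟩ = 1 by
          rw [← MonoidHom.mem_ker, phiM24_ker S F B H, Subgroup.mem_subgroupOf]; exact hw, mul_one]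
    rw [hfg] at hr1
    exact hr1
  set k' := g * k * g⁻¹ with hk'
  have hk'K : k' ∈ K := mul_mem (mul_mem hg hk) (inv_mem hg)
  have hginv : Rel ψ g⁻¹ (gperm q.2) := by
    have hone : gperm q.1 * gperm q.2 = 1 := by
      rw [← gperm_mul hcq hq2, show mulP 24 5 q.1 q.2 = oneCode from hq12, gperm_oneCode]
    rw [eq_inv_of_mul_eq_one_right hone]
    intro a b
    show g⁻¹ * (Pt ψ a * Pt ψ b) * g⁻¹⁻¹ = _
    have := hgr ((gperm q.1)⁻¹ a) ((gperm q.1)⁻¹ b)
    simp only [Equiv.Perm.coe_inv, Equiv.apply_symm_apply] at this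
    rw [← this]
    exact (show ∀ X : G, g⁻¹ * (g * X * g⁻¹) * g⁻¹⁻¹ = X from fun X => by group) _
  have hk'r : Rel ψ k' (gperm (Codes.cj q e.1)) := by
    rw [show Codes.cj q e.1 = mulP 24 5 (mulP 24 5 q.1 e.1) q.2 from rfl,
      gperm_mul (okCode_mulP hcq hce) hq2, gperm_mul hcq hce]
    exact IsFrame.rel_mul (IsFrame.rel_mul hgr hr) hginv
  obtain ⟨e', he', hee⟩ := List.mem_map.mp hmem
  rw [← hee] at hk'r
  have hk'Q := inf_QV_le_Q S F B.toBigConfig hK hp hk'K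
    (mem_QV_of_perm S F B hE H hz he' (hKN hk'K) hk'r)
  have hgy : g * ψ r * g⁻¹ ∈ Q z := by
    rw [act_code H hcq hgr (fun a _ => lin_lt (List.all_eq_true.mpr hqlt) a) hr']
    exact yBig_le S B.exp_Uh (mask_mem_yBig S F B hE H hz hy)
  refine ⟨k' * (g * ψ r * g⁻¹), mul_mem hk'Q hgy, isConj_iff.mpr ⟨g * ψ m, ?_⟩⟩
  rw [show g * ψ m * (k * ψ c) * (g * ψ m)⁻¹ = g * (ψ m * (k * ψ c) * (ψ m)⁻¹) * g⁻¹ by group, e1,
    hk']
  group

end Frame

end Cfsg.Agent.Lib.J4Big
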