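import Cfsg.Agent.Lib.J4Local.AutModel

/-!
# Subgroups of `Aut M22` given by lists of codes
-/

set_option autoImplicit false
set_option linter.unusedSectionVars false

namespace Cfsg.Agent.Lib.J4Big.Codes

open Cfsg Cfsg.Agent.Lib.Golay Cfsg.Agent.Lib.Computation Cfsg.Agent.Lib.J4Local

/-- The product of codes. -/
def cmulC (a b : ℕ) : ℕ := mulP 24 5 a b

/-- A checked canonical code in the duad stabiliser. -/
def good (c : ℕ) : Bool := AutModel.inBig c && Nat.beq (cmulC c oneCode) c

/-- Membership in a list of numbers. -/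
def mem (L : List ℕ) (c : ℕ) : Bool := L.any fun d => Nat.beq d c

theorem mem_iff {L : List ℕ} {c : ℕ} : mem L c = true ↔ c ∈ L := by
  simp [mem, List.any_eq_true, Nat.beq_eq]

/-- No repetition. -/
def distinct : List ℕ → Bool
  | [] => true
  | a :: l => !mem l a && distinct l

theorem distinct_iff : ∀ {L : List ℕ}, distinct L = true → L.Nodup
  | [], _ => List.nodup_nil
  | a :: l, h => by
    simp only [distinct, Bool.and_eq_true, Bool.not_eq_true', ← Bool.not_eq_true, mem_iff] at h
    exact List.nodup_cons.mpr ⟨h.1, distinct_iff h.2⟩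

/-- The automorphism with code `c`. -/
noncomputable def au (c : ℕ) : AutM22 :=
  if h : AutModel.inBig c = true then AutModel.toAut (AutModel.el c h) else 1

theorem au_of {c : ℕ} (h : good c = true) : ∃ hb : AutModel.inBig c = true,
    au c = AutModel.toAut (AutModel.el c hb) := by
  simp only [good, Bool.and_eq_true] at h
  exact ⟨h.1, dif_pos h.1⟩

theorem packW_congr {f g : ℕ → ℕ} : ∀ {k : ℕ}, (∀ x < k, f x = g x) → packW 5 f k = packW 5 g k := by
  intro k
  induction k with
  | zero => intro _; rfl
  | succ k ih =>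
    intro h
    rw [packW_succ, packW_succ, h k (by omega), ih fun x hx => h x (by omega)]

theorem au_inj {a b : ℕ} (ha : good a = true) (hb : good b = true) (h : au a = au b) : a = b := by
  obtain ⟨ha', ea⟩ := au_of ha
  obtain ⟨hb', eb⟩ := au_of hb
  rw [ea, eb] at h
  have h' : gperm a = gperm b := congrArg Subtype.val (AutModel.toAut.injective h)
  have oka := (AutModel.inBig_spec ha').1
  have okb := (AutModel.inBig_spec hb').1
  have hget : ∀ i < 24, getW 5 a i = getW 5 b i := by
    intro i hi
    have h1 := idx_gperm oka (pt i)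
    have h2 := idx_gperm okb (pt i)
    rw [idx_pt hi] at h1 h2
    rw [← h1, ← h2, h']
  simp only [good, Bool.and_eq_true, Nat.beq_eq, cmulC, mulP, forceNat_eq] at ha hb
  rw [← ha.2, ← hb.2]
  refine packW_congr fun x hx => hget _ ?_
  exact okPerm_lt okCode_oneCode hx

theorem inBig_mul {a b : ℕ} (ha : AutModel.inBig a = true) (hb : AutModel.inBig b = true)
    (hab : AutModel.inBig (cmulC a b) = true) :
    AutModel.el (cmulC a b) hab = AutModel.el a ha * AutModel.el b hb :=
  Subtype.ext (gperm_mul (AutModel.inBig_spec ha).1 (AutModel.inBig_spec hb).1)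

theorem au_mul {a b : ℕ} (ha : good a = true) (hb : good b = true)
    (hab : good (cmulC a b) = true) : au (cmulC a b) = au a * au b := by
  obtain ⟨ha', ea⟩ := au_of ha
  obtain ⟨hb', eb⟩ := au_of hb
  obtain ⟨hab', eab⟩ := au_of hab
  rw [ea, eb, eab, ← map_mul, inBig_mul ha' hb' hab']

theorem good_one : good oneCode = true := by decide +kernel

theorem au_one : au oneCode = 1 := by
  obtain ⟨h, e⟩ := au_of good_one
  rw [e]
  have : AutModel.el oneCode h = 1 := Subtype.ext gperm_oneCode
  rw [this, map_one]

theorem au_inn {c : ℕ} (h : good c = true) : au c ∈ inn ↔ getW 5 c 23 = 23 := by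
  obtain ⟨hb, e⟩ := au_of h
  rw [e, AutModel.toAut_mem_inn]
  have h1 := idx_gperm (AutModel.inBig_spec hb).1 (none : GolayPt)
  change gperm c none = none ↔ _
  constructor
  · intro h'
    rw [h'] at h1
    exact h1.symm
  · intro h'
    exact idx_injective (h1.trans h')

/-- The image of a list. -/
def setL (L : List ℕ) : Set AutM22 := {a | ∃ c ∈ L, au c = a}

theorem ncard_setL {L : List ℕ} (hg : ∀ c ∈ L, good c = true) (hd : L.Nodup) :
    (setL L).ncard = L.length := by
  classical
  have e : setL L = ((L.toFinset.image au : Finset AutM22) : Set AutM22) := by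
    ext a
    simp [setL]
  rw [e, Set.ncard_coe_finset, Finset.card_image_of_injOn, List.toFinset_card_of_nodup hd]
  intro a ha b hb h
  exact au_inj (hg a (List.mem_toFinset.mp ha)) (hg b (List.mem_toFinset.mp hb)) h

theorem ncard_setL_le (L : List ℕ) : (setL L).ncard ≤ L.length := by
  classical
  have e : setL L = ((L.toFinset.image au : Finset AutM22) : Set AutM22) := by
    ext a
    simp [setL]
  rw [e, Set.ncard_coe_finset]
  exact Finset.card_image_le.trans (List.toFinset_card_le L)

/-- A closed list: good, without repetition, containing one, closed under products. -/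
def closedL (L : List ℕ) : Bool :=
  L.all good && distinct L && mem L oneCode && L.all fun a => L.all fun b => mem L (cmulC a b)

theorem closedL_spec {L : List ℕ} (h : closedL L = true) :
    (∀ c ∈ L, good c = true) ∧ L.Nodup ∧ oneCode ∈ L ∧ ∀ a ∈ L, ∀ b ∈ L, cmulC a b ∈ L := by
  simp only [closedL, Bool.and_eq_true, List.all_eq_true, mem_iff] at h
  obtain ⟨⟨⟨h1, h2⟩, h3⟩, h4⟩ := h
  exact ⟨h1, distinct_iff h2, h3, h4⟩

/-- The subgroup of a closed list. -/
def grpL (L : List ℕ) : Subgroup AutM22 := Subgroup.closure (setL L)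

theorem coe_grpL {L : List ℕ} (h : closedL L = true) : (grpL L : Set AutM22) = setL L := by
  obtain ⟨hg, -, h1, hm⟩ := closedL_spec h
  refine Set.Subset.antisymm ?_ Subgroup.subset_closure
  let M : Submonoid AutM22 :=
    { carrier := setL L
      one_mem' := ⟨oneCode, h1, au_one⟩
      mul_mem' := by
        rintro _ _ ⟨a, ha, rfl⟩ ⟨b, hb, rfl⟩
        exact ⟨cmulC a b, hm a ha b hb, au_mul (hg a ha) (hg b hb) (hg _ (hm a ha b hb))⟩ }
  intro x hx
  have hx' : x ∈ (Subgroup.closure (setL L)).toSubmonoid := hx
  rw [Subgroup.closure_toSubmonoid_of_finite] at hx'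
  exact (Submonoid.closure_le (S := M)).mpr le_rfl hx'

theorem mem_grpL {L : List ℕ} (h : closedL L = true) {x : AutM22} :
    x ∈ grpL L ↔ ∃ c ∈ L, au c = x := by
  rw [← SetLike.mem_coe, coe_grpL h]
  rfl

theorem card_grpL {L : List ℕ} (h : closedL L = true) : Nat.card ↥(grpL L) = L.length := by
  rw [← SetLike.coe_sort_coe, Nat.card_coe_set_eq, coe_grpL h]
  exact ncard_setL (closedL_spec h).1 (closedL_spec h).2.1

/-- All products of the generators in a fixed order. -/
def expand : List ℕ → List ℕ
  | [] => [oneCode]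
  | g :: gs => expand gs ++ (expand gs).map fun c => cmulC c g

/-- The checks making `expand gs` the group generated by `gs`. -/
def genOk (gs : List ℕ) : Bool :=
  let L := expand gs
  gs.all good && L.all good && distinct L && L.all fun a => gs.all fun g => mem L (cmulC a g)

theorem one_mem_expand : ∀ gs : List ℕ, oneCode ∈ expand gs
  | [] => List.mem_singleton.mpr rfl
  | _ :: gs => List.mem_append_left _ (one_mem_expand gs)

theorem expand_mem {gs : List ℕ} (H : Subgroup AutM22) : ∀ {l : List ℕ}, l ⊆ gs →
    (∀ c ∈ expand l, good c = true) → (∀ g ∈ gs, good g = true ∧ au g ∈ H) →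
    ∀ c ∈ expand l, au c ∈ H
  | [], _, _, _, c, hc => by
    rw [List.mem_singleton.mp hc, au_one]; exact one_mem H
  | g :: l, hl, hgood, hg, c, hc => by
    have hl' : l ⊆ gs := fun x hx => hl (List.mem_cons_of_mem _ hx)
    have hgood' : ∀ c ∈ expand l, good c = true := fun c hc => hgood c (List.mem_append_left _ hc)
    rcases List.mem_append.mp hc with h | h
    · exact expand_mem H hl' hgood' hg c h
    · obtain ⟨d, hd, rfl⟩ := List.mem_map.mp h
      obtain ⟨hgg, hgm⟩ := hg g (hl List.mem_cons_self)
      rw [au_mul (hgood' d hd) hgg (hgood _ hc)]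
      exact mul_mem (expand_mem H hl' hgood' hg d hd) hgm

theorem coe_genGrp {gs : List ℕ} (h : genOk gs = true) :
    (Subgroup.closure (setL gs) : Set AutM22) = setL (expand gs) := by
  simp only [genOk, Bool.and_eq_true, List.all_eq_true, mem_iff] at h
  obtain ⟨⟨⟨hgg, hLg⟩, -⟩, hclose⟩ := h
  refine Set.Subset.antisymm ?_ ?_
  · let M : Submonoid AutM22 :=
      { carrier := {x | ∀ y ∈ setL (expand gs), y * x ∈ setL (expand gs)}
        one_mem' := fun y hy => by rwa [mul_one]
        mul_mem' := fun {a b} ha hb y hy => by rw [← mul_assoc]; exact hb _ (ha y hy) }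
    intro x hx
    have hx' : x ∈ (Subgroup.closure (setL gs)).toSubmonoid := hx
    rw [Subgroup.closure_toSubmonoid_of_finite] at hx'
    have hM : x ∈ M := by
      refine (Submonoid.closure_le (S := M)).mpr ?_ hx'
      rintro _ ⟨g, hg, rfl⟩ _ ⟨a, ha, rfl⟩
      exact ⟨cmulC a g, hclose a ha g hg, au_mul (hLg a ha) (hgg g hg) (hLg _ (hclose a ha g hg))⟩
    have := hM 1 ⟨oneCode, one_mem_expand gs, au_one⟩
    rwa [one_mul] at this
  · rintro _ ⟨c, hc, rfl⟩
    exact expand_mem (Subgroup.closure (setL gs)) (List.Subset.refl gs) hLg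
      (fun g hg => ⟨hgg g hg, Subgroup.subset_closure ⟨g, hg, rfl⟩⟩) c hc

theorem card_genGrp {gs : List ℕ} (h : genOk gs = true) :
    Nat.card ↥(Subgroup.closure (setL gs)) = (expand gs).length := by
  have h' := h
  simp only [genOk, Bool.and_eq_true, List.all_eq_true] at h'
  rw [← SetLike.coe_sort_coe, Nat.card_coe_set_eq, coe_genGrp h]
  exact ncard_setL h'.1.1.2 (distinct_iff h'.1.2)

/-- The inner involutions of a list. -/
def invs (L : List ℕ) : List ℕ :=
  L.filter fun c => Nat.beq (getW 5 c 23) 23 && Nat.beq (cmulC c c) oneCode && !Nat.beq c oneCode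

/-- One layer of the search. -/
def step (f : List ℕ → List ℕ → Bool) (span : List ℕ) : List ℕ → Bool
  | [] => Nat.blt span.length 16
  | x :: r =>
    (let s := span ++ span.map fun c => cmulC c x
     s.all good && f s (r.filter fun d => Nat.beq (cmulC x d) (cmulC d x) && !mem s d)) &&
    step f span r

/-- The search for elementary subgroups of order 16. -/
def go (A B : List ℕ) : ℕ → List ℕ → List ℕ → Bool
  | 0, span, _ => Nat.beq span.length 16 && distinct span && (span.all (mem A) || span.all (mem B))
  | k + 1, span, l => step (go A B k) span l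

theorem go_spec {A B : List ℕ} (hA : closedL A = true) (hB : closedL B = true)
    {U : Subgroup AutM22} (hU : ∀ u ∈ U, u * u = 1) (hc : Nat.card ↥U = 16) :
    ∀ (k : ℕ) (span cand : List ℕ), go A B k span cand = true → oneCode ∈ span →
      (∀ c ∈ span, good c = true ∧ au c ∈ U) → (∀ c ∈ cand, good c = true) →
      (∀ u ∈ U, u ∈ setL span ∨ u ∈ setL cand) → U ≤ grpL A ∨ U ≤ grpL B
  | 0, span, cand, h, _, hs, _, _ => by
    simp only [go, Bool.and_eq_true, Bool.or_eq_true, List.all_eq_true, mem_iff, Nat.beq_eq] at h
    obtain ⟨⟨hlen, hd⟩, hsub⟩ := h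
    have heq : setL span = (U : Set AutM22) := by
      refine Set.eq_of_subset_of_ncard_le ?_ ?_ (Set.toFinite _)
      · rintro _ ⟨c, hc', rfl⟩; exact (hs c hc').2
      · rw [ncard_setL (fun c hc' => (hs c hc').1) (distinct_iff hd), hlen,
          ← Nat.card_coe_set_eq, SetLike.coe_sort_coe, hc]
    rcases hsub with hsub | hsub
    · left
      intro u hu
      rw [← SetLike.mem_coe, ← heq] at hu
      obtain ⟨c, hc', rfl⟩ := hu
      exact (mem_grpL hA).mpr ⟨c, hsub c hc', rfl⟩
    · right
      intro u hu
      rw [← SetLike.mem_coe, ← heq] at hu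
      obtain ⟨c, hc', rfl⟩ := hu
      exact (mem_grpL hB).mpr ⟨c, hsub c hc', rfl⟩
  | k + 1, span, [], h, _, _, _, hcov => by
    exfalso
    simp only [go, step, Nat.blt, Nat.ble_eq] at h
    have hsub : (U : Set AutM22) ⊆ setL span := fun u hu => by
      rcases hcov u hu with h' | ⟨c, hc', -⟩
      · exact h'
      · simp at hc'
    have hle := ncard_setL_le span
    have := (Set.ncard_le_ncard hsub).trans hle
    rw [← Nat.card_coe_set_eq, SetLike.coe_sort_coe, hc] at this
    omega
  | k + 1, span, x :: r, h, h1, hs, hcg, hcov => by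
    rw [go, step] at h
    simp only [Bool.and_eq_true, List.all_eq_true] at h
    obtain ⟨⟨hgood, hin⟩, hout⟩ := h
    by_cases hx : au x ∈ U
    · have hxg := hcg x List.mem_cons_self
      refine go_spec hA hB hU hc k _ _ hin (List.mem_append_left _ h1) ?_ ?_ ?_
      · intro c hc'
        refine ⟨hgood c hc', ?_⟩
        rcases List.mem_append.mp hc' with h' | h'
        · exact (hs c h').2
        · obtain ⟨d, hd, rfl⟩ := List.mem_map.mp h'
          rw [au_mul (hs d hd).1 hxg (hgood _ hc')]
          exact mul_mem (hs d hd).2 hx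
      · exact fun c hc' => hcg c (List.mem_cons_of_mem _ (List.mem_filter.mp hc').1)
      · intro u hu
        rcases hcov u hu with ⟨c, hc', rfl⟩ | ⟨c, hc', rfl⟩
        · exact Or.inl ⟨c, List.mem_append_left _ hc', rfl⟩
        · by_cases hmem : c ∈ span ++ span.map fun d => cmulC d x
          · exact Or.inl ⟨c, hmem, rfl⟩
          · rcases List.mem_cons.mp hc' with rfl | hr
            · refine Or.inl ⟨cmulC oneCode c, List.mem_append_right _ (List.mem_map.mpr ⟨_, h1, rfl⟩), ?_⟩
              rw [au_mul good_one hxg (hgood _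
                (List.mem_append_right _ (List.mem_map.mpr ⟨_, h1, rfl⟩))), au_one, one_mul]
            · refine Or.inr ⟨c, List.mem_filter.mpr ⟨hr, ?_⟩, rfl⟩
              have hcg' := hcg c hc'
              have hcomm : au x * au c = au c * au x := by
                rw [← inv_eq_of_mul_eq_one_right (hU _ (mul_mem hx hu)), mul_inv_rev,
                  inv_eq_of_mul_eq_one_right (hU _ hu), inv_eq_of_mul_eq_one_right (hU _ hx)]
              have hgp : gperm x * gperm c = gperm c * gperm x := by
                obtain ⟨hx', ex⟩ := au_of hxg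
                obtain ⟨hc'', ec⟩ := au_of hcg'
                rw [ex, ec, ← map_mul, ← map_mul] at hcomm
                exact congrArg Subtype.val (AutModel.toAut.injective hcomm)
              have hcode : cmulC x c = cmulC c x := by
                have okx := (AutModel.inBig_spec (au_of hxg).1).1
                have okc := (AutModel.inBig_spec (au_of hcg').1).1
                simp only [cmulC, mulP, forceNat_eq]
                refine packW_congr fun i hi => ?_
                have a1 := idx_gperm okx (gperm c (pt i))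
                have a2 := idx_gperm okc (gperm x (pt i))
                rw [idx_gperm okc, idx_pt hi] at a1
                rw [idx_gperm okx, idx_pt hi] at a2
                rw [← a1, ← a2, ← Equiv.Perm.mul_apply, ← Equiv.Perm.mul_apply, hgp]
              simp only [Bool.and_eq_true, Bool.not_eq_true', ← Bool.not_eq_true, mem_iff,
                Nat.beq_eq]
              exact ⟨hcode, hmem⟩
    · refine go_spec hA hB hU hc (k + 1) _ _ hout h1 hs
        (fun c hc' => hcg c (List.mem_cons_of_mem _ hc')) fun u hu => ?_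
      rcases hcov u hu with h' | ⟨c, hc', rfl⟩
      · exact Or.inl h'
      · rcases List.mem_cons.mp hc' with rfl | hr
        · exact absurd hu hx
        · exact Or.inr ⟨c, hr, rfl⟩
  termination_by k _ l => (k, l.length)

/-- The normaliser test: `n a = b n` for some `b` in the list. -/
def normOk (L : List ℕ) (n : ℕ) : Bool :=
  good n && L.all fun a => L.any fun b =>
    good (cmulC n a) && Nat.beq (cmulC n a) (cmulC b n)

theorem normOk_spec {L : List ℕ} (hL : closedL L = true) {n : ℕ} (h : normOk L n = true) :
    ∀ a ∈ grpL L, au n * a * (au n)⁻¹ ∈ grpL L := by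
  simp only [normOk, Bool.and_eq_true, List.all_eq_true, List.any_eq_true, Nat.beq_eq] at h
  intro a ha
  obtain ⟨c, hc, rfl⟩ := (mem_grpL hL).mp ha
  obtain ⟨b, hb, hgc, he⟩ := h.2 c hc
  have hg := (closedL_spec hL).1
  have : au n * au c = au b * au n := by
    rw [← au_mul h.1 (hg c hc) hgc, he, au_mul (hg b hb) h.1 (he ▸ hgc)]
  rw [this, mul_inv_cancel_right]
  exact (mem_grpL hL).mpr ⟨b, hb, rfl⟩

end Cfsg.Agent.Lib.J4Big.Codes
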