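import Mathlib

/-!
# Orbits under conjugation and elements of prime order normalising an elementary abelian group
-/

set_option autoImplicit false
set_option linter.unusedSectionVars false

namespace Cfsg.Agent.Lib.J4Big.Orbit

variable {G : Type*} [Group G] [Finite G]

/-- The orbit of `x` under conjugation by `H`. -/
def orb (H : Subgroup G) (x : G) : Set G := {y | ∃ h ∈ H, h * x * h⁻¹ = y}

theorem self_mem_orb (H : Subgroup G) (x : G) : x ∈ orb H x := ⟨1, one_mem H, by simp⟩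

theorem orb_eq {H : Subgroup G} {x y : G} (h : y ∈ orb H x) : orb H y = orb H x := by
  obtain ⟨a, ha, rfl⟩ := h
  ext w
  constructor
  · rintro ⟨b, hb, rfl⟩
    exact ⟨b * a, mul_mem hb ha, by group⟩
  · rintro ⟨b, hb, rfl⟩
    exact ⟨b * a⁻¹, mul_mem hb (inv_mem ha), by group⟩

theorem ncard_orb_mul (H : Subgroup G) (x : G) :
    (orb H x).ncard * Nat.card ↥(H ⊓ Subgroup.centralizer ({x} : Set G)) = Nat.card ↥H := by
  set C := H ⊓ Subgroup.centralizer ({x} : Set G) with hC
  have hmem : ∀ {h : G}, h ∈ C ↔ h ∈ H ∧ h * x = x * h := fun {h} => by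
    simp [hC, Subgroup.mem_centralizer_iff, eq_comm]
  let f : ↥H ⧸ C.subgroupOf H → ↥(orb H x) := Quotient.lift
    (fun h : ↥H => (⟨h.1 * x * h.1⁻¹, h.1, h.2, rfl⟩ : ↥(orb H x)))
    (fun a b hab => by
      have hab' : (a : G)⁻¹ * b ∈ C :=
        Subgroup.mem_subgroupOf.mp (QuotientGroup.leftRel_apply.mp hab)
      refine Subtype.ext ?_
      show (a : G) * x * (a : G)⁻¹ = b * x * (b : G)⁻¹
      calc (a : G) * x * (a : G)⁻¹ = a * (x * ((a : G)⁻¹ * b)) * (b : G)⁻¹ := by group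
        _ = a * (((a : G)⁻¹ * b) * x) * (b : G)⁻¹ := by rw [(hmem.mp hab').2]
        _ = b * x * (b : G)⁻¹ := by group)
  have hf : Function.Bijective f := by
    constructor
    · intro u v huv
      induction u using QuotientGroup.induction_on with
      | H a =>
        induction v using QuotientGroup.induction_on with
        | H b =>
          have h : (a : G) * x * (a : G)⁻¹ = b * x * (b : G)⁻¹ := congrArg Subtype.val huv
          refine QuotientGroup.eq.mpr (Subgroup.mem_subgroupOf.mpr (hmem.mpr ⟨(a⁻¹ * b).2, ?_⟩))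
          show (a : G)⁻¹ * b * x = x * ((a : G)⁻¹ * b)
          calc (a : G)⁻¹ * b * x = (a : G)⁻¹ * (b * x * (b : G)⁻¹) * b := by group
            _ = x * ((a : G)⁻¹ * b) := by rw [← h]; group
    · rintro ⟨y, h, hh, rfl⟩
      exact ⟨QuotientGroup.mk ⟨h, hh⟩, rfl⟩
  have h1 := Nat.card_eq_of_bijective f hf
  have h2 := Subgroup.card_eq_card_quotient_mul_card_subgroup (C.subgroupOf H)
  rw [h1, Nat.card_coe_set_eq,
    Nat.card_congr (Subgroup.subgroupOfEquivOfLe (inf_le_left : C ≤ H)).toEquiv] at h2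
  exact h2.symm

/-- A set closed under conjugation by `H`, all orbits having size divisible by `m`. -/
theorem dvd_ncard {H : Subgroup G} {X : Set G} {m : ℕ}
    (hX : ∀ x ∈ X, ∀ h ∈ H, h * x * h⁻¹ ∈ X) (hm : ∀ x ∈ X, m ∣ (orb H x).ncard) :
    m ∣ X.ncard := by
  classical
  have := Fintype.ofFinite G
  rw [Set.ncard_eq_toFinset_card' X, Finset.card_eq_sum_card_image (orb H)]
  refine Finset.dvd_sum fun A hA => ?_
  obtain ⟨x, hx, rfl⟩ := Finset.mem_image.mp hA
  rw [Set.mem_toFinset] at hx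
  rw [show (X.toFinset.filter fun y => orb H y = orb H x) = (orb H x).toFinset by
    ext y
    simp only [Finset.mem_filter, Set.mem_toFinset]
    exact ⟨fun h => h.2 ▸ self_mem_orb H y, fun h => ⟨by
      obtain ⟨a, ha, rfl⟩ := h; exact hX x hx a ha, orb_eq h⟩⟩, ← Set.ncard_eq_toFinset_card']
  exact hm x hx

/-- An odd prime dividing the automiser of an elementary abelian `2^m` divides some `2^i - 1`. -/
theorem prime_bound {V : Subgroup G} {m : ℕ} (hc : Nat.card ↥V = 2 ^ m)
    (hcent : Subgroup.centralizer (V : Set G) = V) {q : ℕ} [hq : Fact q.Prime] (hq2 : q ≠ 2)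
    (hdvd : q ∣ Nat.card ↥(Subgroup.normalizer (V : Set G))) :
    ∃ i, 1 ≤ i ∧ i ≤ m ∧ 2 ^ i % q = 1 := by
  classical
  have := Fintype.ofFinite G
  obtain ⟨x, hx⟩ := exists_prime_orderOf_dvd_card' q hdvd
  have hxN : ∀ v ∈ V, (x : G) * v * (x : G)⁻¹ ∈ V := fun v hv =>
    (Subgroup.mem_normalizer_iff.mp x.2 v).mp hv
  have hxN' : ∀ v ∈ V, (x : G)⁻¹ * v * x ∈ V := fun v hv => by
    simpa using (Subgroup.mem_normalizer_iff.mp (inv_mem x.2) v).mp hv
  let σ : Equiv.Perm ↥V :=
    { toFun := fun v => ⟨(x : G) * v * (x : G)⁻¹, hxN v v.2⟩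
      invFun := fun v => ⟨(x : G)⁻¹ * v * x, hxN' v v.2⟩
      left_inv := fun v => Subtype.ext (by simp [mul_assoc])
      right_inv := fun v => Subtype.ext (by simp [mul_assoc]) }
  have hpow : ∀ n (v : ↥V), ((σ ^ n) v : G) = (x : G) ^ n * v * ((x : G) ^ n)⁻¹ := by
    intro n
    induction n with
    | zero => intro v; simp
    | succ n ih =>
      intro v
      rw [pow_succ', Equiv.Perm.mul_apply]
      show (x : G) * ((σ ^ n) v : G) * (x : G)⁻¹ = _
      rw [ih, pow_succ']
      group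
  have hox : (x : G) ^ q = 1 := by
    rw [← SubgroupClass.coe_pow, ← hx, pow_orderOf_eq_one]; rfl
  have hσ : σ ^ q ^ 1 = 1 := Equiv.ext fun v => Subtype.ext (by
    rw [pow_one, hpow, hox]; simp)
  have h := Equiv.Perm.card_compl_support_modEq (p := q) (n := 1) (σ := σ) hσ
  let Fx : Subgroup ↥V := (Subgroup.centralizer ({(x : G)} : Set G)).subgroupOf V
  have hFx : (σ.supportᶜ : Finset ↥V) = (Fx : Set ↥V).toFinset := by
    ext v
    simp only [Finset.mem_compl, Equiv.Perm.mem_support, not_not, Set.mem_toFinset, SetLike.mem_coe,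
      Fx, Subgroup.mem_subgroupOf, Subgroup.mem_centralizer_iff, Set.mem_singleton_iff, forall_eq]
    rw [Subtype.ext_iff]
    exact mul_inv_eq_iff_eq_mul
  rw [hFx, ← Set.ncard_eq_toFinset_card', ← Nat.card_coe_set_eq, SetLike.coe_sort_coe,
    ← Nat.card_eq_fintype_card, hc] at h
  have h2 : IsPGroup 2 ↥V := IsPGroup.of_card hc
  obtain ⟨c, hcc⟩ := (h2.to_subgroup Fx).exists_card_eq
  rw [hcc] at h
  have hlt : c < m := by
    by_contra hge
    push Not at hge
    have htop : Fx = ⊤ := Subgroup.eq_top_of_le_card _ (by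
      rw [hc, hcc]; exact Nat.pow_le_pow_right (by norm_num) hge)
    have hxV : (x : G) ∈ V := by
      refine hcent.le (Subgroup.mem_centralizer_iff.mpr ?_)
      intro v hv
      have : (⟨v, hv⟩ : ↥V) ∈ Fx := htop ▸ Subgroup.mem_top _
      exact (Subgroup.mem_centralizer_iff.mp (Subgroup.mem_subgroupOf.mp this) _ rfl).symm
    have hd : orderOf (x : G) ∣ 2 ^ m := by
      rw [← Subgroup.orderOf_mk (x : G) hxV, ← hc]
      exact orderOf_dvd_natCard _
    rw [Subgroup.orderOf_coe, hx] at hd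
    exact hq2 ((Nat.prime_dvd_prime_iff_eq hq.out Nat.prime_two).mp (hq.out.dvd_of_dvd_pow hd))
  refine ⟨m - c, by omega, by omega, ?_⟩
  have hcop : Nat.Coprime (2 ^ c) q :=
    Nat.Coprime.pow_left _ ((Nat.coprime_primes Nat.prime_two hq.out).mpr (Ne.symm hq2))
  have hm : 2 ^ m = 2 ^ c * 2 ^ (m - c) := by rw [← pow_add]; congr 1; omega
  rw [hm] at h
  have h' : 2 ^ c * 1 ≡ 2 ^ c * 2 ^ (m - c) [MOD q] := by rw [mul_one]; exact h
  have := (Nat.ModEq.cancel_left_of_coprime (by rw [Nat.gcd_comm]; exact hcop) h').symm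
  rw [Nat.ModEq, Nat.mod_eq_of_lt hq.out.one_lt] at this
  exact this

/-- The possible numbers of conjugates. -/
theorem only_1771 {N k : ℕ} (hk : 16 ∣ k) (hk' : k ≤ 128) (hdvd : 91 + 15 * k ∣ N)
    (hq : ∀ q : ℕ, q.Prime → q ≠ 2 → q ∣ N → ∃ i, 1 ≤ i ∧ i ≤ 11 ∧ 2 ^ i % q = 1) : k = 112 := by
  obtain ⟨j, rfl⟩ := hk
  have hj : j ≤ 8 := by omega
  have bad : ∀ q, q.Prime → q ≠ 2 → q ∣ N → (∀ i < 12, 1 ≤ i → 2 ^ i % q ≠ 1) → False := by
    intro q a b c d
    obtain ⟨i, h1, h2, h3⟩ := hq q a b c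
    exact d i (by omega) h1 h3
  interval_cases j
  · exact (bad 13 (by norm_num) (by norm_num) (dvd_trans (by norm_num) hdvd) (by decide)).elim
  all_goals first
    | rfl
    | exact (bad _ (by norm_num) (by norm_num) hdvd (by decide)).elim

end Cfsg.Agent.Lib.J4Big.Orbit
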