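import Cfsg.Agent.Lib.J4Big.Lines
import Cfsg.Agent.Lib.J4Big.Orbit

/-!
# The orbits of the normaliser of the `2^11` on its elements

There are 1771 conjugates of `z` and 276 further involutions, each forming one orbit.
-/

set_option autoImplicit false
set_option linter.unusedSectionVars false
set_option linter.unusedVariables false

namespace Cfsg.Agent.Lib.J4Big

open Cfsg.Agent.Lib.LargeExtraspecial.Basic Cfsg.Agent.Lib.J4Local Orbit
open scoped Pointwise

variable {G : Type*} [Group G] [Finite G] {z p : G}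
variable {T₀ Uh U0 : Subgroup AutM22}

/-- The conjugates of `z` in the `2^11`. -/
def oV (S : Setting z p) (B : BigConfig T₀ Uh U0) : Set G := {v | v ∈ vv S B ∧ IsConj z v}

/-- The other involutions of the `2^11`. -/
def dV (S : Setting z p) (B : BigConfig T₀ Uh U0) : Set G :=
  {v | v ∈ vv S B ∧ v ≠ 1 ∧ ¬ IsConj z v}

/-- The elements with a given image. -/
noncomputable def fibre (S : Setting z p) (B : BigConfig T₀ Uh U0) (u : AutM22) : Set G :=
  {v | v ∈ vv S B ∧ S.img v = u}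

theorem img_mem_Uh (S : Setting z p) (F : AutFacts) (B : BigConfig T₀ Uh U0) {v : G}
    (hv : v ∈ vv S B) : S.img v ∈ Uh := by
  rw [← imgS_vv S F B]
  exact (S.mem_imgS (vv_facts S F B).2.2).mpr ⟨v, hv, rfl⟩

theorem vv_le_inner (S : Setting z p) (F : AutFacts) (B : BigConfig T₀ Uh U0) :
    vv S B ≤ inner z p := fun v hv =>
  (S.img_mem_inn F ((vv_facts S F B).2.2 hv)).mp (B.le_Uh (img_mem_Uh S F B hv)).2

theorem vv_inf_Q (S : Setting z p) (F : AutFacts) (B : BigConfig T₀ Uh U0) :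
    vv S B ⊓ Q z = yBig S Uh B.exp_Uh := by
  obtain ⟨hc, h2, hcz⟩ := vv_facts S F B
  have e : yBig S Uh B.exp_Uh ≤ vv S B := le_sup_right
  refine (Subgroup.eq_of_le_of_card_ge (le_inf e (yBig_le S B.exp_Uh)) ?_).symm
  rw [(big_structure S F hcz h2 hc).2.1, yBig, card_up S, (wFix_facts S F B.exp_Uh (hexad B)).1]

theorem img_one_iff (S : Setting z p) (F : AutFacts) (B : BigConfig T₀ Uh U0) {v : G}
    (hv : v ∈ vv S B) : S.img v = 1 ↔ v ∈ yBig S Uh B.exp_Uh := by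
  obtain ⟨hc, h2, hcz⟩ := vv_facts S F B
  refine ⟨fun h => ?_, fun h => S.img_Q (yBig_le S B.exp_Uh h)⟩
  rw [← vv_inf_Q S F B]
  exact ⟨hv, S.mem_Q_of_img_one (hcz hv) h (k := 1) (by rw [pow_one, pow_two]; exact h2 v hv)⟩

theorem card_yBig_set (S : Setting z p) (F : AutFacts) (B : BigConfig T₀ Uh U0) :
    (yBig S Uh B.exp_Uh : Set G).ncard = 128 := by
  rw [← Nat.card_coe_set_eq, SetLike.coe_sort_coe, yBig, card_up S,
    (wFix_facts S F B.exp_Uh (hexad B)).1]

theorem fibre_ncard (S : Setting z p) (F : AutFacts) (B : BigConfig T₀ Uh U0) {u : AutM22}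
    (hu : u ∈ Uh) : (fibre S B u).ncard = 128 := by
  obtain ⟨hc, h2, hcz⟩ := vv_facts S F B
  rw [← imgS_vv S F B] at hu
  obtain ⟨a, ha, rfl⟩ := (S.mem_imgS hcz).mp hu
  have : fibre S B (S.img a) = (fun y => a * y) '' (yBig S Uh B.exp_Uh : Set G) := by
    ext v
    constructor
    · rintro ⟨hv, hva⟩
      refine ⟨a⁻¹ * v, (img_one_iff S F B (mul_mem (inv_mem ha) hv)).mp ?_, by simp⟩
      rw [S.img_mul (inv_mem (hcz ha)) (hcz hv), S.img_inv (hcz ha), hva, inv_mul_cancel]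
    · rintro ⟨y, hy, rfl⟩
      have hyV : y ∈ vv S B := Subgroup.mem_sup_right hy
      exact ⟨mul_mem ha hyV, by
        rw [S.img_mul (hcz ha) (hcz hyV), (img_one_iff S F B hyV).mpr hy, mul_one]⟩
  rw [this, Set.ncard_image_of_injective _ (mul_right_injective a), card_yBig_set S F B]

theorem Q_le_mSt (S : Setting z p) : Q z ≤ mSt S Uh := fun q hq =>
  (mem_mSt S).mpr ⟨Q_le_cz z hq, by rw [S.img_Q hq]; exact one_mem _⟩

theorem conj_fibre (S : Setting z p) (F : AutFacts) (B : BigConfig T₀ Uh U0) {h v : G}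
    (hh : h ∈ mSt S Uh) (hv : v ∈ vv S B) :
    h * v * h⁻¹ ∈ vv S B ∧ S.img (h * v * h⁻¹) = S.img h * S.img v * (S.img h)⁻¹ := by
  have hhc := ((mem_mSt S).mp hh).1
  have hvc := (vv_facts S F B).2.2 hv
  refine ⟨(Subgroup.mem_normalizer_iff.mp (mSt_le_normalizer S F B hh) v).mp hv, ?_⟩
  rw [S.img_mul (mul_mem hhc hvc) (inv_mem hhc), S.img_mul hhc hvc, S.img_inv hhc]

theorem isConj_conj_iff {a h v : G} : IsConj a (h * v * h⁻¹) ↔ IsConj a v :=
  ⟨fun h' => h'.trans (isConj_iff.mpr ⟨h⁻¹, by group⟩),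
    fun h' => h'.trans (isConj_iff.mpr ⟨h, rfl⟩)⟩

/-- Conjugation by `O₂` preserves fibres. -/
theorem conj_Q_fibre (S : Setting z p) (F : AutFacts) (B : BigConfig T₀ Uh U0) {q v : G}
    {u : AutM22} (hq : q ∈ Q z) (hv : v ∈ fibre S B u) : q * v * q⁻¹ ∈ fibre S B u := by
  obtain ⟨h1, h2⟩ := conj_fibre S F B (Q_le_mSt S hq) hv.1
  refine ⟨h1, ?_⟩
  rw [h2, S.img_Q hq, one_mul, inv_one, mul_one, hv.2]

/-- An element outside `O₂` has centraliser of order at most 512 in it. -/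
theorem card_ySub_fibre (S : Setting z p) (F : AutFacts) (B : BigConfig T₀ Uh U0)
    (hE : ∃ e ∈ Q z, IsConj z e ∧ e ≠ z) {u : AutM22} (hu : u ≠ 1) {v : G}
    (hv : v ∈ fibre S B u) : Nat.card ↥(ySub z v) = 512 := by
  obtain ⟨e, he, hze, hne⟩ := hE
  obtain ⟨r, T⟩ := S.exists_setting hze
  obtain ⟨hc, h2, hcz⟩ := vv_facts S F B
  have hvQ : v ∉ Q z := fun h => hu (by rw [← hv.2, S.img_Q h])
  have h5 := S.card_aSub_invol F T he hne (vv_le_inner S F B hv.1) (h2 v hv.1) hvQ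
  have h := S.card_aSub_ySub (hcz hv.1)
  rw [h5] at h
  norm_num at h ⊢
  omega

theorem sixteen_dvd_orb (S : Setting z p) (F : AutFacts) (B : BigConfig T₀ Uh U0)
    (hE : ∃ e ∈ Q z, IsConj z e ∧ e ≠ z) {u : AutM22} (hu : u ≠ 1) {v : G}
    (hv : v ∈ fibre S B u) : 16 ∣ (orb (Q z) v).ncard := by
  have hvc := (vv_facts S F B).2.2 hv.1
  have h := ncard_orb_mul (Q z) v
  have hc : Nat.card ↥(Q z ⊓ Subgroup.centralizer ({v} : Set G)) ≤ 512 := by
    rw [← card_ySub_fibre S F B hE hu hv]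
    exact Subgroup.card_le_of_le (S.cQ_le_ySub hvc)
  rw [S.card_E] at h
  obtain ⟨j, -, hj⟩ := (Nat.dvd_prime_pow Nat.prime_two).mp (h ▸ dvd_mul_right _ _ :
    (orb (Q z) v).ncard ∣ 2 ^ 13)
  rw [hj] at h ⊢
  refine (show 16 = 2 ^ 4 by norm_num) ▸ Nat.pow_dvd_pow 2 ?_
  by_contra hlt
  have : 2 ^ j ≤ 8 := (Nat.pow_le_pow_right (by norm_num) (by omega : j ≤ 3)).trans (by norm_num)
  nlinarith

theorem sixteen_dvd_fibre (S : Setting z p) (F : AutFacts) (B : BigConfig T₀ Uh U0)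
    (hE : ∃ e ∈ Q z, IsConj z e ∧ e ≠ z) {u : AutM22} (hu : u ≠ 1) :
    16 ∣ (oV S B ∩ fibre S B u).ncard :=
  dvd_ncard (H := Q z) (fun x hx q hq => ⟨⟨(conj_Q_fibre S F B hq hx.2).1,
      isConj_conj_iff.mpr hx.1.2⟩, conj_Q_fibre S F B hq hx.2⟩)
    fun x hx => sixteen_dvd_orb S F B hE hu hx.2

theorem uE_mul_z (S : Setting z p) (F : AutFacts) (B : NormConfig T₀ Uh U0)
    (hE : ∃ e ∈ Q z, IsConj z e ∧ e ≠ z) {e : G} (he : e ∈ Q z) (hze : IsConj z e) (hne : e ≠ z) :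
    IsConj z (e * z) ∧ uE S (e * z) = uE S e := by
  obtain ⟨r, T⟩ := S.exists_setting hze
  obtain ⟨hx2, -, hg⟩ := uE_facts S F B T he hne
  have he' : e * z ∈ Q z := mul_mem he S.es.mem
  refine (line_of_duad S F B hE hx2 hg).2 (e * z) he' ?_ ?_ ?_
  · intro h
    exact hne (by rw [eq_inv_of_mul_eq_one_left h, S.es.zinv])
  · intro h
    exact T.z_ne_one (by simpa using h)
  · have h : mkV z ⟨e * z, he'⟩ = mkV z ⟨e, he⟩ := (S.mk_eq_iff _ _).mpr (Or.inr rfl)
    rw [h]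
    exact mk_mem_uE S F B T he hne hx2

/-- Membership in `yBig` for a conjugate of `z`. -/
theorem mem_yBig_iff (S : Setting z p) (F : AutFacts) (B : NormConfig T₀ Uh U0)
    (hE : ∃ e ∈ Q z, IsConj z e ∧ e ≠ z) {e : G} (he : e ∈ Q z) (hze : IsConj z e) (hne : e ≠ z) :
    e ∈ yBig S Uh B.exp_Uh ↔ Uh ≤ Subgroup.normalizer (uE S e : Set AutM22) := by
  obtain ⟨r, T⟩ := S.exists_setting hze
  obtain ⟨hx2, hc, hg⟩ := uE_facts S F B T he hne
  have h1 : e ≠ 1 := T.z_ne_one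
  have hv1 : mkV z ⟨e, he⟩ ≠ 1 := fun h => by
    rcases (S.mem_center _).mp ((QuotientGroup.eq_one_iff _).mp h) with h' | h'
    · exact h1 h'
    · exact hne h'
  have hi : Uh ≤ inn := (hexad B.toBigConfig).1
  constructor
  · intro hy
    obtain ⟨_, hm⟩ := mem_up.mp hy
    have key : ∀ u ∈ Uh, ∀ a ∈ uE S e, u * a * u⁻¹ ∈ uE S e := by
      intro u hu a ha
      obtain ⟨f, hf, rfl⟩ := fSub_surj S F B.exp_Uh hi hu
      have hfc := fSub_le S B.exp_Uh hf
      have h := hm f hf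
      rw [tau_mk hfc, S.mk_eq_iff] at h
      have hU : uE S (f * e * f⁻¹) = uE S e := by
        rcases h with h | h
        · exact congrArg (uE S) h
        · rw [show f * e * f⁻¹ = e * z from h, (uE_mul_z S F B hE he hze hne).2]
      rw [uE_conj S F hfc] at hU
      exact hU.le ⟨a, ha, rfl⟩
    exact fun u hu => mSt_le_normalizer.mem_normalizer_of_fwd (key u hu)
  · intro hN
    refine mem_up.mpr ⟨he, fun f hf => ?_⟩
    have hfc := fSub_le S B.exp_Uh hf
    have hfi : f ∈ inner z p := kc_le_inner S hf.1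
    let := vecCG S
    set v := mkV z ⟨e, he⟩ with hv
    set L := wFix S (uE S e) hx2 with hL
    have hvL : v ∈ L := mk_mem_uE S F B T he hne hx2
    have hmap : (uE S e).map (MulAut.conj (S.img f)).toMonoidHom = uE S e := by
      refine Subgroup.eq_of_le_of_card_ge ?_ (by rw [card_map_conj])
      rintro _ ⟨a, ha, rfl⟩
      exact (Subgroup.mem_normalizer_iff.mp (hN hf.2.1) a).mp ha
    have hfv : tau z f v ∈ L := by
      have hh := wFix_map S F hx2 inf_le_right hc hfc (hmap.symm ▸ hx2) hvL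
      rwa [wFix_congr S (hmap.symm ▸ hx2) hx2 hmap] at hh
    have hfp : ∀ w, tau z f (tau z p w) = tau z p (tau z f w) := tau_inner_comm S hfi
    have hff : tau z f (tau z f v) = v := tau_sq_of_sq S hfc hf.2.2 v
    have hI := wFix_invariant S hx2 (p_mem_kc S) (p_normalises S _)
    have n1 : tau z p v ≠ v := fun h => hv1 (tau_p_fix S v h)
    have h4 := (line_of_duad S F B hE hx2 hg).1
    have hset : ({1, v, tau z p v, tau z p (tau z p v)} : Set (Vec z)) = (L : Set (Vec z)) := by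
      refine Set.eq_of_subset_of_ncard_le ?_ ?_ (Set.toFinite _)
      · rintro w (rfl | rfl | rfl | rfl)
        exacts [one_mem _, hvL, hI _ hvL, hI _ (hI _ hvL)]
      · rw [← Nat.card_coe_set_eq (L : Set (Vec z)), SetLike.coe_sort_coe, h4]
        have n2 : tau z p (tau z p v) ≠ tau z p v := fun h => n1 (tau_injective S.p_mem_cz h)
        have n3 : tau z p (tau z p v) ≠ v := fun h' => by
          have h3 := tau_p3 S v
          rw [h'] at h3
          exact n1 h3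
        have n4 : tau z p v ≠ 1 := fun h' =>
          hv1 (tau_injective S.p_mem_cz (h'.trans (map_one _).symm))
        have n5 : tau z p (tau z p v) ≠ 1 := fun h' =>
          n4 (tau_injective S.p_mem_cz (h'.trans (map_one _).symm))
        rw [Set.ncard_insert_of_notMem (by simp [Ne.symm hv1, Ne.symm n4, Ne.symm n5]),
          Set.ncard_insert_of_notMem (by simp [Ne.symm n1, Ne.symm n3]),
          Set.ncard_pair n2.symm]
    have hfm : tau z f v ∈ ({1, v, tau z p v, tau z p (tau z p v)} : Set (Vec z)) := hset ▸ hfv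
    rcases hfm with h | h | h | h
    · exact absurd (tau_injective hfc (h.trans (map_one _).symm)) hv1
    · exact h
    · exfalso
      have h' := congrArg (tau z f) h
      rw [hff, hfp, h] at h'
      have h3 := tau_p3 S v
      rw [← h'] at h3
      exact n1 h3
    · exfalso
      have h' := congrArg (tau z f) h
      rw [hff, hfp, hfp, h, tau_p3 S] at h'
      exact n1 h'.symm

/-- The set of duad-type subgroups normalised by `Uh`. -/
def fifteenSet (Uh U0 : Subgroup AutM22) : Set (Subgroup AutM22) :=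
  {U' | (∃ g : AutM22, U' = U0.map (MulAut.conj g).toMonoidHom) ∧
      Uh ≤ Subgroup.normalizer (U' : Set AutM22)}

theorem ncard_oV_yBig (S : Setting z p) (F : AutFacts) (B : NormConfig T₀ Uh U0)
    (hE : ∃ e ∈ Q z, IsConj z e ∧ e ≠ z) :
    ((oV S B.toBigConfig ∩ fibre S B.toBigConfig 1) \ {z}).ncard = 90 := by
  classical
  set X := (oV S B.toBigConfig ∩ fibre S B.toBigConfig 1) \ {z} with hX
  have hmem : ∀ {e}, e ∈ X ↔ e ∈ yBig S Uh B.exp_Uh ∧ IsConj z e ∧ e ≠ z := fun {e} => by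
    constructor
    · rintro ⟨⟨⟨hv, hc⟩, -, h1⟩, hne⟩
      exact ⟨(img_one_iff S F B.toBigConfig hv).mp h1, hc, hne⟩
    · rintro ⟨hy, hc, hne⟩
      have hv : e ∈ vv S B.toBigConfig := Subgroup.mem_sup_right hy
      exact ⟨⟨⟨hv, hc⟩, hv, (img_one_iff S F B.toBigConfig hv).mpr hy⟩, hne⟩
  have := Fintype.ofFinite G
  have := Fintype.ofFinite (Subgroup AutM22)
  have hmaps : ∀ e ∈ X.toFinset, uE S e ∈ (fifteenSet Uh U0).toFinset := by
    intro e he
    rw [Set.mem_toFinset] at he ⊢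
    obtain ⟨hy, hc, hne⟩ := hmem.mp he
    have heQ := yBig_le S B.exp_Uh hy
    obtain ⟨r, T⟩ := S.exists_setting hc
    exact ⟨(uE_facts S F B T heQ hne).2.2, (mem_yBig_iff S F B hE heQ hc hne).mp hy⟩
  rw [Set.ncard_eq_toFinset_card', Finset.card_eq_sum_card_fiberwise hmaps,
    Finset.sum_const_nat (m := 6), ← Set.ncard_eq_toFinset_card', fifteenSet, B.fifteen]
  intro U' hU'
  rw [Set.mem_toFinset] at hU'
  obtain ⟨⟨g, hg⟩, hN⟩ := hU'
  have hx2 : IsExp2 U' := hg ▸ isExp2_map B.exp_U0 g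
  obtain ⟨h4, hl⟩ := line_of_duad S F B hE hx2 ⟨g, hg⟩
  have hP : (X.toFinset.filter fun e => uE S e = U') =
      ((up z (wFix S U' hx2) : Set G) \ {1, z}).toFinset := by
    ext e
    simp only [Finset.mem_filter, Set.mem_toFinset, Set.mem_sdiff, SetLike.mem_coe,
      Set.mem_insert_iff, Set.mem_singleton_iff, not_or]
    constructor
    · rintro ⟨he, rfl⟩
      obtain ⟨hy, hc, hne⟩ := hmem.mp he
      have heQ := yBig_le S B.exp_Uh hy
      obtain ⟨r, T⟩ := S.exists_setting hc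
      exact ⟨mem_up.mpr ⟨heQ, mk_mem_uE S F B T heQ hne hx2⟩, T.z_ne_one, hne⟩
    · rintro ⟨he, h1, hne⟩
      obtain ⟨heQ, hm⟩ := mem_up.mp he
      obtain ⟨hc, hu⟩ := hl e heQ h1 hne hm
      exact ⟨hmem.mpr ⟨(mem_yBig_iff S F B hE heQ hc hne).mpr (by rw [hu]; exact hN), hc, hne⟩, hu⟩
  have hsub : ({1, z} : Set G) ⊆ (up z (wFix S U' hx2) : Set G) := by
    rintro x (rfl | rfl)
    exacts [one_mem _, z_mem_up S _]
  rw [hP, ← Set.ncard_eq_toFinset_card', Set.ncard_sdiff hsub, ← Nat.card_coe_set_eq,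
    SetLike.coe_sort_coe, card_up S, h4, Set.ncard_pair S.z_ne_one.symm]

theorem oV_fibre_one (S : Setting z p) (F : AutFacts) (B : NormConfig T₀ Uh U0)
    (hE : ∃ e ∈ Q z, IsConj z e ∧ e ≠ z) :
    (oV S B.toBigConfig ∩ fibre S B.toBigConfig 1).ncard = 91 := by
  have hz : z ∈ oV S B.toBigConfig ∩ fibre S B.toBigConfig 1 :=
    ⟨⟨z_mem_vv S _, IsConj.refl z⟩, z_mem_vv S _, S.img_Q S.es.mem⟩
  rw [← Set.ncard_sdiff_singleton_add_one hz, ncard_oV_yBig S F B hE]

theorem oV_fibre_const (S : Setting z p) (F : AutFacts) (B : NormConfig T₀ Uh U0)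
    {u u' : AutM22} (hu : u ∈ Uh) (h1 : u ≠ 1) (hu' : u' ∈ Uh) (h1' : u' ≠ 1) :
    (oV S B.toBigConfig ∩ fibre S B.toBigConfig u).ncard =
      (oV S B.toBigConfig ∩ fibre S B.toBigConfig u').ncard := by
  have key : ∀ a ∈ Uh, a ≠ 1 → ∀ b ∈ Uh, b ≠ 1 →
      (oV S B.toBigConfig ∩ fibre S B.toBigConfig a).ncard ≤
        (oV S B.toBigConfig ∩ fibre S B.toBigConfig b).ncard := by
    intro a ha ha1 b hb hb1
    obtain ⟨g, hg, hgab⟩ := B.trans a ha ha1 b hb hb1
    obtain ⟨h, hh, rfl⟩ := S.img_surj g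
    have hm : h ∈ mSt S Uh := (mem_mSt S).mpr ⟨hh, hg⟩
    refine Set.ncard_le_ncard_of_injOn (fun v => h * v * h⁻¹) ?_ ?_ (Set.toFinite _)
    · rintro v ⟨⟨hv, hc⟩, -, rfl⟩
      obtain ⟨h1, h2⟩ := conj_fibre S F B.toBigConfig hm hv
      exact ⟨⟨h1, isConj_conj_iff.mpr hc⟩, h1, by rw [h2, hgab]⟩
    · exact fun x _ y _ h => mul_left_cancel (mul_right_cancel h)
  exact le_antisymm (key u hu h1 u' hu' h1') (key u' hu' h1' u hu h1)

theorem orb_z (S : Setting z p) (F : AutFacts) (B : BigConfig T₀ Uh U0) :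
    orb (Subgroup.normalizer (vv S B : Set G)) z = oV S B := by
  ext v
  constructor
  · rintro ⟨n, hn, rfl⟩
    exact ⟨(Subgroup.mem_normalizer_iff.mp hn z).mp (z_mem_vv S B), isConj_iff.mpr ⟨n, rfl⟩⟩
  · rintro ⟨hv, hc⟩
    exact fusion_vv S F B (z_mem_vv S B) hv hc

theorem oV_card_mul (S : Setting z p) (F : AutFacts) (B : NormConfig T₀ Uh U0) :
    (oV S B.toBigConfig).ncard * 283115520 =
      Nat.card ↥(Subgroup.normalizer (vv S B.toBigConfig : Set G)) := by
  have h := ncard_orb_mul (Subgroup.normalizer (vv S B.toBigConfig : Set G)) z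
  rw [orb_z S F, show Subgroup.normalizer (vv S B.toBigConfig : Set G) ⊓
      Subgroup.centralizer ({z} : Set G) = mSt S Uh from normalizer_inf_cz S F B.toBigConfig,
    card_mSt S F B] at h
  norm_num at h
  exact h

/-- The counts. -/
theorem counts (S : Setting z p) (F : AutFacts) (B : NormConfig T₀ Uh U0)
    (hE : ∃ e ∈ Q z, IsConj z e ∧ e ≠ z) :
    (oV S B.toBigConfig).ncard = 1771 ∧
      ∀ u ∈ Uh, u ≠ 1 → (oV S B.toBigConfig ∩ fibre S B.toBigConfig u).ncard = 112 := by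
  classical
  set B' := B.toBigConfig
  have := Fintype.ofFinite G
  have := Fintype.ofFinite AutM22
  obtain ⟨u₀, hu₀, hu₀1⟩ : ∃ u ∈ Uh, u ≠ 1 := by
    by_contra h
    push Not at h
    have := B.card_Uh
    rw [(Subgroup.eq_bot_iff_forall _).mpr h, Subgroup.card_bot] at this
    norm_num at this
  set k := (oV S B' ∩ fibre S B' u₀).ncard with hk
  have hsum : (oV S B').ncard = 91 + 15 * k := by
    have hmaps : ∀ v ∈ (oV S B').toFinset, S.img v ∈ (Uh : Set AutM22).toFinset := fun v hv => by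
      rw [Set.mem_toFinset] at hv ⊢
      exact img_mem_Uh S F B' hv.1
    rw [Set.ncard_eq_toFinset_card', Finset.card_eq_sum_card_fiberwise hmaps,
      ← Finset.add_sum_erase _ _ (show (1 : AutM22) ∈ (Uh : Set AutM22).toFinset by
        simp)]
    have hf : ∀ u : AutM22, ((oV S B').toFinset.filter fun v => S.img v = u).card =
        (oV S B' ∩ fibre S B' u).ncard := fun u => by
      rw [Set.ncard_eq_toFinset_card']
      congr 1
      ext v
      simp only [Finset.mem_filter, Set.mem_toFinset, Set.mem_inter_iff]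
      exact ⟨fun h => ⟨h.1, h.1.1, h.2⟩, fun h => ⟨h.1, h.2.2⟩⟩
    rw [hf, oV_fibre_one S F B hE, Finset.sum_const_nat (m := k), Finset.card_erase_of_mem
        (by simp), ← Set.ncard_eq_toFinset_card', ← Nat.card_coe_set_eq,
      SetLike.coe_sort_coe, B.card_Uh]
    intro u hu
    rw [Finset.mem_erase, Set.mem_toFinset] at hu
    rw [hf]
    exact oV_fibre_const S F B hu.2 hu.1 hu₀ hu₀1
  have hk128 : k ≤ 128 := by
    rw [← fibre_ncard S F B' hu₀]
    exact Set.ncard_le_ncard Set.inter_subset_right (Set.toFinite _)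
  have hdvd : 91 + 15 * k ∣ Nat.card ↥(Subgroup.normalizer (vv S B' : Set G)) := by
    rw [← hsum, ← oV_card_mul S F B]
    exact dvd_mul_right _ _
  have h112 : k = 112 := only_1771 (sixteen_dvd_fibre S F B' hE hu₀1) hk128 hdvd
    fun q hq hq2 hd => by
      have := Fact.mk hq
      exact prime_bound (vv_facts S F B').1 (centralizer_vv S F B) hq2 hd
  refine ⟨by rw [hsum, h112], fun u hu h1 => ?_⟩
  rw [← h112]
  exact oV_fibre_const S F B hu h1 hu₀ hu₀1

theorem card_normalizer (S : Setting z p) (F : AutFacts) (B : NormConfig T₀ Uh U0)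
    (hE : ∃ e ∈ Q z, IsConj z e ∧ e ≠ z) :
    Nat.card ↥(Subgroup.normalizer (vv S B.toBigConfig : Set G)) = 2 ^ 11 * 244823040 := by
  rw [← oV_card_mul S F B, (counts S F B hE).1]
  norm_num

theorem card_dV (S : Setting z p) (F : AutFacts) (B : NormConfig T₀ Uh U0)
    (hE : ∃ e ∈ Q z, IsConj z e ∧ e ≠ z) : (dV S B.toBigConfig).ncard = 276 := by
  set B' := B.toBigConfig
  have hsub : insert (1 : G) (oV S B') ⊆ (vv S B' : Set G) := by
    rintro v (rfl | hv)
    exacts [one_mem _, hv.1]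
  have h1 : (1 : G) ∉ oV S B' := fun h => S.z_ne_one (isConj_one_left.mp h.2)
  have he : dV S B' = (vv S B' : Set G) \ insert (1 : G) (oV S B') := by
    ext v
    simp only [dV, oV, Set.mem_ofPred_eq, Set.mem_sdiff, Set.mem_insert_iff, SetLike.mem_coe]
    tauto
  rw [he, Set.ncard_sdiff hsub, ← Nat.card_coe_set_eq, SetLike.coe_sort_coe,
    (vv_facts S F B').1, Set.ncard_insert_of_notMem h1, (counts S F B hE).1]
  norm_num

theorem dV_fibre (S : Setting z p) (F : AutFacts) (B : NormConfig T₀ Uh U0)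
    (hE : ∃ e ∈ Q z, IsConj z e ∧ e ≠ z) {u : AutM22} (hu : u ∈ Uh) (h1 : u ≠ 1) :
    (dV S B.toBigConfig ∩ fibre S B.toBigConfig u).ncard = 16 ∧
      ∀ v ∈ dV S B.toBigConfig ∩ fibre S B.toBigConfig u,
        orb (Q z) v = dV S B.toBigConfig ∩ fibre S B.toBigConfig u := by
  set B' := B.toBigConfig
  have he : dV S B' ∩ fibre S B' u = fibre S B' u \ (oV S B' ∩ fibre S B' u) := by
    ext v
    constructor
    · rintro ⟨⟨-, -, hnc⟩, hf⟩
      exact ⟨hf, fun h => hnc h.1.2⟩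
    · rintro ⟨hf, hno⟩
      refine ⟨⟨hf.1, fun h => h1 ?_, fun h => hno ⟨⟨hf.1, h⟩, hf⟩⟩, hf⟩
      rw [← hf.2, h, S.img_Q (one_mem _)]
  have h16 : (dV S B' ∩ fibre S B' u).ncard = 16 := by
    rw [he, Set.ncard_sdiff Set.inter_subset_right, fibre_ncard S F B' hu,
      (counts S F B hE).2 u hu h1]
  refine ⟨h16, fun v hv => Set.eq_of_subset_of_ncard_le ?_ ?_ (Set.toFinite _)⟩
  · rintro _ ⟨q, hq, rfl⟩
    obtain ⟨h2, h3⟩ := conj_Q_fibre S F B' hq hv.2
    exact ⟨⟨h2, fun h => hv.1.2.1 (conj_eq_one_iff.mp h),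
      fun h => hv.1.2.2 (isConj_conj_iff.mp h)⟩, h2, h3⟩
  · rw [h16]
    exact Nat.le_of_dvd ((Set.ncard_pos).mpr ⟨v, self_mem_orb _ _⟩)
      (sixteen_dvd_orb S F B' hE h1 hv.2)

theorem mul_z_mem_dV (S : Setting z p) (F : AutFacts) (B : BigConfig T₀ Uh U0) {d : G}
    (hd : d ∈ dV S B) (hy : d ∈ yBig S Uh B.exp_Uh) : d * z ∈ dV S B := by
  obtain ⟨hv, h1, hnc⟩ := hd
  have hne : d ≠ z := fun h => hnc (h ▸ IsConj.refl z)
  obtain ⟨q, hq, hqd⟩ := S.es.exists_conj_ne (yBig_le S B.exp_Uh hy) h1 hne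
  refine ⟨mul_mem hv (z_mem_vv S B), ?_, ?_⟩
  · intro h
    exact hne (by rw [eq_inv_of_mul_eq_one_left h, S.es.zinv])
  · intro h
    rw [← hqd] at h
    exact hnc (isConj_conj_iff.mp h)

theorem mem_yBig_of_mul_z (S : Setting z p) (F : AutFacts) (B : NormConfig T₀ Uh U0)
    (hE : ∃ e ∈ Q z, IsConj z e ∧ e ≠ z) {d : G} (hd : d ∈ dV S B.toBigConfig)
    (hdz : d * z ∈ dV S B.toBigConfig) : d ∈ yBig S Uh B.exp_Uh := by
  set B' := B.toBigConfig
  by_contra hy
  have hu := img_mem_Uh S F B' hd.1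
  have h1 : S.img d ≠ 1 := fun h => hy ((img_one_iff S F B' hd.1).mp h)
  obtain ⟨hcard, horb⟩ := dV_fibre S F B hE hu h1
  have hdc := (vv_facts S F B').2.2 hd.1
  have horb' := horb d ⟨hd, hd.1, rfl⟩
  have hin : d * z ∈ orb (Q z) d := by
    rw [horb']
    exact ⟨hdz, hdz.1, by
      rw [S.img_mul hdc (Q_le_cz z S.es.mem), S.img_Q S.es.mem, mul_one]⟩
  obtain ⟨q, hq, hqd⟩ := hin
  have hcQ : cQ z d = ySub z d := by
    refine Subgroup.eq_of_le_of_card_ge (S.cQ_le_ySub hdc) ?_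
    have h := ncard_orb_mul (Q z) d
    rw [horb', hcard, S.card_E] at h
    rw [card_ySub_fibre S F B' hE h1 ⟨hd.1, rfl⟩]
    have : Nat.card ↥(cQ z d) = Nat.card ↥(Q z ⊓ Subgroup.centralizer ({d} : Set G)) := rfl
    have h13 : (2 : ℕ) ^ 13 = 8192 := by norm_num
    omega
  have hq' : q ∈ ySub z d := (S.mem_ySub hdc).mpr ⟨hq, Or.inr (by
    have hz : d * z = z * d := (mem_cz.mp hdc).eq
    calc d * q * d⁻¹ = d * z * (z * q) * d⁻¹ := by
          rw [mul_assoc d z, ← mul_assoc z, S.z_sq, one_mul]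
      _ = q * d * q⁻¹ * (q * z) * d⁻¹ := by rw [hqd, S.z_comm hq]
      _ = q * (d * z) * d⁻¹ := by group
      _ = q * z := by rw [hz]; group)⟩
  rw [← hcQ] at hq'
  have h' : q * d * q⁻¹ = d := mul_inv_eq_iff_eq_mul.mpr (mem_cQ.mp hq').2.eq
  rw [h'] at hqd
  exact S.z_ne_one (by simpa using hqd.symm)

/-- The normaliser is transitive on the 276. -/
theorem trans_dV (S : Setting z p) (F : AutFacts) (B : NormConfig T₀ Uh U0)
    (hE : ∃ e ∈ Q z, IsConj z e ∧ e ≠ z) {d d' : G} (hd : d ∈ dV S B.toBigConfig)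
    (hd' : d' ∈ dV S B.toBigConfig) :
    ∃ n ∈ Subgroup.normalizer (vv S B.toBigConfig : Set G), n * d * n⁻¹ = d' := by
  set B' := B.toBigConfig
  set N := Subgroup.normalizer (vv S B' : Set G) with hN
  have hout : ∀ {a b : G}, a ∈ dV S B' → b ∈ dV S B' → a ∉ yBig S Uh B.exp_Uh →
      b ∉ yBig S Uh B.exp_Uh → b ∈ orb N a := by
    intro a b ha hb hay hby
    have ha1 : S.img a ≠ 1 := fun h => hay ((img_one_iff S F B' ha.1).mp h)
    have hb1 : S.img b ≠ 1 := fun h => hby ((img_one_iff S F B' hb.1).mp h)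
    obtain ⟨g, hg, hgab⟩ := B.trans _ (img_mem_Uh S F B' ha.1) ha1 _ (img_mem_Uh S F B' hb.1) hb1
    obtain ⟨h, hh, rfl⟩ := S.img_surj g
    have hm : h ∈ mSt S Uh := (mem_mSt S).mpr ⟨hh, hg⟩
    obtain ⟨h2, h3⟩ := conj_fibre S F B' hm ha.1
    have hmem : b ∈ orb (Q z) (h * a * h⁻¹) := by
      rw [(dV_fibre S F B hE (img_mem_Uh S F B' hb.1) hb1).2 (h * a * h⁻¹)
        ⟨⟨h2, fun e => ha.2.1 (conj_eq_one_iff.mp e), fun e => ha.2.2 (isConj_conj_iff.mp e)⟩,
          h2, by rw [h3, hgab]⟩]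
      exact ⟨hb, hb.1, rfl⟩
    obtain ⟨q, hq, hqb⟩ := hmem
    exact ⟨q * h, mul_mem (mSt_le_normalizer S F B' (Q_le_mSt S hq))
      (mSt_le_normalizer S F B' hm), by rw [← hqb]; group⟩
  have hmove : ∀ {a : G}, a ∈ dV S B' → ∃ b ∈ orb N a, b ∈ dV S B' ∧ b ∉ yBig S Uh B.exp_Uh := by
    intro a ha
    have hkeep : ∀ b ∈ orb N a, b ∈ dV S B' := by
      rintro _ ⟨n, hn, rfl⟩
      exact ⟨(Subgroup.mem_normalizer_iff.mp hn a).mp ha.1,
        fun e => ha.2.1 (conj_eq_one_iff.mp e), fun e => ha.2.2 (isConj_conj_iff.mp e)⟩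
    by_contra hcon
    push Not at hcon
    have hsub : Subgroup.closure (orb N a) ≤ yBig S Uh B.exp_Uh :=
      (Subgroup.closure_le _).mpr fun b hb => hcon b hb (hkeep b hb)
    have hya : a ∈ yBig S Uh B.exp_Uh := hcon a (self_mem_orb N a) ha
    obtain ⟨q, hq, hqa⟩ := S.es.exists_conj_ne (yBig_le S B.exp_Uh hya) ha.2.1
      (fun h => ha.2.2 (h ▸ IsConj.refl z))
    have hz : z ∈ Subgroup.closure (orb N a) := by
      have h1 : a * z ∈ orb N a := ⟨q, mSt_le_normalizer S F B' (Q_le_mSt S hq), hqa⟩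
      have h2 := mul_mem (inv_mem (Subgroup.subset_closure (self_mem_orb N a)))
        (Subgroup.subset_closure h1)
      rwa [inv_mul_cancel_left] at h2
    have hall : oV S B' ⊆ (yBig S Uh B.exp_Uh : Set G) := by
      intro v hv
      rw [← orb_z S F] at hv
      obtain ⟨n, hn, rfl⟩ := hv
      refine hsub ?_
      have hmap : (Subgroup.closure (orb N a)).map (MulAut.conj n).toMonoidHom ≤
          Subgroup.closure (orb N a) := by
        rw [MonoidHom.map_closure]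
        refine Subgroup.closure_mono ?_
        rintro _ ⟨_, ⟨m, hm, rfl⟩, rfl⟩
        exact ⟨n * m, mul_mem hn hm, by simp [mul_assoc]⟩
      exact hmap ⟨z, hz, rfl⟩
    have := Set.ncard_le_ncard hall (Set.toFinite _)
    rw [card_yBig_set S F B', (counts S F B hE).1] at this
    omega
  obtain ⟨a, ha, haD, hay⟩ := hmove hd
  obtain ⟨b, hb, hbD, hby⟩ := hmove hd'
  have h := hout haD hbD hay hby
  rw [orb_eq ha] at h
  have h' : orb N d' = orb N d := by rw [← orb_eq hb, orb_eq h]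
  exact (h' ▸ self_mem_orb N d' : d' ∈ orb N d)

end Cfsg.Agent.Lib.J4Big
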