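import Cfsg.Agent.Lib.J4Big.Hexad

/-!
# A subgroup normalised by a Frobenius group of order 20 has a small fixed space
-/

set_option autoImplicit false
set_option linter.unusedSectionVars false
set_option linter.unusedVariables false

namespace Cfsg.Agent.Lib.J4Big

open Cfsg.Agent.Lib.LargeExtraspecial.Basic Cfsg.Agent.Lib.J4Local

variable {G : Type*} [Group G] [Finite G] {z p : G}

/-- The subgroup `U` is of duad type. -/
def IsDuad (U : Subgroup AutM22) : Prop :=
  ∃ x ∈ inn, ∃ y ∈ inn, x ^ 5 = 1 ∧ y * x * y⁻¹ = x * x ∧ (∀ a ∈ U, x * a * x⁻¹ ∈ U) ∧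
    (∀ a ∈ U, y * a * y⁻¹ ∈ U) ∧ ∃ a ∈ U, x * a ≠ a * x

theorem wFix_fixed (S : Setting z p) (F : AutFacts) {U : Subgroup AutM22} (hU : IsExp2 U)
    (hi : U ≤ inn) (hd : IsDuad U) :
    ∃ x ∈ kc z p, x ∉ Q z ∧ x ^ 5 = 1 ∧ (∀ v ∈ wFix S U hU, tau z x v = v) ∧
      Nat.card ↥(wFix S U hU) ≤ 16 ∧ Nat.card ↥(fixV z {x}) ≤ 16 := by
  obtain ⟨x0, hx0, y0, hy0, hx5, hyx, hnx, hny, a0, ha0, hne⟩ := hd
  obtain ⟨x', hx', hxi⟩ := exists_lift S F hx0
  obtain ⟨y, hy, hyi⟩ := exists_lift S F hy0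
  set x := x' ^ 6 with hxd
  have hx : x ∈ kc z p := pow_mem hx' 6
  have hximg : S.img x = x0 := by
    rw [hxd, S.img_pow (kc_le_cz hx'), hxi, pow_succ, hx5, one_mul]
  have hx5' : x ^ 5 = 1 := by
    rw [hxd, ← pow_mul, show 6 * 5 = 5 * 6 from rfl, pow_mul]
    exact ker_pow_six S (pow_mem hx' 5) (by rw [S.img_pow (kc_le_cz hx'), hxi, hx5])
  have hrel : y * x * y⁻¹ = x * x := by
    have hdm : y * x * y⁻¹ * (x * x)⁻¹ ∈ kc z p :=
      mul_mem (mul_mem (mul_mem hy hx) (inv_mem hy)) (inv_mem (mul_mem hx hx))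
    obtain ⟨d, hd⟩ : ∃ d, d = y * x * y⁻¹ * (x * x)⁻¹ := ⟨_, rfl⟩
    rw [← hd] at hdm
    have hd1 : S.img d = 1 := by
      rw [hd, S.img_mul (kc_le_cz (mul_mem (mul_mem hy hx) (inv_mem hy)))
        (inv_mem (kc_le_cz (mul_mem hx hx))), S.img_mul (kc_le_cz (mul_mem hy hx)) (inv_mem (kc_le_cz hy)),
        S.img_mul hy.1 hx.1, S.img_inv hy.1, S.img_inv (kc_le_cz (mul_mem hx hx)),
        S.img_mul hx.1 hx.1, hximg, hyi, hyx, mul_inv_cancel]
    have e : y * x * y⁻¹ = d * (x * x) := by rw [hd]; group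
    have h5 : (y * x * y⁻¹) ^ 5 = 1 := by rw [conj_pow, hx5']; group
    rw [e, (ker_central S hdm hd1 (mul_mem hx hx)).mul_pow, ← pow_two, ← pow_mul,
      show 2 * 5 = 5 * 2 from rfl, pow_mul, hx5', one_pow, mul_one] at h5
    have h6 := ker_pow_six S hdm hd1
    rw [pow_succ, h5, one_mul] at h6
    rw [e, h6, one_mul]
  have hxQ : x ∉ Q z := fun h => hne (by rw [← hximg, S.img_Q h, one_mul, mul_one])
  let := vecCG S
  set M := wFix S U hU with hM
  have hx5v : ∀ v, tau z x (tau z x (tau z x (tau z x (tau z x v)))) = v := fun v => by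
    rw [← tau_mul hx.1 hx.1, ← tau_mul (mul_mem hx.1 hx.1) hx.1,
      ← tau_mul (mul_mem (mul_mem hx.1 hx.1) hx.1) hx.1,
      ← tau_mul (mul_mem (mul_mem (mul_mem hx.1 hx.1) hx.1) hx.1) hx.1,
      show x * x * x * x * x = 1 by rw [← hx5']; simp only [pow_succ, pow_zero, one_mul],
      tau_one]
  have hyxv : ∀ v, tau z y (tau z x v) = tau z x (tau z x (tau z y v)) := fun v => by
    rw [← tau_mul hy.1 hx.1, ← tau_mul hx.1 hy.1, ← tau_mul hx.1 (mul_mem hx.1 hy.1),
      ← mul_assoc, ← hrel]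
    congr 2
    group
  have hdi := Bound.dichotomy S.vec_sq (tau z p) (tau_p_rel S) (tau_p_fix S) S.card_vec
      (tau z x) (tau z y) hx5v (exists_tau_ne S hx.1 hxQ)
      (tau_inner_comm S (kc_le_inner S hx)) (tau_inner_comm S (kc_le_inner S hy))
      (tau_injective hy.1) hyxv
  have hdich := hdi M
      (wFix_invariant S hU hx (by rw [hximg]; exact hnx))
      (wFix_invariant S hU (p_mem_kc S) (p_normalises S U))
      (wFix_invariant S hU hy (by rw [hyi]; exact hny))
  have hF16 : Nat.card ↥(fixV z {x}) ≤ 16 := by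
    have mem : ∀ v, v ∈ fixV z {x} ↔ tau z x v = v := fun v =>
      ⟨fun h => h x rfl, fun h g hg => by rw [Set.mem_singleton_iff.mp hg]; exact h⟩
    rcases hdi (fixV z {x}) (fun v hv => (mem _).mpr (by rw [(mem v).mp hv]; exact (mem v).mp hv))
        (fun v hv => (mem _).mpr (by
          rw [tau_inner_comm S (kc_le_inner S hx), (mem v).mp hv]))
        (fun v hv => (mem _).mpr (by
          have h2 : tau z x (tau z x (tau z y v)) = tau z y v := by
            rw [← hyxv, (mem v).mp hv]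
          calc tau z x (tau z y v) = tau z x (tau z x (tau z x (tau z x (tau z x (tau z x
                (tau z y v)))))) := by rw [hx5v]
            _ = _ := by rw [h2, h2, h2])) with ⟨-, h⟩ | h
    · exact h
    · exfalso
      obtain ⟨v, hv⟩ := exists_tau_ne S hx.1 hxQ
      refine hv ?_
      have h1 := (mem _).mp (h v)
      rw [map_mul] at h1
      have h2 : tau z x (tau z x v) = v := by
        calc tau z x (tau z x v) = tau z x (tau z x v) * tau z x v * tau z x v := by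
              rw [mul_assoc, S.vec_sq, mul_one]
          _ = tau z x v * v * tau z x v := by rw [h1]
          _ = v := by rw [mul_right_comm, S.vec_sq, one_mul]
      calc tau z x v = tau z x (tau z x (tau z x (tau z x (tau z x v)))) := by rw [h2, h2]
        _ = v := hx5v v
  rcases hdich with ⟨h1, h2⟩ | hsub
  · exact ⟨x, hx, hxQ, hx5', h1, h2, hF16⟩
  exfalso
  obtain ⟨f, hf, hfi⟩ := fSub_surj S F hU hi ha0
  have hfc := fSub_le S hU hf
  have hfix : ∀ v, tau z x (tau z f v * v) = tau z f v * v := by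
    intro v
    induction v using QuotientGroup.induction_on with
    | H e =>
      rw [← mk_comm S hfc e, ← mem_ySub_iff S hx.1]
      refine ⟨S.comm_mem hfc e.2, Subgroup.mem_centralizer_iff.mpr fun a ha => ?_⟩
      have haQ : a ∈ Q z := S.aSub_le hx.1 ha
      obtain ⟨e', he', hm⟩ := (S.mem_aSub hx.1).mp ha
      have hmem : mkV z ⟨a, haQ⟩ ∈ M := by
        rw [(S.mk_eq_iff ⟨a, haQ⟩ ⟨_, S.comm_mem hx.1 he'⟩).mpr hm, mk_comm S hx.1 ⟨e', he'⟩]
        exact hsub _
      have hy' : a ∈ ySub z f := (mem_ySub_iff S hfc ⟨a, haQ⟩).mpr (hmem f hf)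
      exact (Setting.commute_aSub_ySub (comm_mem_aSub e.2) hy').eq.symm
  have heq : ∀ v, tau z (f * x) v = tau z (x * f) v := by
    intro v
    rw [tau_mul hfc hx.1, tau_mul hx.1 hfc]
    have h1 : tau z f (tau z x v * v) = tau z x v * v := hsub v f hf
    have h2 := hfix v
    rw [map_mul] at h1 h2
    calc tau z f (tau z x v) = tau z f (tau z x v) * tau z f v * tau z f v := by
          rw [mul_assoc, S.vec_sq, mul_one]
      _ = tau z x v * (v * tau z f v) := by rw [h1, mul_assoc]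
      _ = tau z x v * (tau z f v * v) := by rw [mul_comm v]
      _ = tau z x (tau z f v) * (tau z x v * tau z x v) := by rw [← h2]; ac_rfl
      _ = tau z x (tau z f v) := by rw [S.vec_sq, mul_one]
  have hQ : (f * x)⁻¹ * (x * f) ∈ Q z := mem_Q_of_tau S
    (mul_mem (inv_mem (mul_mem hfc hx.1)) (mul_mem hx.1 hfc)) fun v => by
      rw [tau_mul (inv_mem (mul_mem hfc hx.1)) (mul_mem hx.1 hfc), ← heq,
        ← tau_mul (inv_mem (mul_mem hfc hx.1)) (mul_mem hfc hx.1), inv_mul_cancel, tau_one]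
  have h := S.img_Q hQ
  rw [S.img_mul (inv_mem (mul_mem hfc hx.1)) (mul_mem hx.1 hfc), S.img_inv (mul_mem hfc hx.1),
    S.img_mul hfc hx.1, S.img_mul hx.1 hfc, hfi, hximg] at h
  exact hne (inv_mul_eq_one.mp h).symm

theorem wFix_lt (S : Setting z p) (F : AutFacts) {U : Subgroup AutM22} (hU : IsExp2 U)
    (hi : U ≤ inn) (hd : IsDuad U) : Nat.card ↥(wFix S U hU) < 64 := by
  obtain ⟨x, -, -, -, -, h, -⟩ := wFix_fixed S F hU hi hd
  omega

end Cfsg.Agent.Lib.J4Big
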