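import Cfsg.Agent.Lib.J4Big.Facts

/-!
# Finite facts on the normaliser of the hexad type subgroup of `Aut M22`
-/

set_option autoImplicit false

namespace Cfsg.Agent.Lib.J4Big

open Cfsg.Agent.Lib.J4Local

/-- Facts on `Uh` and on the conjugates of `U0` that it normalises. -/
structure NormConfig (T Uh U0 : Subgroup AutM22) : Prop extends BigConfig T Uh U0 where
  cent_Uh : Subgroup.centralizer (Uh : Set AutM22) = Uh
  card_norm : Nat.card ↥(Subgroup.normalizer (Uh : Set AutM22)) = 11520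
  trans : ∀ a ∈ Uh, a ≠ 1 → ∀ b ∈ Uh, b ≠ 1 →
    ∃ g ∈ Subgroup.normalizer (Uh : Set AutM22), g * a * g⁻¹ = b
  cent_le : ∀ a ∈ Uh, a ≠ 1 →
    Subgroup.centralizer ({a} : Set AutM22) ≤ Subgroup.normalizer (Uh : Set AutM22)
  card_U0 : Nat.card ↥U0 = 16
  exp_U0 : IsExp2 U0
  le_U0 : U0 ≤ T ⊓ inn
  fifteen : Set.ncard {U' : Subgroup AutM22 |
    (∃ g : AutM22, U' = U0.map (MulAut.conj g).toMonoidHom) ∧
      Uh ≤ Subgroup.normalizer (U' : Set AutM22)} = 15

end Cfsg.Agent.Lib.J4Big
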