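import Cfsg.Agent.Lib.J4Big.Lift

/-!
# Two elements of order three generating a nonabelian group over a given `3^2`
-/

set_option autoImplicit false
set_option linter.unusedSectionVars false
set_option linter.unusedVariables false

namespace Cfsg.Agent.Lib.J4Big

open Cfsg.Agent.Lib.LargeExtraspecial.Basic Cfsg.Agent.Lib.J4Local

variable {G : Type*} [Group G]

/-- The cube of a product when the commutator is central. -/
theorem cube_mul {g h c : G} (hc : h * g = c * (g * h)) (cg : Commute c g) (ch : Commute c h) :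
    (g * h) ^ 3 = c ^ 3 * (g ^ 3 * h ^ 3) := by
  have h1 : ∀ x, h * (g * x) = c * (g * (h * x)) := fun x => by
    rw [← mul_assoc, hc]; simp only [mul_assoc]
  have h2 : ∀ x, g * (c * x) = c * (g * x) := fun x => by rw [← mul_assoc, ← cg.eq, mul_assoc]
  have h3 : ∀ x, h * (c * x) = c * (h * x) := fun x => by rw [← mul_assoc, ← ch.eq, mul_assoc]
  simp only [pow_succ, pow_zero, one_mul, mul_assoc, h1, h2, h3]

section
variable [Finite G] {z p : G}

theorem ker_pow_six (S : Setting z p) {d : G} (hd : d ∈ kc z p) (h1 : S.img d = 1) : d ^ 6 = 1 := by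
  obtain ⟨i, hi⟩ := kc_ker S hd h1
  have h3 : (p ^ i) ^ 6 = 1 := by
    rw [show (6 : ℕ) = 3 * 2 from rfl, pow_mul, ← zpow_natCast (p ^ i), ← zpow_mul, mul_comm i,
      zpow_mul, zpow_natCast, S.p_cube, one_zpow, one_pow]
  rcases hi with h | h <;> rw [h]
  · exact h3
  · rw [(S.p_z.symm.zpow_right i).mul_pow, h3, mul_one, show (6 : ℕ) = 2 * 3 from rfl, pow_mul,
      pow_two, S.z_sq, one_pow]

theorem ker_central (S : Setting z p) {d : G} (hd : d ∈ kc z p) (h1 : S.img d = 1) {y : G}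
    (hy : y ∈ kc z p) : Commute d y := by
  obtain ⟨i, hi⟩ := kc_ker S hd h1
  have a : Commute (p ^ i) y := (mem_cz.mp hy.2).symm.zpow_left i
  rcases hi with h | h <;> rw [h]
  · exact a
  · exact (mem_cz.mp hy.1).symm.mul_left a

/-- A kernel element of 3-power order is a power of `p`. -/
theorem ker_three (S : Setting z p) {d : G} (hd : d ∈ kc z p) (h1 : S.img d = 1)
    (h27 : d ^ 27 = 1) : ∃ i : ℤ, d = p ^ i ∧ d ^ 3 = 1 := by
  obtain ⟨i, hi⟩ := kc_ker S hd h1
  have h3 : (p ^ i) ^ 3 = 1 := by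
    rw [← zpow_natCast, ← zpow_mul, mul_comm, zpow_mul, zpow_natCast, S.p_cube, one_zpow]
  rcases hi with h | h
  · exact ⟨i, h, h ▸ h3⟩
  · exfalso
    rw [h, (S.p_z.symm.zpow_right i).mul_pow, show (27 : ℕ) = 3 * 9 from rfl,
      pow_mul (p ^ i), h3, one_pow, mul_one] at h27
    have hz2 : z ^ 2 = 1 := by rw [pow_two, S.z_sq]
    rw [show 3 * 9 = 2 * 13 + 1 from rfl, pow_succ, pow_mul, hz2, one_pow, one_mul] at h27
    exact S.z_ne_one h27

theorem exists_ab (S : Setting z p) (F : AutFacts) {N : Subgroup AutM22} (hN : N ≤ inn)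
    (hc : Nat.card ↥N = 9) (he : ∀ a ∈ N, a ^ 3 = 1) :
    ∃ a ∈ kc z p, ∃ b ∈ kc z p, S.img a ∈ N ∧ S.img b ∈ N ∧ b ^ 3 = 1 ∧ a * b = b * p * a := by
  classical
  let m : ↥(kc z p) →* AutM22 :=
    { toFun := fun h => S.img h
      map_one' := S.img_Q (one_mem (Q z))
      map_mul' := fun a b => S.img_mul (kc_le_cz a.2) (kc_le_cz b.2) }
  have hrange : m.range = inn := le_antisymm (fun _ ⟨x, hx⟩ => hx ▸ inn_of_kc S F x.2) fun a ha => by
    obtain ⟨h, hh, e⟩ := exists_lift S F ha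
    exact ⟨⟨h, hh⟩, e⟩
  have hker : Nat.card ↥m.ker = 6 := by
    let f : Bool × ↥(Subgroup.zpowers p) → ↥m.ker := fun x =>
      ⟨⟨(bif x.1 then z else 1) * x.2, mul_mem (by cases x.1 <;> simp [z_mem_kc S])
        (Subgroup.zpowers_le.mpr (p_mem_kc S) x.2.2)⟩, by
          show S.img _ = 1
          obtain ⟨i, hi⟩ := Subgroup.mem_zpowers_iff.mp x.2.2
          refine (S.img_eq_one ?_).mpr ⟨_, ?_, i, by rw [hi]⟩
          · exact mul_mem (by cases x.1 <;> simp [Q_le_cz z S.es.mem])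
              (Subgroup.zpowers_le.mpr S.p_mem_cz x.2.2)
          · cases x.1
            · exact one_mem _
            · exact S.es.mem⟩
    have hb : Function.Bijective f := by
      constructor
      · rintro ⟨a, b, hb⟩ ⟨c, d, hd⟩ h
        have h' : (bif a then z else 1) * b = (bif c then z else 1) * d :=
          congrArg (fun x => (x.1 : G)) h
        obtain ⟨i, rfl⟩ := Subgroup.mem_zpowers_iff.mp hb
        obtain ⟨j, rfl⟩ := Subgroup.mem_zpowers_iff.mp hd
        have key : ∀ k : ℤ, z ≠ p ^ k := fun k hk =>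
          S.z_ne_one (two_three (n := 2 ^ 1) (by rw [pow_one, pow_two, S.z_sq]) ⟨1, rfl⟩ S.ord_p hk)
        cases a <;> cases c <;> simp only [cond_true, cond_false, one_mul, mul_right_inj] at h'
        · exact Prod.ext rfl (Subtype.ext h')
        · exact absurd (by rw [zpow_sub, h']; simp) (key (i - j))
        · exact absurd (by rw [zpow_sub, ← h']; simp) (key (j - i))
        · exact Prod.ext rfl (Subtype.ext h')
      · rintro ⟨⟨h, hh⟩, hk⟩
        obtain ⟨i, hi | hi⟩ := kc_ker S hh hk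
        · exact ⟨(false, ⟨p ^ i, i, rfl⟩), Subtype.ext (Subtype.ext (by simp [f, hi]))⟩
        · exact ⟨(true, ⟨p ^ i, i, rfl⟩), Subtype.ext (Subtype.ext (by simp [f, hi]))⟩
    rw [← Nat.card_eq_of_bijective f hb, Nat.card_prod, Nat.card_zpowers, S.ord_p]
    simp
  have hcard : Nat.card ↥(kc z p) = 6 * 443520 := by
    have h := Subgroup.card_mul_index m.ker
    rw [Subgroup.index_ker, hrange, F.card_inn, hker] at h
    exact h.symm
  set X : Subgroup ↥(kc z p) := N.comap m with hX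
  have hXcard : Nat.card ↥X = 54 := by
    have h := Subgroup.card_mul_index (m.domRestrict X).ker
    have hr : (m.domRestrict X).range = N := by
      rw [MonoidHom.domRestrict_range, hX, Subgroup.map_comap_eq, hrange, inf_eq_right.mpr hN]
    have hk : Nat.card ↥(m.domRestrict X).ker = Nat.card ↥m.ker := by
      refine Nat.card_congr ⟨fun x => ⟨x.1.1, x.2⟩, fun x => ⟨⟨x.1, ?_⟩, x.2⟩, fun _ => rfl, fun _ => rfl⟩
      show m x.1 ∈ N
      rw [show m x.1 = 1 from x.2]
      exact one_mem N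
    rw [Subgroup.index_ker, hr, hk, hker, hc] at h
    exact h.symm
  have := Fact.mk Nat.prime_three
  obtain ⟨K, hK⟩ := Sylow.exists_subgroup_card_pow_prime (G := ↥X) 3 (n := 3) (hXcard ▸ (by norm_num))
  set R : Subgroup ↥(kc z p) := K.map X.subtype with hR
  have hRc : Nat.card ↥R = 27 := by
    rw [hR, Subgroup.card_map_of_injective X.subtype_injective, hK]; norm_num
  have hRX : ∀ g ∈ R, S.img (g : G) ∈ N := by
    rintro _ ⟨g, -, rfl⟩
    exact g.2
  have h27 : ∀ g ∈ R, (g : G) ^ 27 = 1 := by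
    intro g hg
    have := pow_card_eq_one' (x := (⟨g, hg⟩ : ↥R))
    rw [hRc] at this
    exact congrArg (fun x : ↥R => ((x : ↥(kc z p)) : G)) this
  -- `R` is not commutative
  have hnc : ∃ g ∈ R, ∃ h ∈ R, g * h ≠ h * g := by
    by_contra hcon
    push Not at hcon
    let instR : CommGroup ↥R :=
      { (inferInstance : Group ↥R) with mul_comm := fun a b => Subtype.ext (hcon _ a.2 _ b.2) }
    let P' : ↥(kc z p) := ⟨p, p_mem_kc S⟩
    have hcen : ∀ y : ↥(kc z p), Commute P' y := fun y => Subtype.ext (mem_cz.mp y.2.2).symm.eq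
    have key : ∀ (k : ℕ) (g₀ : ↥(kc z p)), g₀⁻¹ * P' ^ k * g₀ ∈ R → g₀⁻¹ * P' ^ k * g₀ = P' ^ k :=
      fun k g₀ _ => by rw [mul_assoc, ((hcen g₀).pow_left k).eq, inv_mul_cancel_left]
    have ht := MonoidHom.transfer_eq_pow (MonoidHom.id ↥R) P' key
    have hcomm : P' ∈ ⁅(⊤ : Subgroup ↥(kc z p)), (⊤ : Subgroup ↥(kc z p))⁆ := by
      have hd := S.derived
      have hmap : (⁅(⊤ : Subgroup ↥(kc z p)), (⊤ : Subgroup ↥(kc z p))⁆).map (kc z p).subtype =
          ⁅kc z p, kc z p⁆ := by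
        rw [Subgroup.map_commutator, ← MonoidHom.range_eq_map, Subgroup.range_subtype]
      rw [← hmap] at hd
      obtain ⟨w, hw, hwp⟩ := hd
      rwa [show P' = w from Subtype.ext hwp.symm]
    have hone : MonoidHom.transfer (MonoidHom.id ↥R) P' = 1 := by
      have := Abelianization.commutator_subset_ker (MonoidHom.transfer (MonoidHom.id ↥R)) hcomm
      exact this
    rw [hone] at ht
    have hpow : p ^ R.index = 1 := by
      have := congrArg (fun x : ↥R => ((x : ↥(kc z p)) : G)) ht.symm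
      simpa using this
    have hidx : R.index = 98560 := by
      have := Subgroup.card_mul_index R
      rw [hRc, hcard] at this
      omega
    have hdvd := orderOf_dvd_of_pow_eq_one hpow
    rw [S.ord_p, hidx] at hdvd
    norm_num at hdvd
  have hNcomm : ∀ u ∈ N, ∀ v ∈ N, u * v = v * u := fun u hu v hv =>
    congrArg Subtype.val
      ((IsPGroup.isMulCommutative_of_card_eq_prime_sq (p := 3) (G := ↥N) (hc.trans (by norm_num))).is_comm.comm
        ⟨u, hu⟩ ⟨v, hv⟩)
  have hcube : ∀ g ∈ R, ∃ i : ℤ, (g : G) ^ 3 = p ^ i ∧ ((g : G) ^ 3) ^ 3 = 1 := by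
    intro g hg
    refine ker_three S (pow_mem g.2 3) ?_ ?_
    · rw [S.img_pow (kc_le_cz g.2)]; exact he _ (hRX g hg)
    · rw [← pow_mul, mul_comm, pow_mul, h27 g hg, one_pow]
  have hcom : ∀ g ∈ R, ∀ h ∈ R, ∃ i : ℤ,
      (h : G) * g * (h : G)⁻¹ * (g : G)⁻¹ = p ^ i ∧ (p ^ i) ^ 3 = 1 := by
    intro g hg h hh
    have hmem : h * g * h⁻¹ * g⁻¹ ∈ R := mul_mem (mul_mem (mul_mem hh hg) (inv_mem hh)) (inv_mem hg)
    obtain ⟨i, hi, hi3⟩ := ker_three S (h * g * h⁻¹ * g⁻¹).2 (by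
      have : m (h * g * h⁻¹ * g⁻¹) = 1 := by
        rw [map_mul, map_mul, map_mul, map_inv, map_inv]
        show S.img h * S.img g * (S.img h)⁻¹ * (S.img g)⁻¹ = 1
        rw [hNcomm _ (hRX h hh) _ (hRX g hg), mul_inv_cancel_right, mul_inv_cancel]
      exact this) (h27 _ hmem)
    exact ⟨i, hi, hi ▸ hi3⟩
  -- an element of order three not commuting with some element
  obtain ⟨a, haR, b, hbR, hne, hb3⟩ : ∃ a ∈ R, ∃ b ∈ R, a * b ≠ b * a ∧ (b : G) ^ 3 = 1 := by
    obtain ⟨g, hg, h, hh, hne⟩ := hnc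
    by_cases hh3 : (h : G) ^ 3 = 1
    · exact ⟨g, hg, h, hh, hne, hh3⟩
    by_cases g3 : (g : G) ^ 3 = 1
    · exact ⟨h, hh, g, hg, hne.symm, g3⟩
    obtain ⟨i, hi, hi3⟩ := hcube g hg
    obtain ⟨j, hj, hj3⟩ := hcube h hh
    obtain ⟨l, hl, hl3⟩ := hcom g hg h hh
    obtain ⟨k, hk⟩ : ∃ k : ℕ, ((g : G) ^ 3) ^ k * (h : G) ^ 3 = 1 := by
      have h3 : p ^ (3 : ℤ) = 1 := by
        rw [show (3 : ℤ) = ((3 : ℕ) : ℤ) from rfl, zpow_natCast, S.p_cube]
      have red : ∀ n : ℤ, p ^ n = p ^ (n % 3) := fun n => by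
        conv_lhs => rw [← Int.emod_add_mul_ediv n 3, zpow_add, zpow_mul, h3, one_zpow, mul_one]
      have hi0 : i % 3 = 1 ∨ i % 3 = 2 := by
        have : i % 3 ≠ 0 := fun h0 => g3 (by rw [hi, red, h0, zpow_zero])
        omega
      have hj0 : j % 3 = 1 ∨ j % 3 = 2 := by
        have : j % 3 ≠ 0 := fun h0 => hh3 (by rw [hj, red, h0, zpow_zero])
        omega
      rw [hi, hj, red i, red j]
      rcases hi0 with hi0 | hi0 <;> rcases hj0 with hj0 | hj0 <;> rw [hi0, hj0]
      · exact ⟨2, by rw [← zpow_natCast, ← zpow_mul, ← zpow_add]; exact h3⟩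
      · exact ⟨1, by rw [pow_one, ← zpow_add]; exact h3⟩
      · exact ⟨1, by rw [pow_one, ← zpow_add]; exact h3⟩
      · exact ⟨2, by
          rw [← zpow_natCast, ← zpow_mul, ← zpow_add, show (2 : ℤ) * ((2 : ℕ) : ℤ) + 2 = 3 + 3 by norm_num,
            zpow_add, h3, one_mul]⟩
    refine ⟨g, hg, g ^ k * h, mul_mem (pow_mem hg k) hh, fun hh' => hne ?_, ?_⟩
    · rw [← mul_assoc, (Commute.self_pow g k).eq, mul_assoc, mul_assoc] at hh'
      exact mul_left_cancel hh'
    · obtain ⟨n, hn, hn3⟩ := hcom _ (pow_mem hg k) h hh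
      have hc' : (h : G) * (g : G) ^ k = p ^ n * ((g : G) ^ k * h) := by
        rw [← hn]
        simp only [SubgroupClass.coe_pow]
        group
      rw [Subgroup.coe_mul, SubgroupClass.coe_pow, cube_mul hc'
        ((mem_cz.mp (pow_mem g.2 k).2).symm.zpow_left n)
        ((mem_cz.mp h.2.2).symm.zpow_left n), hn3, one_mul, ← pow_mul, mul_comm k 3, pow_mul, hk]
  obtain ⟨i, hi, -⟩ := hcom b hbR a haR
  have hab : (a : G) * b = p ^ i * (b * a) := by rw [← hi]; group
  have hib : Commute (p ^ i) (b : G) := (mem_cz.mp b.2.2).symm.zpow_left i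
  have h3 : p ^ (3 : ℤ) = 1 := by
    rw [show (3 : ℤ) = ((3 : ℕ) : ℤ) from rfl, zpow_natCast, S.p_cube]
  have red : p ^ i = p ^ (i % 3) := by
    conv_lhs => rw [← Int.emod_add_mul_ediv i 3, zpow_add, zpow_mul, h3, one_zpow, mul_one]
  have hi0 : i % 3 = 1 ∨ i % 3 = 2 := by
    have : i % 3 ≠ 0 := fun h0 => hne (Subtype.ext (by
      rw [red, h0, zpow_zero, one_mul] at hab
      exact hab))
    omega
  rw [red] at hab
  rcases hi0 with h1 | h1 <;> rw [h1] at hab
  · refine ⟨a, a.2, b, b.2, hRX a haR, hRX b hbR, hb3, ?_⟩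
    rw [hab, zpow_one, ← mul_assoc, (mem_cz.mp b.2.2).eq]
  · refine ⟨(a : G)⁻¹, inv_mem a.2, b, b.2, ?_, hRX b hbR, hb3, ?_⟩
    · rw [S.img_inv (kc_le_cz a.2)]; exact inv_mem (hRX a haR)
    · have h' : (b : G) * a = p * ((a : G) * b) := by
        rw [hab, ← mul_assoc p, ← zpow_one_add, show (1 : ℤ) + 2 = 3 by norm_num, h3, one_mul]
      calc (a : G)⁻¹ * b = (a : G)⁻¹ * ((b : G) * a) * (a : G)⁻¹ := by group
        _ = ((a : G)⁻¹ * p) * a * b * (a : G)⁻¹ := by rw [h']; group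
        _ = _ := by
            rw [show (a : G)⁻¹ * p = p * (a : G)⁻¹ from (mem_cz.mp a.2.2).inv_left.eq,
              inv_mul_cancel_right, (mem_cz.mp b.2.2).eq]

end

end Cfsg.Agent.Lib.J4Big
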