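import Cfsg.Agent.Lib.J4Big.Bound
import Cfsg.Agent.Lib.J4Big.SylowThree

/-!
# The elementary abelian subgroup of order `2^11` over a hexad-type subgroup of `Aut M22`

For `U` elementary of order 16 inside the inner automorphisms and normalised by an elementary
subgroup of order 9: the fixed space of its lifts on `O₂/⟨z⟩` is Lagrangian, its preimage is
elementary, centralised by the lifts, and together with them forms an elementary `2^11`.
-/

set_option autoImplicit false
set_option linter.unusedSectionVars false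
set_option linter.unusedVariables false

namespace Cfsg.Agent.Lib.J4Big

open Cfsg.Agent.Lib.LargeExtraspecial.Basic Cfsg.Agent.Lib.J4Local
open scoped Pointwise

variable {G : Type*} [Group G] [Finite G] {z p : G}

/-- The subgroup `U` is of hexad type. -/
def IsHexad (U : Subgroup AutM22) : Prop :=
  U ≤ inn ∧ Nat.card ↥U = 16 ∧ ∃ N : Subgroup AutM22, N ≤ inn ∧ Nat.card ↥N = 9 ∧
    (∀ a ∈ N, a ^ 3 = 1) ∧ ∀ n ∈ N, ∀ a ∈ U, n * a * n⁻¹ ∈ U

/-- The fixed space of the lifts of `U`. -/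
def wFix (S : Setting z p) (U : Subgroup AutM22) (hU : IsExp2 U) : Subgroup (Vec z) :=
  fixV z (fSub S U hU : Set G)

/-- The preimage of the fixed space. -/
def yBig (S : Setting z p) (U : Subgroup AutM22) (hU : IsExp2 U) : Subgroup G :=
  up z (wFix S U hU)

/-- The elementary abelian subgroup of order `2^11`. -/
def vBig (S : Setting z p) (U : Subgroup AutM22) (hU : IsExp2 U) : Subgroup G :=
  fSub S U hU ⊔ yBig S U hU

theorem fSub_conj (S : Setting z p) {U : Subgroup AutM22} (hU : IsExp2 U) {g : G}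
    (hg : g ∈ kc z p) (hn : ∀ a ∈ U, S.img g * a * (S.img g)⁻¹ ∈ U) {f : G}
    (hf : f ∈ fSub S U hU) : g * f * g⁻¹ ∈ fSub S U hU := by
  refine ⟨mul_mem (mul_mem hg hf.1) (inv_mem hg), ?_, ?_⟩
  · rw [S.img_mul (mul_mem hg.1 hf.1.1) (inv_mem hg.1), S.img_mul hg.1 hf.1.1, S.img_inv hg.1]
    exact hn _ hf.2.1
  · rw [show g * f * g⁻¹ * (g * f * g⁻¹) = g * (f * f) * g⁻¹ by group]
    exact isQ.normal (mem_cz.mp hg.1) hf.2.2

theorem fSub_conj_inv (S : Setting z p) {U : Subgroup AutM22} (hU : IsExp2 U) {g : G}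
    (hg : g ∈ kc z p) (hn : ∀ a ∈ U, S.img g * a * (S.img g)⁻¹ ∈ U) {f : G}
    (hf : f ∈ fSub S U hU) : g⁻¹ * f * g ∈ fSub S U hU := by
  let σ : ↥(fSub S U hU) → ↥(fSub S U hU) := fun x => ⟨g * x * g⁻¹, fSub_conj S hU hg hn x.2⟩
  have hσ : Function.Injective σ := fun a b h =>
    Subtype.ext (mul_left_cancel (mul_right_cancel (congrArg Subtype.val h)))
  obtain ⟨x, hx⟩ := (Finite.injective_iff_surjective.mp hσ) ⟨f, hf⟩
  have hx' : g * (x : G) * g⁻¹ = f := congrArg Subtype.val hx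
  have : g⁻¹ * f * g = x := by rw [← hx']; group
  exact this ▸ x.2

theorem wFix_invariant (S : Setting z p) {U : Subgroup AutM22} (hU : IsExp2 U) {g : G}
    (hg : g ∈ kc z p) (hn : ∀ a ∈ U, S.img g * a * (S.img g)⁻¹ ∈ U) :
    ∀ v ∈ wFix S U hU, tau z g v ∈ wFix S U hU := by
  intro v hv f hf
  have hfc := fSub_le S hU hf
  have h' := fSub_conj_inv S hU hg hn hf
  rw [← tau_mul hfc hg.1, show f * g = g * (g⁻¹ * f * g) by group,
    tau_mul hg.1 (fSub_le S hU h'), hv _ h']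

theorem p_normalises (S : Setting z p) (U : Subgroup AutM22) :
    ∀ a ∈ U, S.img p * a * (S.img p)⁻¹ ∈ U := fun a ha => by
  rw [S.img_p, one_mul, inv_one, mul_one]; exact ha

/-- An invariant nontrivial subgroup has a nontrivial fixed vector. -/
theorem exists_fixed (S : Setting z p) {U : Subgroup AutM22} (hU : IsExp2 U)
    (hF : ∀ f ∈ fSub S U hU, f * f = 1) (M : Subgroup (Vec z))
    (hM : ∀ f ∈ fSub S U hU, ∀ v ∈ M, tau z f v ∈ M) {v : Vec z} (hv : v ∈ M) (h1 : v ≠ 1) :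
    ∃ w ∈ M ⊓ wFix S U hU, w ≠ 1 := by
  classical
  have := Fintype.ofFinite G
  have key : ∀ s : Finset G, (∀ f ∈ s, f ∈ fSub S U hU) →
      ∃ w ∈ M, w ≠ 1 ∧ ∀ f ∈ s, tau z f w = w := by
    intro s
    induction s using Finset.induction with
    | empty => exact fun _ => ⟨v, hv, h1, by simp⟩
    | @insert f s hfs ih =>
      intro hs
      obtain ⟨w, hw, hw1, hfix⟩ := ih fun g hg => hs g (Finset.mem_insert_of_mem hg)
      have hf := hs f (Finset.mem_insert_self f s)
      by_cases h : tau z f w = w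
      · exact ⟨w, hw, hw1, fun g hg => (Finset.mem_insert.mp hg).elim (fun e => e ▸ h) (hfix g)⟩
      let := vecCG S
      refine ⟨w * tau z f w, mul_mem hw (hM f hf w hw), fun h' => h ?_, fun g hg => ?_⟩
      · rw [← mul_left_cancel_iff (a := w), h', S.vec_sq]
      · have hff : tau z f (tau z f w) = w := by
          rw [← tau_mul (fSub_le S hU hf) (fSub_le S hU hf), hF f hf, tau_one]
        rcases Finset.mem_insert.mp hg with rfl | hg
        · rw [map_mul, hff, mul_comm]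
        · have hgF := hs g (Finset.mem_insert_of_mem hg)
          have hcomm : g * f = f * g := by
            have h2 := hF _ (mul_mem hgF hf)
            rw [← inv_eq_of_mul_eq_one_right h2, mul_inv_rev,
              inv_eq_of_mul_eq_one_right (hF g hgF), inv_eq_of_mul_eq_one_right (hF f hf)]
          rw [map_mul, ← tau_mul (fSub_le S hU hgF) (fSub_le S hU hf), hcomm,
            tau_mul (fSub_le S hU hf) (fSub_le S hU hgF), hfix g hg]
  obtain ⟨w, hw, hw1, hfix⟩ :=
    key (Finset.univ.filter fun f => f ∈ fSub S U hU) fun f hf => (Finset.mem_filter.mp hf).2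
  exact ⟨w, ⟨hw, fun f hf => hfix f (Finset.mem_filter.mpr ⟨Finset.mem_univ f, hf⟩)⟩, hw1⟩

section
variable {U : Subgroup AutM22}

/-- Subgroups invariant under the nonabelian `3^{1+2}` are trivial or have at least 64 elements. -/
theorem sixty_four_of_invariant (S : Setting z p) {a b : G} (ha : a ∈ kc z p) (hb : b ∈ kc z p)
    (hb3 : b ^ 3 = 1) (hab : a * b = b * p * a) (M : Subgroup (Vec z))
    (hMa : ∀ v ∈ M, tau z a v ∈ M) (hMb : ∀ v ∈ M, tau z b v ∈ M) (hMp : ∀ v ∈ M, tau z p v ∈ M)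
    {w : Vec z} (hw : w ∈ M) (hw1 : w ≠ 1) : 64 ≤ Nat.card ↥M := by
  let := vecCG S
  refine Bound.sixty_four_le S.vec_sq (tau z p) (tau_p_rel S) (tau_p_fix S) (tau z b) (tau z a)
    ?_ ?_ ?_ ?_ (tau_injective ha.1) M hMp hMb hMa hw hw1
  · intro v
    rw [← tau_mul hb.1 hb.1, ← tau_mul (mul_mem hb.1 hb.1) hb.1,
      show b * b * b = 1 by rw [← hb3, pow_succ, pow_two], tau_one]
  · exact tau_inner_comm S (kc_le_inner S hb)
  · exact tau_inner_comm S (kc_le_inner S ha)
  · intro v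
    rw [← tau_mul ha.1 hb.1, hab, tau_mul (mul_mem hb.1 S.p_mem_cz) ha.1, tau_mul hb.1 S.p_mem_cz]

/-- The data of a nonabelian `3^{1+2}` normalising `U`. -/
theorem exists_three (S : Setting z p) (F : AutFacts) (hh : IsHexad U) :
    ∃ a ∈ kc z p, ∃ b ∈ kc z p, b ^ 3 = 1 ∧ a * b = b * p * a ∧
      (∀ u ∈ U, S.img a * u * (S.img a)⁻¹ ∈ U) ∧ ∀ u ∈ U, S.img b * u * (S.img b)⁻¹ ∈ U := by
  obtain ⟨-, -, N, hN, hc, he, hn⟩ := hh
  obtain ⟨a, ha, b, hb, haN, hbN, hb3, hab⟩ := exists_ab S F hN hc he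
  exact ⟨a, ha, b, hb, hb3, hab, hn _ haN, hn _ hbN⟩

theorem wFix_facts (S : Setting z p) (F : AutFacts) (hU : IsExp2 U) (hh : IsHexad U) :
    Nat.card ↥(wFix S U hU) = 64 ∧ perp z (wFix S U hU) = wFix S U hU := by
  obtain ⟨hi, hc, -⟩ := id hh
  obtain ⟨a, ha, b, hb, hb3, hab, han, hbn⟩ := exists_three S F hh
  have hF : ∀ f ∈ fSub S U hU, f * f = 1 := fun f hf => fSub_sq S F hU hi hc hf
  have Ia := wFix_invariant S hU ha han
  have Ib := wFix_invariant S hU hb hbn
  have Ip := wFix_invariant S hU (p_mem_kc S) (p_normalises S U)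
  -- the fixed space is not trivial
  have hVne : ∃ v : Vec z, v ≠ 1 := by
    by_contra h
    push Not at h
    have : Nat.card (Vec z) = 1 := Nat.card_eq_one_iff_unique.mpr
      ⟨⟨fun x y => (h x).trans (h y).symm⟩, ⟨1⟩⟩
    rw [S.card_vec] at this
    norm_num at this
  obtain ⟨v, hv⟩ := hVne
  obtain ⟨w, ⟨-, hw⟩, hw1⟩ := exists_fixed S hU hF ⊤ (fun _ _ _ _ => trivial) (v := v) trivial hv
  have h64 := sixty_four_of_invariant S ha hb hb3 hab _ Ia Ib Ip hw hw1
  -- the orthogonal is not trivial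
  set A := perp z (wFix S U hU) with hA
  have hprod := card_perp S (wFix S U hU)
  have hA1 : ∃ x ∈ A, x ≠ 1 := by
    by_contra h
    push Not at h
    have hbot : A = ⊥ := (Subgroup.eq_bot_iff_forall A).mpr h
    rw [← hA, hbot, Subgroup.card_bot, one_mul] at hprod
    have htop : wFix S U hU = ⊤ := Subgroup.eq_top_of_card_eq _ (hprod.trans S.card_vec.symm)
    -- then all lifts act trivially
    obtain ⟨u, hu, hu1⟩ : ∃ u ∈ U, u ≠ 1 := by
      by_contra h'
      push Not at h'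
      rw [(Subgroup.eq_bot_iff_forall U).mpr h', Subgroup.card_bot] at hc
      norm_num at hc
    obtain ⟨f, hf, rfl⟩ := fSub_surj S F hU hi hu
    have hfQ : f ∈ Q z := mem_Q_of_tau S (fSub_le S hU hf) fun v =>
      (show v ∈ wFix S U hU from htop ▸ trivial) f hf
    exact hu1 (S.img_Q hfQ)
  obtain ⟨x, hx, hx1⟩ := hA1
  have hAF : ∀ f ∈ fSub S U hU, ∀ v ∈ A, tau z f v ∈ A := fun f hf =>
    perp_invariant S (fSub_le S hU hf) fun v hv => by rw [hv f hf]; exact hv
  obtain ⟨y, hy, hy1⟩ := exists_fixed S hU hF A hAF hx hx1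
  have inv : ∀ g, g ∈ cz z → (∀ v ∈ wFix S U hU, tau z g v ∈ wFix S U hU) →
      ∀ v ∈ A ⊓ wFix S U hU, tau z g v ∈ A ⊓ wFix S U hU := fun g hg h v hv =>
    ⟨perp_invariant S hg h v hv.1, h v hv.2⟩
  have hI := sixty_four_of_invariant S ha hb hb3 hab _ (inv a ha.1 Ia) (inv b hb.1 Ib)
    (inv p S.p_mem_cz Ip) hy hy1
  have l1 := Subgroup.card_le_of_le (inf_le_left : A ⊓ wFix S U hU ≤ A)
  have hle : Nat.card ↥(wFix S U hU) ≤ 64 := by
    by_contra hgt
    push Not at hgt
    have : 64 * 65 ≤ Nat.card ↥A * Nat.card ↥(wFix S U hU) := Nat.mul_le_mul (hI.trans l1) hgt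
    rw [hprod] at this
    omega
  have hW := le_antisymm hle h64
  rw [hW] at hprod
  have hAc : Nat.card ↥A = 64 := by
    rw [← hA] at hprod
    omega
  have e1 : A ⊓ wFix S U hU = A := Subgroup.eq_of_le_of_card_ge inf_le_left (hAc.trans_le hI)
  have e2 : A ⊓ wFix S U hU = wFix S U hU := Subgroup.eq_of_le_of_card_ge inf_le_right (hW.trans_le hI)
  exact ⟨hW, e1.symm.trans e2⟩

theorem card_yBig (S : Setting z p) (F : AutFacts) (hU : IsExp2 U) (hh : IsHexad U) :
    Nat.card ↥(yBig S U hU) = 128 := by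
  rw [yBig, card_up S, (wFix_facts S F hU hh).1]

theorem yBig_perp (S : Setting z p) (F : AutFacts) (hU : IsExp2 U) (hh : IsHexad U) :
    Q z ⊓ Subgroup.centralizer (yBig S U hU : Set G) = yBig S U hU := by
  rw [yBig, ← up_perp S, (wFix_facts S F hU hh).2]

theorem yBig_le (S : Setting z p) (hU : IsExp2 U) : yBig S U hU ≤ Q z := up_le _

theorem yBig_comm (S : Setting z p) (F : AutFacts) (hU : IsExp2 U) (hh : IsHexad U) {x y : G}
    (hx : x ∈ yBig S U hU) (hy : y ∈ yBig S U hU) : Commute x y := by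
  rw [← yBig_perp S F hU hh] at hy
  exact Subgroup.mem_centralizer_iff.mp hy.2 x hx

theorem yBig_conj (S : Setting z p) (hU : IsExp2 U) {g : G} (hg : g ∈ kc z p)
    (hn : ∀ u ∈ U, S.img g * u * (S.img g)⁻¹ ∈ U) {y : G} (hy : y ∈ yBig S U hU) :
    g * y * g⁻¹ ∈ yBig S U hU := by
  obtain ⟨hyQ, hyW⟩ := mem_up.mp hy
  refine mem_up.mpr ⟨S.conj_mem hg.1 hyQ, ?_⟩
  rw [← tau_mk hg.1 ⟨y, hyQ⟩]
  exact wFix_invariant S hU hg hn _ hyW

/-- A subgroup of `yBig` invariant under the normaliser with more than two elements is everything. -/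
theorem eq_yBig (S : Setting z p) (F : AutFacts) (hU : IsExp2 U) (hh : IsHexad U) {X : Subgroup G}
    (hX : X ≤ yBig S U hU) (hz : z ∈ X)
    (hinv : ∀ g ∈ kc z p, (∀ u ∈ U, S.img g * u * (S.img g)⁻¹ ∈ U) → ∀ x ∈ X, g * x * g⁻¹ ∈ X)
    {x : G} (hx : x ∈ X) (hx1 : x ≠ 1) (hxz : x ≠ z) : X = yBig S U hU := by
  obtain ⟨a, ha, b, hb, hb3, hab, han, hbn⟩ := exists_three S F hh
  have hXQ : X ≤ Q z := hX.trans (yBig_le S hU)
  have inv : ∀ g ∈ kc z p, (∀ u ∈ U, S.img g * u * (S.img g)⁻¹ ∈ U) →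
      ∀ v ∈ down z X, tau z g v ∈ down z X := by
    rintro g hg hn _ ⟨e, he, rfl⟩
    exact ⟨⟨g * e * g⁻¹, S.conj_mem hg.1 e.2⟩, hinv g hg hn _ he, (tau_mk hg.1 e).symm⟩
  have hne : mkV z ⟨x, hXQ hx⟩ ≠ 1 := fun h => by
    rcases (S.mem_center _).mp ((QuotientGroup.eq_one_iff _).mp h) with h' | h'
    · exact hx1 h'
    · exact hxz h'
  have h64 := sixty_four_of_invariant S ha hb hb3 hab _ (inv a ha han) (inv b hb hbn)
    (inv p (p_mem_kc S) (p_normalises S U)) (w := mkV z ⟨x, hXQ hx⟩) ⟨_, hx, rfl⟩ hne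
  refine Subgroup.eq_of_le_of_card_ge hX ?_
  rw [card_yBig S F hU hh, ← card_down S hXQ hz]
  omega

theorem z_mem_yBig (S : Setting z p) (hU : IsExp2 U) : z ∈ yBig S U hU := z_mem_up S _

theorem yBig_sq (S : Setting z p) (F : AutFacts) (hU : IsExp2 U) (hh : IsHexad U) :
    ∀ y ∈ yBig S U hU, y * y = 1 := by
  let X : Subgroup G :=
    { carrier := {y | y ∈ yBig S U hU ∧ y * y = 1}
      one_mem' := ⟨one_mem _, one_mul 1⟩
      mul_mem' := by
        rintro s t ⟨hs, hs2⟩ ⟨ht, ht2⟩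
        refine ⟨mul_mem hs ht, ?_⟩
        rw [(yBig_comm S F hU hh ht hs).mul_mul_mul_comm, hs2, ht2, one_mul]
      inv_mem' := by
        rintro s ⟨hs, hs2⟩
        exact ⟨inv_mem hs, by rw [← mul_inv_rev, hs2, inv_one]⟩ }
  have hXY : X ≤ yBig S U hU := fun _ h => h.1
  -- more than two elements square to one
  obtain ⟨x, hx, hx1, hxz⟩ : ∃ x ∈ X, x ≠ 1 ∧ x ≠ z := by
    by_contra h
    push Not at h
    let sq : ↥(yBig S U hU) →* G :=
      { toFun := fun y => (y : G) * y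
        map_one' := one_mul 1
        map_mul' := fun s t => by
          rw [Subgroup.coe_mul, (yBig_comm S F hU hh t.2 s.2).mul_mul_mul_comm] }
    have hr : Nat.card ↥sq.range ≤ 2 := by
      have hsub : (sq.range : Set G) ⊆ {1, z} := by
        rintro _ ⟨y, rfl⟩
        rcases S.es.sq_cases (yBig_le S hU y.2) with e | e
        · exact Or.inl e
        · exact Or.inr e
      rw [← SetLike.coe_sort_coe, Nat.card_coe_set_eq]
      exact (Set.ncard_le_ncard hsub).trans (Set.ncard_insert_le _ _ |>.trans (by simp))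
    have hk : Nat.card ↥sq.ker ≤ 2 := by
      have hsub : ((fun y : ↥(yBig S U hU) => (y : G)) '' (sq.ker : Set ↥(yBig S U hU))) ⊆ {1, z} := by
        rintro _ ⟨y, hy, rfl⟩
        by_cases h1 : (y : G) = 1
        · exact Or.inl h1
        · exact Or.inr (h y ⟨y.2, hy⟩ h1)
      rw [← SetLike.coe_sort_coe, Nat.card_coe_set_eq,
        ← Set.ncard_image_of_injective _ Subtype.val_injective]
      exact (Set.ncard_le_ncard hsub).trans (Set.ncard_insert_le _ _ |>.trans (by simp))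
    have hc := Subgroup.card_mul_index sq.ker
    rw [Subgroup.index_ker, card_yBig S F hU hh] at hc
    have := Nat.mul_le_mul hk hr
    omega
  have heq := eq_yBig S F hU hh hXY ⟨z_mem_yBig S hU, S.z_sq⟩ (fun g hg hn y hy =>
    ⟨yBig_conj S hU hg hn hy.1, by
      calc g * y * g⁻¹ * (g * y * g⁻¹) = g * (y * y) * g⁻¹ := by group
        _ = 1 := by rw [hy.2]; group⟩) hx hx1 hxz
  intro y hy
  rw [← heq] at hy
  exact hy.2

/-- The lifts centralise `yBig`. -/
theorem fSub_comm_yBig (S : Setting z p) (F : AutFacts) (hU : IsExp2 U) (hh : IsHexad U) :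
    ∀ y ∈ yBig S U hU, ∀ f ∈ fSub S U hU, Commute f y := by
  obtain ⟨hi, hc, -⟩ := id hh
  set Y := yBig S U hU with hY
  set Fs := fSub S U hU with hFs
  let X : Subgroup G := Y ⊓ Subgroup.centralizer (Fs : Set G)
  have hzF : z ∈ Subgroup.centralizer (Fs : Set G) :=
    Subgroup.mem_centralizer_iff.mpr fun f hf => (mem_cz.mp (fSub_le S hU hf)).eq
  -- the centraliser of a subgroup of the lifts is large
  have step : ∀ W : Subgroup G, W ≤ Fs → ∀ f ∈ Fs,
      Nat.card ↥(Y ⊓ Subgroup.centralizer (W : Set G)) ≤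
        2 * Nat.card ↥(Y ⊓ Subgroup.centralizer ((W ⊔ Subgroup.zpowers f : Subgroup G) : Set G)) := by
    intro W hW f hf
    set A := Y ⊓ Subgroup.centralizer (W : Set G) with hA
    set B := A ⊓ cz f with hB
    have hB' : B ≤ Y ⊓ Subgroup.centralizer ((W ⊔ Subgroup.zpowers f : Subgroup G) : Set G) := by
      intro y hy
      refine ⟨hy.1.1, ?_⟩
      have : W ⊔ Subgroup.zpowers f ≤ cz y := sup_le
        (fun w hw => mem_cz.mpr (Subgroup.mem_centralizer_iff.mp hy.1.2 w hw))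
        (Subgroup.zpowers_le.mpr (mem_cz.mpr (mem_cz.mp hy.2).symm))
      exact Subgroup.mem_centralizer_iff.mpr fun w hw => (mem_cz.mp (this hw)).eq
    refine le_trans ?_ (Nat.mul_le_mul_left 2 (Subgroup.card_le_of_le hB'))
    by_cases hall : A ≤ cz f
    · rw [show B = A from inf_eq_left.mpr hall]; omega
    obtain ⟨e, he, hec⟩ := SetLike.not_le_iff_exists.mp hall
    have moved : ∀ y ∈ A, y ∉ B → f * y * f⁻¹ = y * z := by
      intro y hy hyB
      obtain ⟨hyQ, hyW⟩ := mem_up.mp hy.1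
      have h1 := hyW f hf
      rw [tau_mk (fSub_le S hU hf), S.mk_eq_iff] at h1
      exact h1.resolve_left fun h => hyB ⟨hy, mem_cz.mpr (mul_inv_eq_iff_eq_mul.mp h).symm⟩
    have hidx : (B.subgroupOf A).index = 2 := by
      rw [Subgroup.index_eq_two_iff]
      refine ⟨⟨e, he⟩, fun b => ?_⟩
      simp only [Subgroup.mem_subgroupOf, Subgroup.coe_mul]
      have heB : e ∉ B := fun h => hec h.2
      by_cases hb : (b : G) ∈ B
      · exact Or.inr ⟨hb, fun hh' => heB ((Subgroup.mul_mem_cancel_left _ hb).mp hh')⟩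
      · refine Or.inl ⟨⟨mul_mem b.2 he, mem_cz.mpr ?_⟩, hb⟩
        refine (mul_inv_eq_iff_eq_mul.mp ?_).symm
        calc f * ((b : G) * e) * f⁻¹ = (f * b * f⁻¹) * (f * e * f⁻¹) := by group
          _ = (b : G) * (z * e) * z := by rw [moved _ b.2 hb, moved _ he heB]; group
          _ = (b : G) * e := by
            rw [← S.z_comm (yBig_le S hU he.1), mul_assoc, mul_assoc e, S.z_sq, mul_one]
    have h := Subgroup.card_mul_index (B.subgroupOf A)
    rw [hidx, Nat.card_congr (Subgroup.subgroupOfEquivOfLe (inf_le_left : B ≤ A)).toEquiv] at h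
    have hBB : Nat.card ↥B = Nat.card ↥(A ⊓ cz f) := rfl
    omega
  obtain ⟨W, ⟨hWF, hWc⟩, hmax⟩ := Set.Finite.exists_maximal
    (s := {W : Subgroup G | W ≤ Fs ∧
      Nat.card ↥Y ≤ Nat.card ↥(Y ⊓ Subgroup.centralizer (W : Set G)) * Nat.card ↥W})
    (Set.toFinite _) ⟨⊥, bot_le, by
      rw [Subgroup.card_bot, mul_one]
      refine Subgroup.card_le_of_le (le_inf le_rfl fun y _ => Subgroup.mem_centralizer_iff.mpr ?_)
      intro w hw
      rw [Subgroup.mem_bot.mp hw, one_mul, mul_one]⟩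
  have hWe : W = Fs := by
    refine le_antisymm hWF fun f hf => ?_
    by_contra hfW
    have hle : W ≤ W ⊔ Subgroup.zpowers f := le_sup_left
    have hfm : f ∈ W ⊔ Subgroup.zpowers f := Subgroup.mem_sup_right (Subgroup.mem_zpowers f)
    have hcard : 2 * Nat.card ↥W ≤ Nat.card ↥(W ⊔ Subgroup.zpowers f : Subgroup G) := by
      obtain ⟨d, hd⟩ := Subgroup.card_dvd_of_le hle
      rw [hd]
      rcases d with _ | _ | d
      · simp at hd
        exact absurd hd (Nat.pos_iff_ne_zero.mp Nat.card_pos)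
      · exact absurd (Subgroup.eq_of_le_of_card_ge hle (by omega) ▸ hfm) hfW
      · rw [mul_comm (Nat.card ↥W)]; exact Nat.mul_le_mul_right _ (by omega)
    have hmem : W ⊔ Subgroup.zpowers f ≤ Fs := sup_le hWF (Subgroup.zpowers_le.mpr hf)
    have := step W hWF f hf
    refine hfW (hmax (y := W ⊔ Subgroup.zpowers f) ⟨hmem, hWc.trans ?_⟩ hle hfm)
    calc Nat.card ↥(Y ⊓ Subgroup.centralizer (W : Set G)) * Nat.card ↥W
        ≤ 2 * Nat.card ↥(Y ⊓ Subgroup.centralizer ((W ⊔ Subgroup.zpowers f : Subgroup G) : Set G)) *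
            Nat.card ↥W := Nat.mul_le_mul_right _ this
      _ = Nat.card ↥(Y ⊓ Subgroup.centralizer ((W ⊔ Subgroup.zpowers f : Subgroup G) : Set G)) *
            (2 * Nat.card ↥W) := by ring
      _ ≤ _ := Nat.mul_le_mul_left _ hcard
  rw [hWe, hFs, card_fSub S F hU hi, hc, hY, card_yBig S F hU hh, ← hY, ← hFs] at hWc
  obtain ⟨x, hx, hx1, hxz⟩ : ∃ x ∈ X, x ≠ 1 ∧ x ≠ z := by
    by_contra h
    push Not at h
    have hsub : (X : Set G) ⊆ {1, z} := fun x hx => by
      by_cases h1 : x = 1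
      · exact Or.inl h1
      · exact Or.inr (h x hx h1)
    have := (Set.ncard_le_ncard hsub).trans (Set.ncard_insert_le _ _)
    rw [Set.ncard_singleton, ← Nat.card_coe_set_eq, SetLike.coe_sort_coe,
      show X = Y ⊓ Subgroup.centralizer (Fs : Set G) from rfl] at this
    omega
  have heq := eq_yBig S F hU hh (inf_le_left : X ≤ Y) ⟨z_mem_yBig S hU, hzF⟩
    (fun g hg hn y hy => ⟨yBig_conj S hU hg hn hy.1, Subgroup.mem_centralizer_iff.mpr fun f hf => by
      have h := Subgroup.mem_centralizer_iff.mp hy.2 _ (fSub_conj_inv S hU hg hn hf)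
      calc f * (g * y * g⁻¹) = g * (g⁻¹ * f * g * y) * g⁻¹ := by group
        _ = g * y * g⁻¹ * f := by rw [h]; group⟩) hx hx1 hxz
  intro y hy f hf
  have : y ∈ X := by
    show y ∈ Y ⊓ Subgroup.centralizer (Fs : Set G)
    rw [heq]; exact hy
  exact Subgroup.mem_centralizer_iff.mp this.2 f hf

theorem vBig_facts (S : Setting z p) (F : AutFacts) (hU : IsExp2 U) (hh : IsHexad U) :
    Nat.card ↥(vBig S U hU) = 2 ^ 11 ∧ (∀ v ∈ vBig S U hU, v * v = 1) ∧ vBig S U hU ≤ cz z := by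
  obtain ⟨hi, hc, -⟩ := id hh
  have hcomm := fSub_comm_yBig S F hU hh
  have hFY : ∀ v ∈ vBig S U hU, ∃ f ∈ fSub S U hU, ∃ y ∈ yBig S U hU, v = f * y := by
    intro v hv
    have hn : fSub S U hU ≤ Subgroup.centralizer (yBig S U hU : Set G) := fun f hf =>
      Subgroup.mem_centralizer_iff.mpr fun y hy => (hcomm y hy f hf).eq.symm
    have := Subgroup.coe_mul_of_left_le_normalizer_right (fSub S U hU) (yBig S U hU)
      (hn.trans (Subgroup.centralizer_le_normalizer _))
    have hv' : v ∈ (fSub S U hU : Set G) * (yBig S U hU : Set G) := by rw [← this]; exact hv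
    obtain ⟨f, hf, y, hy, rfl⟩ := Set.mem_mul.mp hv'
    exact ⟨f, hf, y, hy, rfl⟩
  refine ⟨?_, ?_, sup_le (fSub_le S hU) ((yBig_le S hU).trans (Q_le_cz z))⟩
  · let m : ↥(fSub S U hU) × ↥(yBig S U hU) → ↥(vBig S U hU) := fun x =>
      ⟨x.1 * x.2, mul_mem (Subgroup.mem_sup_left x.1.2) (Subgroup.mem_sup_right x.2.2)⟩
    have hsurj : Function.Surjective m := fun ⟨v, hv⟩ => by
      obtain ⟨f, hf, y, hy, rfl⟩ := hFY v hv
      exact ⟨(⟨f, hf⟩, ⟨y, hy⟩), rfl⟩
    have hfib : ∀ v, Nat.card {x // m x = v} = 2 := fun v => by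
      obtain ⟨⟨f, y⟩, rfl⟩ := hsurj v
      have hzF := z_mem_fSub S hU
      have hzY := z_mem_yBig S hU
      have hset : {x | m x = m (f, y)} = {(f, y), (f * ⟨z, hzF⟩, y * ⟨z, hzY⟩)} := by
        ext ⟨f', y'⟩
        simp only [Set.mem_ofPred_eq, Set.mem_insert_iff, Set.mem_singleton_iff, Prod.mk.injEq,
          Subtype.ext_iff, Subgroup.coe_mul, m]
        constructor
        · intro h
          have hd : (f : G)⁻¹ * f' = (y : G) * (y' : G)⁻¹ := by
            rw [eq_mul_inv_iff_mul_eq, mul_assoc, h, inv_mul_cancel_left]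
          have hQ : (f : G)⁻¹ * f' ∈ Q z := hd ▸ mul_mem (yBig_le S hU y.2) (inv_mem (yBig_le S hU y'.2))
          rcases fSub_Q S hU (mul_mem (inv_mem f.2) f'.2) hQ with e | e
          · left
            have ef := inv_mul_eq_one.mp e
            exact ⟨ef.symm, mul_left_cancel (h.trans (by rw [ef]))⟩
          · right
            have ef : (f' : G) = f * z := inv_mul_eq_iff_eq_mul.mp e
            refine ⟨ef, ?_⟩
            rw [ef, mul_assoc] at h
            have := mul_left_cancel h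
            rw [S.z_comm (yBig_le S hU y.2), ← this, ← mul_assoc, S.z_sq, one_mul]
        · rintro (⟨e1, e2⟩ | ⟨e1, e2⟩) <;> rw [e1, e2]
          rw [S.z_comm (yBig_le S hU y.2), mul_assoc, ← mul_assoc z, S.z_sq, one_mul]
      rw [← Set.coe_ofPred, Nat.card_coe_set_eq, hset, Set.ncard_pair]
      simp only [ne_eq, Prod.mk.injEq, Subtype.ext_iff, Subgroup.coe_mul, not_and]
      exact fun h _ => S.z_ne_one (by simpa using h.symm)
    have := Fintype.ofFinite ↥(vBig S U hU)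
    have := Fintype.ofFinite (↥(fSub S U hU) × ↥(yBig S U hU))
    have hsum : Nat.card (↥(fSub S U hU) × ↥(yBig S U hU)) = 2 * Nat.card ↥(vBig S U hU) := by
      rw [← Nat.card_congr (Equiv.sigmaFiberEquiv m), Nat.card_sigma]
      simp [hfib, Nat.card_eq_fintype_card, mul_comm]
    rw [Nat.card_prod, card_fSub S F hU hi, hc, card_yBig S F hU hh] at hsum
    omega
  · intro v hv
    obtain ⟨f, hf, y, hy, rfl⟩ := hFY v hv
    rw [(hcomm y hy f hf).symm.mul_mul_mul_comm, fSub_sq S F hU hi hc hf,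
      yBig_sq S F hU hh y hy, one_mul]

end

end Cfsg.Agent.Lib.J4Big
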