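import Cfsg.Agent.Lib.J4Big.Count
import Cfsg.Agent.Lib.J4Big.Cocode.Find
import Cfsg.Agent.Lib.J4Big.Cocode.Hom
import Cfsg.Agent.Lib.Golay.M24
import Cfsg.Agent.Lib.J4Local.AutModel

/-!
# The normaliser of the `2^11` modulo it is the group of the code
-/

set_option autoImplicit false
set_option linter.unusedSectionVars false
set_option linter.unusedVariables false

namespace Cfsg.Agent.Lib.J4Big

open Cfsg Cfsg.Agent.Lib.LargeExtraspecial.Basic Cfsg.Agent.Lib.J4Local Orbit Cocode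

variable {G : Type*} [Group G] [Finite G] {z p : G}
variable {T₀ Uh U0 : Subgroup AutM22}

theorem conj_mem_dV_iff (S : Setting z p) (F : AutFacts) (B : BigConfig T₀ Uh U0) {n a : G}
    (hn : n ∈ Subgroup.normalizer (vv S B : Set G)) (ha : a ∈ vv S B) :
    n * a * n⁻¹ ∈ dV S B ↔ a ∈ dV S B := by
  have hm := (Subgroup.mem_normalizer_iff.mp hn a).mp ha
  constructor
  · exact fun h => ⟨ha, fun e => h.2.1 (by rw [e]; group), fun e => h.2.2 (isConj_conj_iff.mpr e)⟩
  · exact fun h => ⟨hm, fun e => h.2.1 (conj_eq_one_iff.mp e),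
      fun e => h.2.2 (isConj_conj_iff.mp e)⟩

theorem preserves_vv (S : Setting z p) (F : AutFacts) (B : BigConfig T₀ Uh U0) :
    IsFrame.Preserves (Subgroup.normalizer (vv S B : Set G)) (vv S B) (dV S B) :=
  fun n hn => ⟨fun v hv => (Subgroup.mem_normalizer_iff.mp hn v).mp hv,
    fun d hd => (conj_mem_dV_iff S F B hn hd.1).mpr hd⟩

/-- The elements paired with a conjugate of `z` lie in a group of order 128. -/
theorem narrow_vv (S : Setting z p) (F : AutFacts) (B : NormConfig T₀ Uh U0)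
    (hE : ∃ e ∈ Q z, IsConj z e ∧ e ≠ z) {a : G} (ha : a ∈ vv S B.toBigConfig) (h1 : a ≠ 1)
    (hD : a ∉ dV S B.toBigConfig) : ∃ W : Subgroup G, Nat.card ↥W ≤ 128 ∧
      ∀ d ∈ dV S B.toBigConfig, d * a ∈ dV S B.toBigConfig → d ∈ W := by
  set B' := B.toBigConfig
  have hc : IsConj z a := by
    by_contra h
    exact hD ⟨ha, h1, h⟩
  obtain ⟨n, hn, rfl⟩ := fusion_vv S F B' (z_mem_vv S B') ha hc
  refine ⟨(yBig S Uh B.exp_Uh).map (MulAut.conj n).toMonoidHom, ?_, fun d hd hdz => ?_⟩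
  · rw [Subgroup.card_map_of_injective (MulAut.conj n).injective, ← SetLike.coe_sort_coe,
      Nat.card_coe_set_eq, card_yBig_set S F B']
  · have hd' : n⁻¹ * d * n⁻¹⁻¹ ∈ dV S B' := (conj_mem_dV_iff S F B' (inv_mem hn) hd.1).mpr hd
    have hdz' := (conj_mem_dV_iff S F B' (inv_mem hn) hdz.1).mpr hdz
    rw [show n⁻¹ * (d * (n * z * n⁻¹)) * n⁻¹⁻¹ = n⁻¹ * d * n⁻¹⁻¹ * z by group] at hdz'
    exact ⟨_, mem_yBig_of_mul_z S F B hE hd' hdz', by simp [mul_assoc]⟩

theorem frame_conj {V : Subgroup G} {D : Set G} {ψ : ℕ → G} (H : IsFrame V D ψ) {n : G}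
    (hV : ∀ v, n * v * n⁻¹ ∈ V ↔ v ∈ V) (hD : ∀ v ∈ V, (n * v * n⁻¹ ∈ D ↔ v ∈ D)) :
    IsFrame V D fun a => n * ψ a * n⁻¹ where
  mem a := (hV _).mpr (H.mem a)
  sq := H.sq
  mul a b ha hb := by simp only [H.mul a b ha hb]; group
  inj a b ha hb h := H.inj a b ha hb (mul_left_cancel (mul_right_cancel h))
  surj v hv := by
    obtain ⟨a, ha, h⟩ := H.surj (n⁻¹ * v * n) ((hV _).mp (by simpa [mul_assoc] using hv))
    exact ⟨a, ha, by simp only [h]; group⟩
  mem_D a ha := (hD _ (H.mem a)).trans (H.mem_D a ha)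
  sub_D := H.sub_D

/-- Coordinates with a given element of the 276 as the first basis vector. -/
theorem exists_frame_vv (S : Setting z p) (F : AutFacts) (B : NormConfig T₀ Uh U0)
    (hE : ∃ e ∈ Q z, IsConj z e ∧ e ≠ z) {t : G} (ht : t ∈ dV S B.toBigConfig) :
    ∃ ψ, IsFrame (vv S B.toBigConfig) (dV S B.toBigConfig) ψ ∧ ψ 1 = t := by
  set B' := B.toBigConfig
  obtain ⟨hc, h2, -⟩ := vv_facts S F B'
  obtain ⟨g, y, v, P⟩ := exists_pair23 (V := vv S B') (D := dV S B') h2 hc (centralizer_vv S F B)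
    (card_normalizer S F B hE) (fun n hn a ha => conj_mem_dV_iff S F B' hn ha) (fun d hd => hd.1)
    (fun h => h.2.1 rfl) (card_dV S F B hE) (fun a ha h1 hD => narrow_vv S F B hE ha h1 hD)
  obtain ⟨ψ, H, h1⟩ := P.exists_frame
  obtain ⟨n, hn, hnv⟩ := trans_dV S F B hE P.v_D ht
  exact ⟨_, frame_conj H (fun v => (Subgroup.mem_normalizer_iff.mp hn v).symm)
    (fun v hv => conj_mem_dV_iff S F B' hn hv), by simp only [h1]; exact hnv⟩

theorem dV_nonempty (S : Setting z p) (F : AutFacts) (B : NormConfig T₀ Uh U0)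
    (hE : ∃ e ∈ Q z, IsConj z e ∧ e ≠ z) : ∃ t, t ∈ dV S B.toBigConfig :=
  Set.nonempty_of_ncard_ne_zero (by rw [card_dV S F B hE]; norm_num)

/-- The action on the points. -/
noncomputable def phiM24 (S : Setting z p) (F : AutFacts) (B : BigConfig T₀ Uh U0) {ψ : ℕ → G}
    (H : IsFrame (vv S B) (dV S B) ψ) :
    ↥(Subgroup.normalizer (vv S B : Set G)) →* ↥Cfsg.M24 :=
  H.toM24 (preserves_vv S F B)

theorem phiM24_rel (S : Setting z p) (F : AutFacts) (B : BigConfig T₀ Uh U0) {ψ : ℕ → G}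
    (H : IsFrame (vv S B) (dV S B) ψ) (n : ↥(Subgroup.normalizer (vv S B : Set G))) :
    Rel ψ (n : G) (phiM24 S F B H n : Equiv.Perm GolayPt) :=
  H.toM24_rel _ n

theorem phiM24_ker (S : Setting z p) (F : AutFacts) (B : NormConfig T₀ Uh U0) {ψ : ℕ → G}
    (H : IsFrame (vv S B.toBigConfig) (dV S B.toBigConfig) ψ) :
    (phiM24 S F B.toBigConfig H).ker =
      (vv S B.toBigConfig).subgroupOf (Subgroup.normalizer (vv S B.toBigConfig : Set G)) := by
  rw [phiM24, H.ker_toM24, centralizer_vv S F B]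

theorem phiM24_surjective (S : Setting z p) (F : AutFacts) (B : NormConfig T₀ Uh U0)
    (hE : ∃ e ∈ Q z, IsConj z e ∧ e ≠ z) {ψ : ℕ → G}
    (H : IsFrame (vv S B.toBigConfig) (dV S B.toBigConfig) ψ) :
    Function.Surjective (phiM24 S F B.toBigConfig H) := by
  set f := phiM24 S F B.toBigConfig H
  have h := Subgroup.card_mul_index f.ker
  rw [Subgroup.index_ker, phiM24_ker S F B H,
    Nat.card_congr (Subgroup.subgroupOfEquivOfLe Subgroup.le_normalizer).toEquiv,
    (vv_facts S F B.toBigConfig).1, card_normalizer S F B hE] at h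
  rw [← MonoidHom.range_eq_top]
  refine Subgroup.eq_top_of_le_card _ ?_
  rw [Nat.eq_of_mul_eq_mul_left (by norm_num) h]
  exact le_of_eq Cfsg.Agent.Lib.Golay.card_M24

/-- The elements fixing the first basis vector are those fixing the duad. -/
theorem commute_one_iff (S : Setting z p) (F : AutFacts) (B : BigConfig T₀ Uh U0) {ψ : ℕ → G}
    (H : IsFrame (vv S B) (dV S B) ψ) (n : ↥(Subgroup.normalizer (vv S B : Set G))) :
    Commute (n : G) (ψ 1) ↔
      (phiM24 S F B H n : Equiv.Perm GolayPt) ∈ J4Local.AutModel.big := by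
  have hr := phiM24_rel S F B H n
  have hσ : (phiM24 S F B H n : Equiv.Perm GolayPt) ∈ Cfsg.M24 := (phiM24 S F B H n).2
  set σ := (phiM24 S F B H n : Equiv.Perm GolayPt)
  have h1 : Pt ψ none * Pt ψ (some 0) = ψ 1 := by
    rw [H.pt_none, one_mul]; rfl
  have hne : (none : GolayPt) ≠ some 0 := (Option.some_ne_none _).symm
  rw [J4Local.AutModel.mem_big, and_iff_right hσ]
  constructor
  · intro h
    have h' := hr none (some 0)
    rw [h1, mul_inv_eq_iff_eq_mul.mpr h.eq, ← h1] at h'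
    rcases H.pair_unique hne (σ.injective.ne hne) h' with ⟨a, b⟩ | ⟨a, b⟩
    · exact Or.inl ⟨a.symm, b.symm⟩
    · exact Or.inr ⟨b.symm, a.symm⟩
  · intro h
    have h' := hr none (some 0)
    have e : Pt ψ (σ none) * Pt ψ (σ (some 0)) = ψ 1 := by
      rcases h with ⟨a, b⟩ | ⟨a, b⟩ <;> rw [a, b]
      · exact h1
      · rw [H.comm (H.pt_mem _) (H.pt_mem _), h1]
    rw [h1, e] at h'
    exact mul_inv_eq_iff_eq_mul.mp h'

end Cfsg.Agent.Lib.J4Big
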