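import Cfsg.Agent.Lib.J4Big.Vec

/-!
# Lifts from `Aut M22` into the centralizer of `p`
-/

set_option autoImplicit false
set_option linter.unusedSectionVars false
set_option linter.unusedVariables false

namespace Cfsg.Agent.Lib.J4Big

open Cfsg.Agent.Lib.LargeExtraspecial.Basic Cfsg.Agent.Lib.J4Local

variable {G : Type*} [Group G]

/-- The centralizer of `p` in `C(z)`. -/
abbrev kc (z p : G) : Subgroup G := cz z ⊓ cz p

section
variable [Finite G] {z p : G}

theorem kc_le_inner (S : Setting z p) : kc z p ≤ inner z p := fun h hh => by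
  refine ⟨mem_cz.mp hh.1, ?_⟩
  rw [(mem_cz.mp hh.2).eq, mul_inv_cancel_right, mul_inv_cancel]
  exact one_mem _

theorem kc_le_cz : kc z p ≤ cz z := inf_le_left

theorem z_mem_kc (S : Setting z p) : z ∈ kc z p :=
  ⟨mem_cz.mpr (Commute.refl z), mem_cz.mpr S.p_z.symm⟩

theorem p_mem_kc (S : Setting z p) : p ∈ kc z p := ⟨S.p_mem_cz, mem_cz.mpr (Commute.refl p)⟩

theorem inn_of_kc (S : Setting z p) (F : AutFacts) {h : G} (hh : h ∈ kc z p) : S.img h ∈ inn :=
  (S.img_mem_inn F (kc_le_cz hh)).mpr (kc_le_inner S hh)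

/-- Every inner automorphism has a lift centralising `p`. -/
theorem exists_lift (S : Setting z p) (F : AutFacts) {a : AutM22} (ha : a ∈ inn) :
    ∃ h ∈ kc z p, S.img h = a := by
  obtain ⟨h, hh, rfl⟩ := S.img_surj a
  have hi : h ∈ inner z p := (S.img_mem_inn F hh).mp ha
  set e := h * p * h⁻¹ * p⁻¹ with he
  let g : Vec z → Vec z := fun v => v * tau z p v
  have hg : Function.Injective g := by
    intro v w hvw
    let := vecCG S
    have : tau z p (v * w) = v * w := by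
      rw [map_mul]
      have h1 : v * tau z p v = w * tau z p w := hvw
      calc tau z p v * tau z p w = (v * tau z p v) * (w * tau z p w) * (v * w) := by
            calc _ = (v * v) * (w * w) * (tau z p v * tau z p w) := by rw [S.vec_sq, S.vec_sq, one_mul, one_mul]
              _ = _ := by ac_rfl
        _ = v * w := by rw [h1, S.vec_sq, one_mul]
    have h2 := tau_p_fix S _ this
    rw [← mul_right_cancel_iff (a := w), h2, S.vec_sq]
  obtain ⟨v, hv⟩ := (Finite.injective_iff_surjective.mp hg) (mkV z ⟨e, hi.2⟩)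
  induction v using QuotientGroup.induction_on with
  | H q =>
    have hv' : mkV z q * mkV z ⟨p * q * p⁻¹, S.conj_mem S.p_mem_cz q.2⟩ = mkV z ⟨e, hi.2⟩ := by
      rw [← tau_mk S.p_mem_cz]; exact hv
    rw [← QuotientGroup.mk_mul, S.mk_eq_iff] at hv'
    have hq2 : ModZ z ((q : G) * p * (q : G)⁻¹ * p⁻¹) e := by
      -- replace `q` by its inverse, equal to `q` modulo `z`
      have h1 : ModZ z ((q : G) * p * (q : G)⁻¹ * p⁻¹) ((q : G) * (p * q * p⁻¹)) := by
        rcases S.es.sq_cases q.2 with hq | hq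
        · left
          rw [inv_eq_of_mul_eq_one_right hq]; group
        · right
          have hqi : (q : G)⁻¹ = q * z := inv_eq_of_mul_eq_one_right (by
            rw [← mul_assoc, hq, S.z_sq])
          rw [hqi]
          calc (q : G) * p * (q * z) * p⁻¹ = q * (p * q * p⁻¹) * (p * z * p⁻¹) := by group
            _ = _ := by rw [S.p_z.eq, mul_inv_cancel_right]
      rcases hv' with h2 | h2 <;> simp only [Subgroup.coe_mul] at h2 <;> rcases h1 with h1 | h1
      · exact Or.inl (h1.trans h2)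
      · exact Or.inr (by rw [h1, h2])
      · exact Or.inr (h1.trans h2)
      · left; rw [h1, h2, mul_assoc, S.z_sq, mul_one]
    set h' := (q : G)⁻¹ * h with hh'
    have h'c : h' ∈ cz z := mul_mem (inv_mem (Q_le_cz z q.2)) hh
    have hzp : Commute z p := S.p_z.symm
    have hqp : h' * p * h'⁻¹ = p ∨ h' * p * h'⁻¹ = p * z := by
      have e1 : h' * p * h'⁻¹ = (q : G)⁻¹ * (e * p) * q := by rw [hh', he]; group
      rcases hq2 with h2 | h2
      · left
        rw [e1, ← h2]; group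
      · right
        rw [e1]
        have h3 : e = (q : G) * p * (q : G)⁻¹ * p⁻¹ * z := by
          rw [h2, mul_assoc, S.z_sq, mul_one]
        have hzq : Commute z (q : G) := (S.z_comm q.2).symm
        rw [h3]
        calc (q : G)⁻¹ * ((q : G) * p * (q : G)⁻¹ * p⁻¹ * z * p) * q
            = p * (q : G)⁻¹ * (p⁻¹ * (z * p)) * q := by group
          _ = p * ((q : G)⁻¹ * (z * q)) := by rw [hzp.eq]; group
          _ = p * z := by rw [hzq.eq]; group
    have hcomm : h' * p * h'⁻¹ = p := by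
      rcases hqp with h2 | h2
      · exact h2
      · exfalso
        have h3 : (h' * p * h'⁻¹) ^ 3 = 1 := by rw [conj_pow, S.p_cube]; group
        rw [h2, (S.p_z).mul_pow, S.p_cube, one_mul, pow_succ, sq, S.z_sq, one_mul] at h3
        exact S.z_ne_one h3
    refine ⟨h', ⟨h'c, mem_cz.mpr (mul_inv_eq_iff_eq_mul.mp hcomm)⟩, ?_⟩
    rw [hh', S.img_mul (inv_mem (Q_le_cz z q.2)) hh, S.img_inv (Q_le_cz z q.2), S.img_Q q.2,
      inv_one, one_mul]

/-- An element of `O₂` centralising `p`. -/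
theorem eq_of_kc_Q (S : Setting z p) {e : G} (he : e ∈ Q z) (hk : e ∈ kc z p) : e = 1 ∨ e = z :=
  S.fix e he (mem_cz.mp hk.2)

/-- The kernel inside `kc`. -/
theorem kc_ker (S : Setting z p) {h : G} (hh : h ∈ kc z p) (h1 : S.img h = 1) :
    ∃ i : ℤ, h = p ^ i ∨ h = z * p ^ i := by
  obtain ⟨e, he, i, rfl⟩ := (S.img_eq_one (kc_le_cz hh)).mp h1
  have hek : e ∈ kc z p := by
    have := mul_mem hh (inv_mem (zpow_mem (p_mem_kc S) i))
    rwa [mul_inv_cancel_right] at this
  rcases eq_of_kc_Q S he hek with rfl | rfl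
  · exact ⟨i, Or.inl (one_mul _)⟩
  · exact ⟨i, Or.inr rfl⟩

theorem zpow_p_sq (S : Setting z p) {i : ℤ} (h : p ^ i * p ^ i ∈ Q z) : p ^ i = 1 := by
  rw [← zpow_add] at h
  have h1 := S.zpow_mem_Q h
  have h3 : p ^ (3 * i) = 1 := by
    rw [zpow_mul, show (3 : ℤ) = ((3 : ℕ) : ℤ) from rfl, zpow_natCast, S.p_cube, one_zpow]
  calc p ^ i = p ^ (3 * i) * (p ^ (i + i))⁻¹ := by rw [← zpow_neg, ← zpow_add]; ring_nf
    _ = 1 := by rw [h1, h3, inv_one, mul_one]

/-- The kernel inside `kc`, for elements squaring into `O₂`. -/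
theorem kc_ker_sq (S : Setting z p) {h : G} (hh : h ∈ kc z p) (h1 : S.img h = 1)
    (h2 : h * h ∈ Q z) : h = 1 ∨ h = z := by
  obtain ⟨i, rfl | rfl⟩ := kc_ker S hh h1
  · exact Or.inl (zpow_p_sq S h2)
  · refine Or.inr ?_
    have hzc : Commute z (p ^ i) := S.p_z.symm.zpow_right i
    rw [hzc.symm.mul_mul_mul_comm, S.z_sq, one_mul] at h2
    rw [zpow_p_sq S h2, mul_one]

/-- The 2-part of the preimage in `kc` of an elementary abelian subgroup of `Aut M22`. -/
def fSub (S : Setting z p) (U : Subgroup AutM22) (hU : IsExp2 U) : Subgroup G where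
  carrier := {f | f ∈ kc z p ∧ S.img f ∈ U ∧ f * f ∈ Q z}
  one_mem' := ⟨one_mem _, by rw [S.img_Q (one_mem (Q z))]; exact one_mem U, by simp⟩
  mul_mem' := by
    rintro f g ⟨hf, hfU, hf2⟩ ⟨hg, hgU, hg2⟩
    refine ⟨mul_mem hf hg, by rw [S.img_mul (kc_le_cz hf) (kc_le_cz hg)]; exact mul_mem hfU hgU, ?_⟩
    have zc : ∀ x, x ∈ Q z → x ∈ kc z p → ∀ y ∈ kc z p, x * y = y * x := by
      intro x hx hxk y hy
      rcases eq_of_kc_Q S hx hxk with rfl | rfl
      · simp
      · exact (mem_cz.mp hy.1).eq.symm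
    have hcomm : S.img f * S.img g = S.img g * S.img f := by
      have a := hU _ hfU
      have b := hU _ hgU
      have c := hU _ (mul_mem hfU hgU)
      rw [← inv_eq_of_mul_eq_one_right c, mul_inv_rev, inv_eq_of_mul_eq_one_right a,
        inv_eq_of_mul_eq_one_right b]
    obtain ⟨c, hc⟩ : ∃ c, c = f * g * f⁻¹ * g⁻¹ := ⟨_, rfl⟩
    have hck : c ∈ kc z p := hc ▸ mul_mem (mul_mem (mul_mem hf hg) (inv_mem hf)) (inv_mem hg)
    have hc1 : S.img c = 1 := by
      rw [hc, S.img_mul (kc_le_cz (mul_mem (mul_mem hf hg) (inv_mem hf)))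
        (inv_mem (kc_le_cz hg)), S.img_mul (kc_le_cz (mul_mem hf hg)) (inv_mem (kc_le_cz hf)),
        S.img_mul (kc_le_cz hf) (kc_le_cz hg), S.img_inv (kc_le_cz hf), S.img_inv (kc_le_cz hg),
        hcomm]
      group
    have hcc : ∀ y ∈ kc z p, c * y = y * c := by
      intro y hy
      obtain ⟨i, hi | hi⟩ := kc_ker S hck hc1 <;> rw [hi]
      · exact ((mem_cz.mp hy.2).symm.zpow_left i).eq
      · exact ((mem_cz.mp hy.1).symm.mul_left ((mem_cz.mp hy.2).symm.zpow_left i)).eq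
    have hfgf : f * g * f⁻¹ = c * g := by rw [hc]; group
    have hc2 : c * c = 1 := by
      have h1 : f * f * g * (f * f)⁻¹ = g := by
        rw [zc _ hf2 (mul_mem hf hf) g hg, mul_inv_cancel_right]
      have h2 : f * f * g * (f * f)⁻¹ = c * c * g := by
        calc f * f * g * (f * f)⁻¹ = f * (f * g * f⁻¹) * f⁻¹ := by group
          _ = (f * c) * g * f⁻¹ := by rw [hfgf]; group
          _ = c * (f * g * f⁻¹) := by rw [← hcc f hf]; group
          _ = _ := by rw [hfgf, mul_assoc]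
      exact mul_right_cancel (h2.symm.trans (h1.trans (one_mul g).symm))
    have hcQ : c = 1 ∨ c = z := kc_ker_sq S hck hc1 (by rw [hc2]; exact one_mem _)
    have e1 : f * g * (f * g) = c * (g * (f * f) * g) := by
      calc f * g * (f * g) = (f * g * f⁻¹) * ((f * f) * g) := by group
        _ = _ := by rw [hfgf]; simp only [mul_assoc]
    rw [e1, ← zc _ hf2 (mul_mem hf hf) g hg, mul_assoc (f * f)]
    refine mul_mem ?_ (mul_mem hf2 hg2)
    rcases hcQ with h | h <;> rw [h]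
    · exact one_mem _
    · exact S.es.mem
  inv_mem' := by
    rintro f ⟨hf, hfU, hf2⟩
    refine ⟨inv_mem hf, by rw [S.img_inv (kc_le_cz hf)]; exact inv_mem hfU, ?_⟩
    rw [← mul_inv_rev]; exact inv_mem hf2

variable {U : Subgroup AutM22}

theorem mem_fSub (S : Setting z p) {hU : IsExp2 U} {f : G} :
    f ∈ fSub S U hU ↔ f ∈ kc z p ∧ S.img f ∈ U ∧ f * f ∈ Q z := Iff.rfl

theorem z_mem_fSub (S : Setting z p) (hU : IsExp2 U) : z ∈ fSub S U hU :=
  ⟨z_mem_kc S, by rw [S.img_Q S.es.mem]; exact one_mem U, by rw [S.z_sq]; exact one_mem _⟩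

theorem fSub_surj (S : Setting z p) (F : AutFacts) (hU : IsExp2 U) (hi : U ≤ inn) {a : AutM22}
    (ha : a ∈ U) : ∃ f ∈ fSub S U hU, S.img f = a := by
  obtain ⟨h, hh, rfl⟩ := exists_lift S F (hi ha)
  have h3 : S.img (h ^ 3) = S.img h := by
    rw [S.img_pow (kc_le_cz hh), pow_succ, sq, hU _ ha, one_mul]
  refine ⟨h ^ 3, ⟨pow_mem hh 3, h3.symm ▸ ha, ?_⟩, h3⟩
  have h2 : S.img (h * h) = 1 := by
    rw [S.img_mul (kc_le_cz hh) (kc_le_cz hh), hU _ ha]
  rw [← sq, ← pow_mul, show 3 * 2 = 2 * 3 by norm_num, pow_mul, sq]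
  obtain ⟨i, hi2 | hi2⟩ := kc_ker S (mul_mem hh hh) h2 <;> rw [hi2]
  · rw [← zpow_natCast, ← zpow_mul, mul_comm, zpow_mul, zpow_natCast, S.p_cube, one_zpow]
    exact one_mem _
  · rw [(S.p_z.symm.zpow_right i).mul_pow, ← zpow_natCast (p ^ i), ← zpow_mul,
      mul_comm i, zpow_mul, zpow_natCast, S.p_cube, one_zpow, mul_one, pow_succ, sq, S.z_sq, one_mul]
    exact S.es.mem

theorem fSub_eq (S : Setting z p) (hU : IsExp2 U) {f g : G} (hf : f ∈ fSub S U hU)
    (hg : g ∈ fSub S U hU) (he : S.img f = S.img g) : g = f ∨ g = f * z := by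
  have hm := mul_mem (inv_mem hf) hg
  have h1 : S.img (f⁻¹ * g) = 1 := by
    rw [S.img_mul (inv_mem (kc_le_cz hf.1)) (kc_le_cz hg.1), S.img_inv (kc_le_cz hf.1), he,
      inv_mul_cancel]
  rcases kc_ker_sq S hm.1 h1 hm.2.2 with h | h
  · exact Or.inl (inv_mul_eq_one.mp h).symm
  · exact Or.inr (inv_mul_eq_iff_eq_mul.mp h)

theorem fSub_le (S : Setting z p) (hU : IsExp2 U) : fSub S U hU ≤ cz z := fun f hf => kc_le_cz hf.1

theorem fSub_Q (S : Setting z p) (hU : IsExp2 U) {f : G} (hf : f ∈ fSub S U hU) (hQ : f ∈ Q z) :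
    f = 1 ∨ f = z := eq_of_kc_Q S hQ hf.1

theorem card_fSub (S : Setting z p) (F : AutFacts) (hU : IsExp2 U) (hi : U ≤ inn) :
    Nat.card ↥(fSub S U hU) = 2 * Nat.card ↥U := by
  let m : ↥(fSub S U hU) →* ↥U :=
    { toFun := fun f => ⟨S.img f, f.2.2.1⟩
      map_one' := Subtype.ext (S.img_Q (one_mem (Q z)))
      map_mul' := fun a b => Subtype.ext (S.img_mul (fSub_le S hU a.2) (fSub_le S hU b.2)) }
  have hm : Function.Surjective m := fun a => by
    obtain ⟨f, hf, he⟩ := fSub_surj S F hU hi a.2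
    exact ⟨⟨f, hf⟩, Subtype.ext he⟩
  have hk : (m.ker : Set ↥(fSub S U hU)) = {1, ⟨z, z_mem_fSub S hU⟩} := by
    ext f
    simp only [SetLike.mem_coe, MonoidHom.mem_ker, Set.mem_insert_iff, Set.mem_singleton_iff]
    constructor
    · intro h
      rcases kc_ker_sq S f.2.1 (congrArg Subtype.val h) f.2.2.2 with h' | h'
      · exact Or.inl (Subtype.ext h')
      · exact Or.inr (Subtype.ext h')
    · rintro (rfl | rfl)
      · exact map_one m
      · exact Subtype.ext (S.img_Q S.es.mem)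
  have h := Subgroup.card_mul_index m.ker
  rw [Subgroup.index_ker, MonoidHom.range_eq_top.mpr hm, Subgroup.card_top,
    ← SetLike.coe_sort_coe, Nat.card_coe_set_eq, hk,
    Set.ncard_pair fun h => S.z_ne_one (congrArg Subtype.val h).symm] at h
  exact h.symm

/-- With an elementary abelian subgroup of order 16, the lifts are involutions. -/
theorem fSub_sq (S : Setting z p) (F : AutFacts) (hU : IsExp2 U) (hi : U ≤ inn)
    (hc : Nat.card ↥U = 16) {f : G} (hf : f ∈ fSub S U hU) : f * f = 1 := by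
  classical
  have sq : ∀ g ∈ fSub S U hU, g * g = 1 ∨ g * g = z := fun g hg =>
    eq_of_kc_Q S hg.2.2 (mul_mem hg.1 hg.1)
  refine (sq f hf).resolve_right fun hbad => ?_
  have hne : ∀ g, g * g = z → g ≠ 1 ∧ g ≠ z := fun g hg => by
    refine ⟨?_, ?_⟩ <;> rintro rfl
    · exact S.z_ne_one (by rw [← hg, one_mul])
    · exact S.z_ne_one (hg.symm.trans S.z_sq)
  have hord : ∀ g ∈ fSub S U hU, g ≠ 1 → g ≠ z → orderOf (S.img g) = 2 := fun g hg a b => by
    refine orderOf_eq_prime (by rw [pow_two]; exact hU _ hg.2.1) fun h => ?_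
    rcases kc_ker_sq S hg.1 h hg.2.2 with h' | h'
    · exact a h'
    · exact b h'
  have all : ∀ g ∈ fSub S U hU, g ≠ 1 → g ≠ z → g * g = z := by
    intro g hg a b
    obtain ⟨c, hc, hcc⟩ := F.conj_involution _ (hi hf.2.1) _ (hi hg.2.1)
      (hord f hf (hne f hbad).1 (hne f hbad).2) (hord g hg a b)
    obtain ⟨d, hd, rfl⟩ := exists_lift S F hc
    have hzd : d * z * d⁻¹ = z := by rw [(mem_cz.mp hd.1).eq, mul_inv_cancel_right]
    have hsq : d * f * d⁻¹ * (d * f * d⁻¹) = z := by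
      calc d * f * d⁻¹ * (d * f * d⁻¹) = d * (f * f) * d⁻¹ := by group
        _ = z := by rw [hbad, hzd]
    have hmem : d * f * d⁻¹ ∈ fSub S U hU := by
      refine ⟨mul_mem (mul_mem hd hf.1) (inv_mem hd), ?_, by rw [hsq]; exact S.es.mem⟩
      rw [S.img_mul (mul_mem hd.1 hf.1.1) (inv_mem hd.1), S.img_mul hd.1 hf.1.1,
        S.img_inv hd.1, hcc]
      exact hg.2.1
    have himg : S.img (d * f * d⁻¹) = S.img g := by
      rw [S.img_mul (mul_mem hd.1 hf.1.1) (inv_mem hd.1), S.img_mul hd.1 hf.1.1,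
        S.img_inv hd.1, hcc]
    rcases fSub_eq S hU hmem hg himg with h | h
    · rw [h, hsq]
    · have hzc : Commute z (d * f * d⁻¹) := (mem_cz.mp (kc_le_cz hmem.1)).symm
      rw [h]
      calc d * f * d⁻¹ * z * (d * f * d⁻¹ * z)
          = d * f * d⁻¹ * (z * (d * f * d⁻¹)) * z := by group
        _ = d * f * d⁻¹ * (d * f * d⁻¹) * (z * z) := by rw [hzc.eq]; group
        _ = z := by rw [hsq, S.z_sq, mul_one]
  have inv : ∀ a ∈ fSub S U hU, ∀ b ∈ fSub S U hU, a ≠ 1 → a ≠ z → a * b ≠ 1 → a * b ≠ z →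
      a * b * a⁻¹ = b⁻¹ := by
    intro a ha b hb a1 az ab1 abz
    have h2 := all a ha a1 az
    have h3 := all _ (mul_mem ha hb) ab1 abz
    have hzb : Commute z b := (mem_cz.mp (fSub_le S hU hb)).symm
    have hai : a⁻¹ = a * z := inv_eq_of_mul_eq_one_right (by rw [← mul_assoc, h2, S.z_sq])
    calc a * b * a⁻¹ = a * b * (a * z) := by rw [hai]
      _ = (a * b * (a * b)) * b⁻¹ * z := by group
      _ = z * b⁻¹ * z := by rw [h3]
      _ = b⁻¹ := by rw [hzb.inv_right.eq, mul_assoc, S.z_sq, mul_one]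
  -- pick three independent elements
  have hcard : (fSub S U hU : Set G).ncard = 32 := by
    rw [← Nat.card_coe_set_eq]
    exact (card_fSub S F hU hi).trans (by rw [hc])
  have pick : ∀ T : Finset G, T.card < 32 → ∃ g ∈ fSub S U hU, g ∉ T := fun T hT => by
    by_contra h
    push Not at h
    have := Set.ncard_le_ncard (s := (fSub S U hU : Set G)) (fun x hx => h x hx) T.finite_toSet
    rw [hcard, Set.ncard_coe_finset] at this
    omega
  obtain ⟨g, hg, hgn⟩ := pick {1, z, f⁻¹, f⁻¹ * z} (lt_of_le_of_lt Finset.card_le_four (by norm_num))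
  simp only [Finset.mem_insert, Finset.mem_singleton, not_or] at hgn
  obtain ⟨g1, gz, gf, gfz⟩ := hgn
  obtain ⟨k, hk, hkn⟩ :=
    pick [1, z, g⁻¹, g⁻¹ * z, f⁻¹, f⁻¹ * z, f⁻¹ * g⁻¹, f⁻¹ * g⁻¹ * z].toFinset
      (lt_of_le_of_lt (List.toFinset_card_le _) (by norm_num))
  simp only [List.mem_toFinset, List.mem_cons, List.not_mem_nil, or_false, not_or] at hkn
  obtain ⟨k1, kz, kg, kgz, kf, kfz, kfg, kfgz⟩ := hkn
  have ne1 : ∀ a b : G, b ≠ a⁻¹ → a * b ≠ 1 := fun a b h e => h (eq_inv_of_mul_eq_one_right e)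
  have nez : ∀ a b : G, b ≠ a⁻¹ * z → a * b ≠ z := fun a b h e => h (eq_inv_mul_of_mul_eq e)
  have i1 := inv f hf g hg (hne f hbad).1 (hne f hbad).2 (ne1 _ _ gf) (nez _ _ gfz)
  have hzg : Commute z g := (mem_cz.mp (fSub_le S hU hg)).symm
  have hgi : g⁻¹ = g * z := inv_eq_of_mul_eq_one_right (by rw [← mul_assoc, all g hg g1 gz, S.z_sq])
  have i2 : k * g * k⁻¹ = g⁻¹ := by
    refine inv k hk g hg k1 kz (fun h => kg ?_) (fun h => kgz ?_)
    · exact eq_inv_of_mul_eq_one_left h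
    · rw [← hzg.inv_right.eq]; exact eq_mul_inv_of_mul_eq h
  have hfk1 : f * k ≠ 1 := ne1 _ _ kf
  have hfkz : f * k ≠ z := nez _ _ kfz
  have i3 : f * k * g * (f * k)⁻¹ = g⁻¹ := by
    refine inv (f * k) (mul_mem hf hk) g hg hfk1 hfkz (fun h => kfg ?_) (fun h => kfgz ?_)
    · calc k = f⁻¹ * (f * k * g) * g⁻¹ := by group
        _ = _ := by rw [h]; group
    · calc k = f⁻¹ * (f * k * g) * g⁻¹ := by group
        _ = f⁻¹ * (z * g⁻¹) := by rw [h]; group
        _ = _ := by rw [hzg.inv_right.eq, ← mul_assoc]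
  have h4 : f * k * g * (f * k)⁻¹ = g := by
    calc f * k * g * (f * k)⁻¹ = f * (k * g * k⁻¹) * f⁻¹ := by group
      _ = (f * g * f⁻¹)⁻¹ := by rw [i2]; group
      _ = g := by rw [i1, inv_inv]
  have h5 : g * g = 1 := by
    exact mul_eq_one_iff_eq_inv.mpr (h4.symm.trans i3)
  exact S.z_ne_one ((all g hg g1 gz).symm.trans h5)

end

end Cfsg.Agent.Lib.J4Big
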