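import Cfsg.Agent.Lib.J4Big.Normal
import Cfsg.Agent.Lib.J4Local.ZeroC

/-!
# The conjugates of `z` in `O₂(C(z))`: one line for each duad-type subgroup
-/

set_option autoImplicit false
set_option linter.unusedSectionVars false
set_option linter.unusedVariables false

namespace Cfsg.Agent.Lib.J4Big

open Cfsg.Agent.Lib.LargeExtraspecial.Basic Cfsg.Agent.Lib.J4Local
open scoped Pointwise

variable {G : Type*} [Group G] [Finite G] {z p : G}
variable {T₀ Uh U0 : Subgroup AutM22}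

/-- The subgroup of inner automorphisms attached to a conjugate of `z` in `O₂(C(z))`. -/
noncomputable def uE (S : Setting z p) (e : G) : Subgroup AutM22 := S.imgS (cQ e z) ⊓ inn

theorem isExp2_map {U : Subgroup AutM22} (hU : IsExp2 U) (g : AutM22) :
    IsExp2 (U.map (MulAut.conj g).toMonoidHom) := by
  rintro _ ⟨a, ha, rfl⟩
  rw [← map_mul, hU a ha, map_one]

theorem card_map_conj (U : Subgroup AutM22) (g : AutM22) :
    Nat.card ↥(U.map (MulAut.conj g).toMonoidHom) = Nat.card ↥U :=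
  Subgroup.card_map_of_injective (MulAut.conj g).injective

theorem map_conj_le_inn (F : AutFacts) {U : Subgroup AutM22} (hU : U ≤ inn) (g : AutM22) :
    U.map (MulAut.conj g).toMonoidHom ≤ inn := by
  rintro _ ⟨a, ha, rfl⟩
  exact F.inn_normal.conj_mem a (hU ha) g

theorem map_conj_conj (U : Subgroup AutM22) (g h : AutM22) :
    (U.map (MulAut.conj g).toMonoidHom).map (MulAut.conj h).toMonoidHom =
      U.map (MulAut.conj (h * g)).toMonoidHom := by
  rw [Subgroup.map_map]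
  congr 1

theorem map_conj_one (U : Subgroup AutM22) : U.map (MulAut.conj (1 : AutM22)).toMonoidHom = U := by
  conv_rhs => rw [← Subgroup.map_id U]
  congr 1

/-- Elementary abelian inner subgroups of order 16 are of hexad or duad type. -/
theorem e16_cases (F : AutFacts) (B : BigConfig T₀ Uh U0) {U : Subgroup AutM22} (hU : IsExp2 U)
    (hi : U ≤ inn) (hc : Nat.card ↥U = 16) :
    ∃ g : AutM22, U = Uh.map (MulAut.conj g).toMonoidHom ∨ U = U0.map (MulAut.conj g).toMonoidHom := by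
  have := Fact.mk Nat.prime_two
  have hp : IsPGroup 2 ↥U := IsPGroup.of_card (n := 4) (hc.trans (by norm_num))
  obtain ⟨T₃, hT₃⟩ := hp.exists_le_sylow
  let Ts : Sylow 2 AutM22 := Sylow.ofCard T₀ (by
    have hsplit : (887040 : ℕ) = 2 ^ 8 * 3465 := by norm_num
    rw [B.card_T, F.card_aut, hsplit, Nat.factorization_mul (by norm_num) (by norm_num),
      Finsupp.add_apply, Nat.Prime.factorization_pow Nat.prime_two,
      Nat.factorization_eq_zero_of_not_dvd (by norm_num : ¬ 2 ∣ 3465)]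
    norm_num)
  obtain ⟨g, hg⟩ := MulAction.exists_smul_eq AutM22 Ts T₃
  have hT3 : (T₃ : Subgroup AutM22) = T₀.map (MulAut.conj g).toMonoidHom := by rw [← hg]; rfl
  set U' := U.map (MulAut.conj g⁻¹).toMonoidHom with hU'
  have hle : U' ≤ T₀ ⊓ inn := by
    refine le_inf ?_ (map_conj_le_inn F hi g⁻¹)
    rintro _ ⟨a, ha, rfl⟩
    obtain ⟨t, ht, rfl⟩ := (hT3 ▸ hT₃) ha
    simpa [mul_assoc] using ht
  have hback : U = U'.map (MulAut.conj g).toMonoidHom := by
    rw [hU', map_conj_conj, mul_inv_cancel, map_conj_one]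
  refine ⟨g, ?_⟩
  rcases B.only_two U' hle (isExp2_map hU _) (by rw [hU', card_map_conj, hc]) with h | h
  · exact Or.inl (by rw [hback, h])
  · exact Or.inr (by rw [hback, h])

/-- An element of `O₂(C(e))` centralising `z` with involutory image squares into `O₂(C(z))`. -/
theorem sq_mem_Q (S : Setting z p) {e q : G} (T : Setting e q) {v : G} (hv : v ∈ cQ e z)
    (h : S.img v * S.img v = 1) : v * v ∈ Q z := by
  obtain ⟨hve, hvz⟩ := mem_cQ.mp hv
  have hvc : v ∈ cz z := mem_cz.mpr hvz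
  refine S.mem_Q_of_img_one (mul_mem hvc hvc) (by rw [S.img_mul hvc hvc, h]) (k := 13) ?_
  rw [← pow_two, ← pow_mul, mul_comm, pow_mul, T.pow_Q hve, one_pow]

theorem uE_facts (S : Setting z p) (F : AutFacts) (B : NormConfig T₀ Uh U0) {e q : G}
    (T : Setting e q) (he : e ∈ Q z) (hne : e ≠ z) :
    IsExp2 (uE S e) ∧ Nat.card ↥(uE S e) = 16 ∧
      ∃ g : AutM22, uE S e = U0.map (MulAut.conj g).toMonoidHom := by
  have hzE := S.mem_swap F T he hne
  have hexp := T.img_pair_exp F S hzE hne.symm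
  have h32 := T.card_img_pair F S hzE hne.symm
  have hcard : Nat.card ↥(uE S e) = 16 := F.exp2_inn _ hexp h32
  have hexp' : IsExp2 (uE S e) := fun a ha => hexp a ha.1
  refine ⟨hexp', hcard, ?_⟩
  obtain ⟨g, hg | hg⟩ := e16_cases F B.toBigConfig hexp' inf_le_right hcard
  · exfalso
    obtain ⟨σ, hσ, hσo⟩ := S.exists_outer_pair F T he hne
    have hσc : σ ∈ cz z := mem_cz.mpr (mem_cQ.mp hσ).2
    have hcq : cQ e z ≤ cz z := fun x hx => mem_cz.mpr (mem_cQ.mp hx).2
    have hmem : S.img σ ∈ S.imgS (cQ e z) := (S.mem_imgS hcq).mpr ⟨σ, hσ, rfl⟩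
    have hcomm : ∀ a ∈ uE S e, a * S.img σ = S.img σ * a := fun a ha => by
      have h1 := hexp _ (mul_mem ha.1 hmem)
      rw [← inv_eq_of_mul_eq_one_right h1, mul_inv_rev,
        inv_eq_of_mul_eq_one_right (hexp _ ha.1), inv_eq_of_mul_eq_one_right (hexp _ hmem)]
    have hin : g⁻¹ * S.img σ * g ∈ Subgroup.centralizer (Uh : Set AutM22) := by
      refine Subgroup.mem_centralizer_iff.mpr fun u hu => ?_
      have hu' : g * u * g⁻¹ ∈ uE S e := by rw [hg]; exact ⟨u, hu, rfl⟩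
      have h1 := hcomm _ hu'
      calc u * (g⁻¹ * S.img σ * g) = g⁻¹ * (g * u * g⁻¹ * S.img σ) * g := by group
        _ = g⁻¹ * S.img σ * g * u := by rw [h1]; group
    rw [B.cent_Uh] at hin
    have h2 := F.inn_normal.conj_mem _ ((B.le_Uh hin).2) g
    rw [show g * (g⁻¹ * S.img σ * g) * g⁻¹ = S.img σ by group] at h2
    exact hσo ((S.img_mem_inn F hσc).mp h2)
  · exact ⟨g, hg⟩

theorem uE_conj (S : Setting z p) (F : AutFacts) {h e : G} (hh : h ∈ cz z) :
    uE S (h * e * h⁻¹) = (uE S e).map (MulAut.conj (S.img h)).toMonoidHom := by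
  have hcq : ∀ x, cQ x z ≤ cz z := fun x y hy => mem_cz.mpr (mem_cQ.mp hy).2
  have key : ∀ (h e : G), h ∈ cz z →
      (uE S e).map (MulAut.conj (S.img h)).toMonoidHom ≤ uE S (h * e * h⁻¹) := by
    intro h e hh
    rintro _ ⟨a, ⟨ha, hai⟩, rfl⟩
    refine ⟨?_, F.inn_normal.conj_mem a hai _⟩
    obtain ⟨x, hx, rfl⟩ := (S.mem_imgS (hcq e)).mp ha
    obtain ⟨hxe, hxz⟩ := mem_cQ.mp hx
    refine (S.mem_imgS (hcq _)).mpr ⟨h * x * h⁻¹, mem_cQ.mpr ⟨isQ.mem_conj h hxe,
      ((mem_cz.mp hh).mul_left hxz).mul_left (mem_cz.mp hh).inv_left⟩, ?_⟩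
    rw [S.img_mul (mul_mem hh (hcq e hx)) (inv_mem hh), S.img_mul hh (hcq e hx), S.img_inv hh]
    rfl
  refine le_antisymm ?_ (key h e hh)
  intro a ha
  have h2 := key h⁻¹ (h * e * h⁻¹) (inv_mem hh) ⟨a, ha, rfl⟩
  rw [show h⁻¹ * (h * e * h⁻¹) * h⁻¹⁻¹ = e by group, S.img_inv hh] at h2
  exact ⟨_, h2, by simp [mul_assoc]⟩

theorem mk_mem_uE (S : Setting z p) (F : AutFacts) (B : NormConfig T₀ Uh U0) {e q : G}
    (T : Setting e q) (he : e ∈ Q z) (hne : e ≠ z) (hU : IsExp2 (uE S e)) :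
    mkV z ⟨e, he⟩ ∈ wFix S (uE S e) hU := by
  intro f hf
  obtain ⟨-, hc, -⟩ := uE_facts S F B T he hne
  have hcq : cQ e z ≤ cz z := fun x hx => mem_cz.mpr (mem_cQ.mp hx).2
  obtain ⟨v, hv, hvf⟩ := (S.mem_imgS hcq).mp hf.2.1.1
  obtain ⟨hve, -⟩ := mem_cQ.mp hv
  have hsq : v * v ∈ Q z := sq_mem_Q S T hv (by rw [hvf]; exact hU _ hf.2.1)
  have h := tau_eq_lift S F hU inf_le_right hc (hcq hv) hf hvf (tau_sq_of_sq S (hcq hv) hsq)
  rw [← h, tau_mk (hcq hv), S.mk_eq_iff]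
  exact Or.inl (mul_inv_eq_iff_eq_mul.mpr (isQ.commute hve).eq)

theorem wFix_congr (S : Setting z p) {U V : Subgroup AutM22} (hU : IsExp2 U) (hV : IsExp2 V)
    (h : U = V) : wFix S U hU = wFix S V hV := by subst h; rfl

theorem wFix_map (S : Setting z p) (F : AutFacts) {U : Subgroup AutM22} (hU : IsExp2 U)
    (hi : U ≤ inn) (hc : Nat.card ↥U = 16) {h : G} (hh : h ∈ cz z)
    (hU' : IsExp2 (U.map (MulAut.conj (S.img h)).toMonoidHom)) {v : Vec z}
    (hv : v ∈ wFix S U hU) :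
    tau z h v ∈ wFix S (U.map (MulAut.conj (S.img h)).toMonoidHom) hU' := by
  intro f' hf'
  have hfc := fSub_le S hU' hf'
  have ha : h⁻¹ * f' * h ∈ cz z := mul_mem (mul_mem (inv_mem hh) hfc) hh
  have himg : S.img (h⁻¹ * f' * h) ∈ U := by
    obtain ⟨u, hu, hue⟩ := hf'.2.1
    have hu' : S.img h * u * (S.img h)⁻¹ = S.img f' := hue
    rw [S.img_mul (mul_mem (inv_mem hh) hfc) hh, S.img_mul (inv_mem hh) hfc, S.img_inv hh, ← hu']
    simpa [mul_assoc] using hu
  obtain ⟨f, hf, hfe⟩ := fSub_surj S F hU hi himg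
  have hsq : (h⁻¹ * f' * h) * (h⁻¹ * f' * h) ∈ Q z := by
    rw [show (h⁻¹ * f' * h) * (h⁻¹ * f' * h) = h⁻¹ * (f' * f') * h by group]
    exact S.conj_mem' hh hf'.2.2
  have heq := tau_eq_lift S F hU hi hc ha hf hfe.symm (tau_sq_of_sq S ha hsq)
  have h1 : tau z (h⁻¹ * f' * h) v = v := by rw [heq, hv f hf]
  rw [← tau_mul hfc hh, show f' * h = h * (h⁻¹ * f' * h) by group, tau_mul hh ha, h1]

theorem wFix_map_eq (S : Setting z p) (F : AutFacts) {U : Subgroup AutM22} (hU : IsExp2 U)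
    (hi : U ≤ inn) (hc : Nat.card ↥U = 16) {h : G} (hh : h ∈ cz z)
    (hU' : IsExp2 (U.map (MulAut.conj (S.img h)).toMonoidHom)) :
    (wFix S U hU).map (tau z h) = wFix S (U.map (MulAut.conj (S.img h)).toMonoidHom) hU' := by
  refine le_antisymm ?_ fun v hv => ?_
  · rintro _ ⟨v, hv, rfl⟩
    exact wFix_map S F hU hi hc hh hU' hv
  · have hback : (U.map (MulAut.conj (S.img h)).toMonoidHom).map
        (MulAut.conj (S.img h⁻¹)).toMonoidHom = U := by
      rw [map_conj_conj, S.img_inv hh, inv_mul_cancel, map_conj_one]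
    have h1 := wFix_map S F hU' (map_conj_le_inn F hi _) (by rw [card_map_conj, hc]) (inv_mem hh)
      (hback.symm ▸ hU) hv
    rw [wFix_congr S (hback.symm ▸ hU) hU hback] at h1
    exact ⟨_, h1, by rw [← tau_mul hh (inv_mem hh), mul_inv_cancel, tau_one]⟩

/-- The reference line. -/
theorem card_wFix_uE (S : Setting z p) (F : AutFacts) (B : NormConfig T₀ Uh U0) {e q : G}
    (T : Setting e q) (he : e ∈ Q z) (hne : e ≠ z) (hU : IsExp2 (uE S e)) :
    Nat.card ↥(wFix S (uE S e) hU) = 4 := by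
  have := Fact.mk Nat.prime_two
  obtain ⟨-, hc, g, hg⟩ := uE_facts S F B T he hne
  have hd : IsDuad (uE S e) := by rw [hg]; exact isDuad_conj F B.five g
  obtain ⟨x, hx, hxQ, hx5, hfix, hle, hfix16⟩ := wFix_fixed S F hU inf_le_right hd
  set C := wFix S (uE S e) hU with hC
  have hmem := mk_mem_uE S F B T he hne hU
  have hne1 : mkV z ⟨e, he⟩ ≠ 1 := fun h => by
    rcases (S.mem_center _).mp ((QuotientGroup.eq_one_iff _).mp h) with h' | h'
    · exact T.z_ne_one h'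
    · exact hne h'
  let := vecCG S
  have h4 : 4 ≤ Nat.card ↥C := Bound.four_le S.vec_sq (tau z p) (tau_p_rel S) (tau_p_fix S)
    (wFix_invariant S hU (p_mem_kc S) (p_normalises S _)) hmem hne1
  obtain ⟨k, hk, hkc⟩ := S.odd_exponent (up_le C) (z_mem_up S C) fun y hy => by
    obtain ⟨hyQ, hyC⟩ := mem_up.mp hy
    refine mem_up.mpr ⟨S.conj_mem S.p_mem_cz hyQ, ?_⟩
    rw [← tau_mk S.p_mem_cz ⟨y, hyQ⟩]
    exact wFix_invariant S hU (p_mem_kc S) (p_normalises S _) _ hyC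
  rw [card_up S] at hkc
  have hk' : k ≤ 5 := (Nat.pow_le_pow_iff_right (by norm_num : 1 < 2)).mp (by omega)
  have hk'' : 3 ≤ k := (Nat.pow_le_pow_iff_right (by norm_num : 1 < 2)).mp (by omega)
  rcases (show k = 3 ∨ k = 5 by omega) with rfl | rfl
  · omega
  exfalso
  -- then `C` is the whole fixed space of `x`
  have h16 : Nat.card ↥C = 16 := by omega
  have hle' : up z C ≤ ySub z x := fun y hy => by
    obtain ⟨hyQ, hyC⟩ := mem_up.mp hy
    exact (mem_ySub_iff S hx.1 ⟨y, hyQ⟩).mpr (hfix _ hyC)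
  have hyS : Nat.card ↥(ySub z x) ≤ 32 := by
    have h := card_up S (fixV z {x})
    refine le_trans (Subgroup.card_le_of_le fun y hy => ?_) (h.le.trans (by omega))
    refine mem_up.mpr ⟨hy.1, fun g hg => ?_⟩
    rw [Set.mem_singleton_iff.mp hg]
    exact (mem_ySub_iff S hx.1 ⟨y, hy.1⟩).mp hy
  have hYC : up z C = ySub z x := Subgroup.eq_of_le_of_card_ge hle' (by rw [card_up S, h16]; exact hyS)
  obtain ⟨v, hv, hvQ⟩ : ∃ v ∈ xSub z p e, v ∉ Q z := by
    by_contra hcon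
    push Not at hcon
    have hx2 : S.imgS (xSub z p e) = uE S e := S.imgS_xSub F
    have : uE S e = ⊥ := by
      rw [← hx2, Subgroup.eq_bot_iff_forall]
      intro a ha
      obtain ⟨w, hw, rfl⟩ := (S.mem_imgS Setting.xSub_le_cz).mp ha
      exact S.img_Q (hcon w hw)
    rw [this, Subgroup.card_bot] at hc
    norm_num at hc
  have hvc : v ∈ cz z := Setting.xSub_le_cz hv
  have hvU : S.img v ∈ uE S e :=
    (congrArg (S.img v ∈ ·) (S.imgS_xSub F (e := e))).mp
      ((S.mem_imgS Setting.xSub_le_cz).mpr ⟨v, hv, rfl⟩)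
  obtain ⟨f, hf, hfe⟩ := fSub_surj S F hU inf_le_right hvU
  have hsq : v * v ∈ Q z := sq_mem_Q S T hv.1 (hU _ hvU)
  have heq := tau_eq_lift S F hU inf_le_right hc hvc hf hfe.symm (tau_sq_of_sq S hvc hsq)
  have hCy : ySub z x ≤ ySub z v := fun y hy => by
    rw [← hYC] at hy
    obtain ⟨hyQ, hyC⟩ := mem_up.mp hy
    exact (mem_ySub_iff S hvc ⟨y, hyQ⟩).mpr (by rw [heq]; exact hyC f hf)
  have heA : e ∈ aSub z v := S.line_le_aSub F T he hne hv hvQ (e_mem_line z p e)
  have heA' : e ∈ aSub z x := by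
    have hperp : Q z ⊓ Subgroup.centralizer (ySub z x : Set G) = aSub z x := by
      refine (Subgroup.eq_of_le_of_card_ge (le_inf (S.aSub_le hx.1) fun a ha =>
        Subgroup.mem_centralizer_iff.mpr fun y hy =>
          (Setting.commute_aSub_ySub ha hy).eq.symm) ?_).symm
      have a1 : Nat.card ↥(Q z ⊓ Subgroup.centralizer (ySub z x : Set G)) * Nat.card ↥(ySub z x) =
          2 * 2 ^ 13 := by
        rw [← S.card_E]
        exact ESCount.card_perp S.es (inf_le_left : ySub z x ≤ Q z)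
          (show z ∈ ySub z x from hle' (z_mem_up S C))
      have a2 := S.card_aSub_ySub hx.1
      refine le_of_eq (Nat.eq_of_mul_eq_mul_right (Nat.card_pos (α := ↥(ySub z x))) ?_)
      linarith
    rw [← hperp]
    exact ⟨he, Subgroup.mem_centralizer_iff.mpr fun y hy =>
      (Setting.commute_aSub_ySub heA (hCy hy)).eq.symm⟩
  have hey : mkV z ⟨e, he⟩ ∈ C := hmem
  obtain ⟨e', he', hm⟩ := (S.mem_aSub hx.1).mp heA'
  have hd1 : mkV z ⟨e, he⟩ = tau z x (mkV z ⟨e', he'⟩) * mkV z ⟨e', he'⟩ := by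
    rw [← mk_comm S hx.1]
    exact (S.mk_eq_iff ⟨e, he⟩ ⟨_, S.comm_mem hx.1 he'⟩).mpr hm
  set w := mkV z ⟨e', he'⟩ with hw
  have hfx := hfix _ hey
  rw [hd1, map_mul] at hfx
  have h2 : tau z x (tau z x w) = w := by
    calc tau z x (tau z x w) = tau z x (tau z x w) * tau z x w * tau z x w := by
          rw [mul_assoc, S.vec_sq, mul_one]
      _ = tau z x w * w * tau z x w := by rw [hfx]
      _ = w := by rw [mul_right_comm, S.vec_sq, one_mul]
  have h5 : tau z x (tau z x (tau z x (tau z x (tau z x w)))) = w := by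
    rw [← tau_mul hx.1 hx.1, ← tau_mul (mul_mem hx.1 hx.1) hx.1,
      ← tau_mul (mul_mem (mul_mem hx.1 hx.1) hx.1) hx.1,
      ← tau_mul (mul_mem (mul_mem (mul_mem hx.1 hx.1) hx.1) hx.1) hx.1,
      show x * x * x * x * x = 1 by
        rw [← hx5]; simp only [pow_succ, pow_zero, one_mul], tau_one]
  rw [h2, h2] at h5
  rw [h5, S.vec_sq] at hd1
  exact hne1 hd1

/-- Every duad-type subgroup fixes exactly one line, made of conjugates of `z`. -/
theorem line_of_duad (S : Setting z p) (F : AutFacts) (B : NormConfig T₀ Uh U0)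
    (hE : ∃ e ∈ Q z, IsConj z e ∧ e ≠ z) {U' : Subgroup AutM22} (hU : IsExp2 U')
    (hg : ∃ g : AutM22, U' = U0.map (MulAut.conj g).toMonoidHom) :
    Nat.card ↥(wFix S U' hU) = 4 ∧
      ∀ e (he : e ∈ Q z), e ≠ 1 → e ≠ z → mkV z ⟨e, he⟩ ∈ wFix S U' hU →
        IsConj z e ∧ uE S e = U' := by
  obtain ⟨e₁, he₁, hze₁, hne₁⟩ := hE
  obtain ⟨r, T⟩ := S.exists_setting hze₁
  obtain ⟨hU₁, hc₁, g₁, hg₁⟩ := uE_facts S F B T he₁ hne₁
  obtain ⟨g, hg⟩ := hg
  obtain ⟨h, hh, hhe⟩ := S.img_surj (g * g₁⁻¹)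
  have hU'e : U' = (uE S e₁).map (MulAut.conj (S.img h)).toMonoidHom := by
    rw [hhe, hg₁, map_conj_conj, inv_mul_cancel_right, hg]
  have hU₁i : uE S e₁ ≤ inn := inf_le_right
  have hmap := wFix_map_eq S F hU₁ hU₁i hc₁ hh (hU'e ▸ hU)
  rw [← wFix_congr S hU (hU'e ▸ hU) hU'e] at hmap
  have h4 := card_wFix_uE S F B T he₁ hne₁ hU₁
  refine ⟨by rw [← hmap, Subgroup.card_map_of_injective (tau_injective hh), h4], ?_⟩
  intro e he h1 hz hmem
  rw [← hmap] at hmem
  obtain ⟨w, hw, hwe⟩ := hmem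
  -- the reference line
  let := vecCG S
  set v := mkV z ⟨e₁, he₁⟩ with hv
  have hne1 : v ≠ 1 := fun h' => by
    rcases (S.mem_center _).mp ((QuotientGroup.eq_one_iff _).mp h') with h'' | h''
    · exact T.z_ne_one h''
    · exact hne₁ h''
  have hI := wFix_invariant S hU₁ (p_mem_kc S) (p_normalises S _)
  have hvm := mk_mem_uE S F B T he₁ hne₁ hU₁
  have hset : ({1, v, tau z p v, tau z p (tau z p v)} : Set (Vec z)) =
      (wFix S (uE S e₁) hU₁ : Set (Vec z)) := by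
    refine Set.eq_of_subset_of_ncard_le ?_ ?_ (Set.toFinite _)
    · rintro x (rfl | rfl | rfl | rfl)
      exacts [one_mem _, hvm, hI _ hvm, hI _ (hI _ hvm)]
    · rw [← Nat.card_coe_set_eq (wFix S (uE S e₁) hU₁ : Set (Vec z)), SetLike.coe_sort_coe, h4]
      have n1 : tau z p v ≠ v := fun h' => hne1 (tau_p_fix S v h')
      have n2 : tau z p (tau z p v) ≠ tau z p v := fun h' =>
        n1 (tau_injective S.p_mem_cz h')
      have n3 : tau z p (tau z p v) ≠ v := fun h' => by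
        have h3 := tau_p3 S v
        rw [h'] at h3
        exact n1 h3
      have n4 : tau z p v ≠ 1 := fun h' => hne1 (tau_injective S.p_mem_cz (h'.trans (map_one _).symm))
      have n5 : tau z p (tau z p v) ≠ 1 := fun h' =>
        n4 (tau_injective S.p_mem_cz (h'.trans (map_one _).symm))
      rw [Set.ncard_insert_of_notMem (by simp [Ne.symm hne1, Ne.symm n4, Ne.symm n5]),
        Set.ncard_insert_of_notMem (by simp [Ne.symm n1, Ne.symm n3]),
        Set.ncard_pair n2.symm]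
  have hw' : ∃ k ∈ cz z, S.img k = 1 ∧ tau z k v = w := by
    have hwm : w ∈ ({1, v, tau z p v, tau z p (tau z p v)} : Set (Vec z)) := hset ▸ hw
    rcases hwm with rfl | rfl | rfl | rfl
    · exfalso
      rw [map_one] at hwe
      rcases (S.mem_center _).mp ((QuotientGroup.eq_one_iff _).mp hwe.symm) with h' | h'
      · exact h1 h'
      · exact hz h'
    · exact ⟨1, one_mem _, S.img_Q (one_mem _), tau_one v⟩
    · exact ⟨p, S.p_mem_cz, S.img_p, rfl⟩
    · exact ⟨p * p, mul_mem S.p_mem_cz S.p_mem_cz, by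
        rw [S.img_mul S.p_mem_cz S.p_mem_cz, S.img_p, one_mul],
        tau_mul S.p_mem_cz S.p_mem_cz v⟩
  obtain ⟨k, hk, hk1, hkw⟩ := hw'
  have hhk : h * k ∈ cz z := mul_mem hh hk
  rw [← hkw, ← tau_mul hh hk, hv, tau_mk hhk, S.mk_eq_iff] at hwe
  have hconj : IsConj z (h * k * e₁ * (h * k)⁻¹) := hze₁.trans (isConj_iff.mpr ⟨_, rfl⟩)
  have hU'' : uE S (h * k * e₁ * (h * k)⁻¹) = U' := by
    rw [uE_conj S F hhk, S.img_mul hh hk, hk1, mul_one, ← hU'e]
  rcases hwe with h' | h'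
  · have h'' : h * k * e₁ * (h * k)⁻¹ = e := h'
    rw [← h'']; exact ⟨hconj, hU''⟩
  · have h'' : h * k * e₁ * (h * k)⁻¹ = e * z := h'
    obtain ⟨q, hq, hqe⟩ := S.es.exists_conj_ne he h1 hz
    have hqz : q * (e * z) * q⁻¹ = e := by
      have hqe' : q * e * q⁻¹ = e * z := hqe
      calc q * (e * z) * q⁻¹ = (q * e * q⁻¹) * (q * z * q⁻¹) := by group
        _ = e := by
          rw [hqe', S.z_comm hq, mul_inv_cancel_right, mul_assoc, S.z_sq, mul_one]
    rw [← h''] at hqz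
    rw [← hqz]
    refine ⟨hconj.trans (isConj_iff.mpr ⟨q, rfl⟩), ?_⟩
    rw [uE_conj S F (Q_le_cz z hq), S.img_Q hq, map_conj_one, hU'']

end Cfsg.Agent.Lib.J4Big
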