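import Cfsg.Agent.Lib.J4Big.Facts
import Cfsg.Agent.Lib.J4Big.Duad

/-!
# A Sylow 2-subgroup contains exactly one elementary abelian subgroup of order `2^11`
-/

set_option autoImplicit false
set_option linter.unusedSectionVars false
set_option linter.unusedVariables false

namespace Cfsg.Agent.Lib.J4Big

open Cfsg.Agent.Lib.LargeExtraspecial.Basic Cfsg.Agent.Lib.J4Local
open scoped Pointwise

variable {G : Type*} [Group G] [Finite G] {z p : G}

theorem comm_of_sq {A : Subgroup G} (hA : ∀ a ∈ A, a * a = 1) {a b : G} (ha : a ∈ A) (hb : b ∈ A) :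
    a * b = b * a := by
  rw [← inv_eq_of_mul_eq_one_right (hA _ (mul_mem ha hb)), mul_inv_rev,
    inv_eq_of_mul_eq_one_right (hA a ha), inv_eq_of_mul_eq_one_right (hA b hb)]

theorem card_abelian_le (S : Setting z p) {X : Subgroup G} (hX : X ≤ Q z) (hz : z ∈ X)
    (hc : ∀ a ∈ X, ∀ b ∈ X, a * b = b * a) : Nat.card ↥X ≤ 2 ^ 7 := by
  have h := ESCount.card_perp S.es hX hz
  rw [S.card_E] at h
  have hle := Subgroup.card_le_of_le (le_inf hX fun a ha =>
    Subgroup.mem_centralizer_iff.mpr fun b hb => hc b hb a ha :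
      X ≤ Q z ⊓ Subgroup.centralizer (X : Set G))
  by_contra hgt
  push Not at hgt
  have := Nat.mul_le_mul (hgt.trans_le hle) hgt
  rw [h] at this
  norm_num at this

theorem inn_index (F : AutFacts) : inn.index = 2 := by
  have h := Subgroup.card_mul_index inn
  rw [F.card_inn, F.card_aut] at h
  omega

theorem card_le_two_mul (F : AutFacts) (U : Subgroup AutM22) :
    Nat.card ↥U ≤ 2 * Nat.card ↥(U ⊓ inn) := by
  have h1 : Nat.card ↥(U ⊓ inn) * (U ⊓ inn).relIndex U = Nat.card ↥U := by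
    rw [← Subgroup.relIndex_bot_left, ← Subgroup.relIndex_bot_left]
    exact Subgroup.relIndex_mul_relIndex _ _ _ bot_le inf_le_left
  rw [Subgroup.inf_relIndex_left] at h1
  have h2 : inn.relIndex U ≤ 2 := by
    rw [← inn_index F, ← Subgroup.relIndex_top_right]
    exact Subgroup.relIndex_le_of_le_right le_top Subgroup.index_ne_zero_of_finite
  rw [← h1, mul_comm]
  exact Nat.mul_le_mul_right _ h2

theorem isPGroup_of_sq {A : Subgroup G} (hA : ∀ a ∈ A, a * a = 1) : IsPGroup 2 ↥A := fun a =>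
  ⟨1, Subtype.ext (by simpa [pow_two] using hA a a.2)⟩

theorem isExp2_imgS (S : Setting z p) {A : Subgroup G} (hA : A ≤ cz z) (h2 : ∀ a ∈ A, a * a = 1) :
    IsExp2 (S.imgS A) := fun u hu => by
  obtain ⟨a, ha, rfl⟩ := (S.mem_imgS hA).mp hu
  rw [← S.img_mul (hA ha) (hA ha), h2 a ha, S.img_Q (one_mem (Q z))]

/-- An elementary subgroup with an outer element and a large part in `O₂` has small inner image. -/
theorem inner_small (S : Setting z p) (F : AutFacts) {A : Subgroup G} (hA : A ≤ cz z)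
    (h2 : ∀ a ∈ A, a * a = 1) (hz : z ∈ A) (h64 : 64 ≤ Nat.card ↥(A ⊓ Q z)) {σ : G}
    (hσ : σ ∈ A) (hσo : σ ∉ inner z p) :
    Nat.card ↥(S.imgS A ⊓ inn) ≤ 4 ∧
      (128 ≤ Nat.card ↥(A ⊓ Q z) → Nat.card ↥(S.imgS A ⊓ inn) = 1) := by
  let := vecCG S
  set M' := down z (A ⊓ Q z) with hM'
  have hMc : 2 * Nat.card ↥M' = Nat.card ↥(A ⊓ Q z) := card_down S inf_le_right ⟨hz, S.es.mem⟩
  have hfixM : ∀ a ∈ A, ∀ v ∈ M', tau z a v = v := by
    rintro a ha _ ⟨e, he, rfl⟩
    have he' : (e : G) ∈ A := he.1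
    show tau z a (mkV z e) = mkV z e
    rw [tau_mk (hA ha), S.mk_eq_iff]
    exact Or.inl ((congrArg (· * a⁻¹) (comm_of_sq h2 ha he')).trans (mul_inv_cancel_right _ _))
  set P' := M'.map (tau z p) with hP'
  set N := M' ⊔ P' with hN
  have hdisj : M' ⊓ P' = ⊥ := by
    rw [Subgroup.eq_bot_iff_forall]
    rintro _ ⟨hx, w, hw, rfl⟩
    have h := tau_outer_comm S (hA hσ) hσo w
    rw [hfixM σ hσ _ hx, hfixM σ hσ w hw] at h
    rw [tau_p_fix S (tau z p w) h.symm]
  have hNc : Nat.card ↥N = Nat.card ↥M' * Nat.card ↥M' := by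
    have hc : Nat.card ↥P' = Nat.card ↥M' :=
      Subgroup.card_map_of_injective (tau_injective S.p_mem_cz)
    let g : ↥M' × ↥P' → ↥N := fun x =>
      ⟨x.1 * x.2, mul_mem (Subgroup.mem_sup_left x.1.2) (Subgroup.mem_sup_right x.2.2)⟩
    have hg : Function.Bijective g := by
      constructor
      · rintro ⟨⟨a, ha⟩, b, hb⟩ ⟨⟨c, hc⟩, d, hd⟩ h
        have h' : a * b = c * d := congrArg Subtype.val h
        have hmem : a * c ∈ M' ⊓ P' := by
          refine ⟨mul_mem ha hc, ?_⟩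
          have : a * c = b * d := by
            calc a * c = (a * b) * (c * d) * (b * d) := by
                  symm
                  calc _ = (a * c) * (b * b) * (d * d) := by ac_rfl
                    _ = a * c := by rw [S.vec_sq, S.vec_sq, mul_one, mul_one]
              _ = b * d := by rw [h', S.vec_sq, one_mul]
          rw [this]; exact mul_mem hb hd
        rw [hdisj, Subgroup.mem_bot] at hmem
        obtain rfl : a = c := by rw [← mul_right_cancel_iff (a := c), hmem, S.vec_sq]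
        obtain rfl := mul_left_cancel h'
        rfl
      · rintro ⟨w, hw⟩
        obtain ⟨a, ha, b, hb, rfl⟩ := Subgroup.mem_sup.mp hw
        exact ⟨(⟨a, ha⟩, ⟨b, hb⟩), rfl⟩
    rw [← Nat.card_eq_of_bijective g hg, Nat.card_prod, hc]
  have hfixN : ∀ a ∈ A, a ∈ inner z p → ∀ v ∈ N, tau z a v = v := by
    intro a ha hai
    show N ≤ MonoidHom.eqLocus (tau z a) (MonoidHom.id _)
    refine sup_le (fun v hv => hfixM a ha v hv) ?_
    rintro _ ⟨w, hw, rfl⟩
    show tau z a (tau z p w) = tau z p w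
    rw [tau_inner_comm S hai, hfixM a ha w hw]
  have hinnmem : ∀ u ∈ S.imgS A ⊓ inn, ∃ a ∈ A, a ∈ inner z p ∧ S.img a = u := by
    rintro u ⟨hu, hui⟩
    obtain ⟨a, ha, rfl⟩ := (S.mem_imgS hA).mp hu
    exact ⟨a, ha, (S.img_mem_inn F (hA ha)).mp hui, rfl⟩
  choose r hr hri hre using hinnmem
  have hN1024 : 1024 ≤ Nat.card ↥N := by
    rw [hNc]
    exact le_trans (by norm_num) (Nat.mul_le_mul (show 32 ≤ Nat.card ↥M' by omega)
      (show 32 ≤ Nat.card ↥M' by omega))
  have hone : N = ⊤ → Nat.card ↥(S.imgS A ⊓ inn) = 1 := by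
    intro htop
    rw [Subgroup.card_eq_one, Subgroup.eq_bot_iff_forall]
    intro u hu
    rw [← hre u hu]
    exact S.img_Q (mem_Q_of_tau S (hA (hr u hu)) fun v =>
      hfixN _ (hr u hu) (hri u hu) v (htop ▸ trivial))
  refine ⟨?_, fun h128 => hone (Subgroup.eq_top_of_le_card _ ?_)⟩
  · by_cases htop : N = ⊤
    · rw [hone htop]; norm_num
    obtain ⟨v, -, hv⟩ : ∃ v, v ∈ (⊤ : Subgroup (Vec z)) ∧ v ∉ N :=
      SetLike.not_le_iff_exists.mp fun hle => htop (top_le_iff.mp hle)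
    -- `N` is invariant under `p`
    have hNp : ∀ w ∈ N, tau z p w ∈ N := by
      show N ≤ N.comap (tau z p)
      refine sup_le (fun w hw => ?_) ?_
      · exact Subgroup.mem_sup_right ⟨w, hw, rfl⟩
      · rintro _ ⟨w, hw, rfl⟩
        show tau z p (tau z p w) ∈ N
        have e : tau z p (tau z p w) = w * tau z p w := by
          have h := tau_p_rel S w
          rw [← mul_left_cancel_iff (a := w * tau z p w), h, S.vec_sq]
        rw [e]
        exact mul_mem (Subgroup.mem_sup_left hw) (Subgroup.mem_sup_right ⟨w, hw, rfl⟩)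
    set N1 := N ⊔ Subgroup.zpowers v with hN1
    set N2 := N1 ⊔ Subgroup.zpowers (tau z p v) with hN2
    have two : ∀ (X : Subgroup (Vec z)) (w : Vec z), w ∉ X →
        2 * Nat.card ↥X ≤ Nat.card ↥(X ⊔ Subgroup.zpowers w) := by
      intro X w hw
      obtain ⟨d, hd⟩ := Subgroup.card_dvd_of_le (le_sup_left : X ≤ X ⊔ Subgroup.zpowers w)
      rcases d with _ | _ | d
      · exact absurd (hd.trans (Nat.mul_zero _)) Nat.card_pos.ne'
      · exact absurd (Subgroup.eq_of_le_of_card_ge (le_sup_left : X ≤ X ⊔ Subgroup.zpowers w)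
          (by omega) ▸ Subgroup.mem_sup_right (Subgroup.mem_zpowers w)) hw
      · rw [hd, mul_comm (Nat.card ↥X)]; exact Nat.mul_le_mul_right _ (by omega)
    have hpv : tau z p v ∉ N1 := by
      intro h
      obtain ⟨n, hn, w, hw, hnw⟩ := Subgroup.mem_sup.mp h
      obtain ⟨k, rfl⟩ := Subgroup.mem_zpowers_iff.mp hw
      rcases Int.even_or_odd' k with ⟨l, rfl | rfl⟩
      · rw [zpow_mul, zpow_ofNat, pow_two, S.vec_sq, one_zpow, mul_one] at hnw
        refine hv ?_
        rw [← tau_p3 S v]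
        exact hNp _ (hNp _ (hnw ▸ hn))
      · rw [zpow_add, zpow_mul, zpow_ofNat, pow_two, S.vec_sq, one_zpow, one_mul, zpow_one] at hnw
        have h2 : tau z p (tau z p v) = n := by
          have hr := tau_p_rel S v
          rw [← hnw] at hr ⊢
          rw [← mul_left_cancel_iff (a := v * (n * v)), hr]
          calc (1 : Vec z) = (v * v) * (n * n) := by rw [S.vec_sq, S.vec_sq, one_mul]
            _ = _ := by ac_rfl
        refine hv ?_
        rw [← tau_p3 S v, h2]
        exact hNp _ hn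
    have hN2top : N2 = ⊤ := by
      refine Subgroup.eq_top_of_le_card _ ?_
      rw [S.card_vec]
      have a := two N v hv
      have b := two N1 (tau z p v) hpv
      calc 2 ^ 12 ≤ 2 * (2 * Nat.card ↥N) := by omega
        _ ≤ _ := (Nat.mul_le_mul_left 2 a).trans b
    let g : ↥(S.imgS A ⊓ inn) → ↥(perp z N) := fun u =>
      ⟨tau z (r u u.2) v * v, by
        induction v using QuotientGroup.induction_on with
        | H e =>
          rw [← mk_comm S (hA (hr u u.2)) e]
          refine (mem_perp S).mpr fun b hb => ?_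
          obtain ⟨hbQ, hbN⟩ := mem_up.mp hb
          have hy : b ∈ ySub z (r u u.2) :=
            (mem_ySub_iff S (hA (hr u u.2)) ⟨b, hbQ⟩).mpr (hfixN _ (hr u u.2) (hri u u.2) _ hbN)
          exact (Setting.commute_aSub_ySub (comm_mem_aSub e.2) hy).symm⟩
    have hg : Function.Injective g := by
      intro a b h
      have hv' : tau z (r a a.2) v = tau z (r b b.2) v :=
        mul_right_cancel (congrArg Subtype.val h)
      have hall : ∀ w, tau z (r a a.2) w = tau z (r b b.2) w := by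
        have key : N2 ≤ MonoidHom.eqLocus (tau z (r a a.2)) (tau z (r b b.2)) := by
          refine sup_le (sup_le (fun w hw => ?_) (Subgroup.zpowers_le.mpr hv'))
            (Subgroup.zpowers_le.mpr ?_)
          · show tau z (r a a.2) w = tau z (r b b.2) w
            rw [hfixN _ (hr a a.2) (hri a a.2) w hw, hfixN _ (hr b b.2) (hri b b.2) w hw]
          · show tau z (r a a.2) (tau z p v) = tau z (r b b.2) (tau z p v)
            rw [tau_inner_comm S (hri a a.2), tau_inner_comm S (hri b b.2), hv']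
        intro w
        exact key (hN2top ▸ trivial)
      have hb' := hA (hr b b.2)
      have hQ : (r b b.2)⁻¹ * r a a.2 ∈ Q z :=
        mem_Q_of_tau S (mul_mem (inv_mem hb') (hA (hr a a.2))) fun w => by
          rw [tau_mul (inv_mem hb') (hA (hr a a.2)), hall, ← tau_mul (inv_mem hb') hb',
            inv_mul_cancel, tau_one]
      have hh := S.img_Q hQ
      rw [S.img_mul (inv_mem hb') (hA (hr a a.2)), S.img_inv hb', hre a a.2, hre b b.2] at hh
      exact Subtype.ext (inv_mul_eq_one.mp hh).symm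
    refine (Nat.card_le_card_of_injective g hg).trans ?_
    have hp := card_perp S N
    nlinarith [hN1024, hp]
  · rw [hNc, S.card_vec]
    exact le_trans (by norm_num) (Nat.mul_le_mul (show 64 ≤ Nat.card ↥M' by omega)
      (show 64 ≤ Nat.card ↥M' by omega))

/-- The structure of an elementary abelian `2^11` containing `z`. -/
theorem big_structure (S : Setting z p) (F : AutFacts) {A : Subgroup G} (hA : A ≤ cz z)
    (h2 : ∀ a ∈ A, a * a = 1) (hc : Nat.card ↥A = 2 ^ 11) :
    z ∈ A ∧ Nat.card ↥(A ⊓ Q z) = 128 ∧ Nat.card ↥(S.imgS A) = 16 ∧ S.imgS A ≤ inn := by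
  set A' := A ⊔ Subgroup.zpowers z with hA'
  have hA'cz : A' ≤ cz z := sup_le hA (Subgroup.zpowers_le.mpr (mem_cz.mpr (Commute.refl z)))
  have hz : z ∈ A' := Subgroup.mem_sup_right (Subgroup.mem_zpowers z)
  have h2' : ∀ a ∈ A', a * a = 1 := by
    intro a ha
    have hn : Subgroup.zpowers z ≤ Subgroup.centralizer (A : Set G) :=
      Subgroup.zpowers_le.mpr (Subgroup.mem_centralizer_iff.mpr fun x hx => (mem_cz.mp (hA hx)).eq)
    rw [hA', sup_comm] at ha
    have hco := Subgroup.coe_mul_of_left_le_normalizer_right (Subgroup.zpowers z) A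
      (hn.trans (Subgroup.centralizer_le_normalizer _))
    have ha' : a ∈ (Subgroup.zpowers z : Set G) * (A : Set G) := by rw [← hco]; exact ha
    obtain ⟨w, hw, x, hx, rfl⟩ := Set.mem_mul.mp ha'
    have hcomm : Commute x w := (Subgroup.mem_centralizer_iff.mp (hn hw) x hx)
    rw [hcomm.mul_mul_mul_comm, h2 x hx, mul_one]
    obtain ⟨k, rfl⟩ := Subgroup.mem_zpowers_iff.mp hw
    rw [← zpow_add, ← two_mul, zpow_mul, zpow_ofNat, pow_two, S.z_sq, one_zpow]
  have hM : Nat.card ↥(A' ⊓ Q z) ≤ 128 :=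
    card_abelian_le S inf_le_right ⟨hz, S.es.mem⟩ fun a ha b hb => comm_of_sq h2' ha.1 hb.1
  have hprod := S.card_imgS hA'cz (isPGroup_of_sq h2')
  have hexp := isExp2_imgS S hA'cz h2'
  have h32 := F.exp2_card _ hexp
  obtain ⟨d, hd⟩ : Nat.card ↥A ∣ Nat.card ↥A' := Subgroup.card_dvd_of_le le_sup_left
  rw [hc] at hd
  have hd1 : d = 1 ∨ d = 2 := by
    have h0 : 0 < Nat.card ↥A' := Nat.card_pos
    have : 2 ^ 11 * d ≤ 2 ^ 11 * 2 := by
      rw [← hd, ← hprod]
      exact le_trans (Nat.mul_le_mul h32 hM) (by norm_num)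
    norm_num at this hd
    omega
  have hlow : 64 ≤ Nat.card ↥(A' ⊓ Q z) := by
    by_contra hlt
    push Not at hlt
    have : Nat.card ↥(S.imgS A') * Nat.card ↥(A' ⊓ Q z) ≤ 32 * 63 :=
      Nat.mul_le_mul h32 (by omega)
    rw [hprod, hd] at this
    omega
  have hinner : S.imgS A' ≤ inn := by
    intro u hu
    obtain ⟨σ, hσ, rfl⟩ := (S.mem_imgS hA'cz).mp hu
    by_contra hno
    have hσo : σ ∉ inner z p := fun h => hno ((S.img_mem_inn F (hA'cz hσ)).mpr h)
    obtain ⟨k4, k1⟩ := inner_small S F hA'cz h2' hz hlow hσ hσo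
    have hle := card_le_two_mul F (S.imgS A')
    have h16 : 16 ≤ Nat.card ↥(S.imgS A') := by
      by_contra hlt
      push Not at hlt
      have : Nat.card ↥(S.imgS A') * Nat.card ↥(A' ⊓ Q z) ≤ 15 * 128 :=
        Nat.mul_le_mul (by omega) hM
      rw [hprod, hd] at this
      omega
    omega
  have h16 : Nat.card ↥(S.imgS A') ≤ 16 := by
    by_contra hgt
    push Not at hgt
    obtain ⟨k, hk⟩ : ∃ k, Nat.card ↥(S.imgS A') = 2 ^ k := by
      have hp : IsPGroup 2 ↥(S.imgS A') := fun u => ⟨1, Subtype.ext (by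
        simpa [pow_two] using hexp u u.2)⟩
      exact hp.exists_card_eq
    have h32' : Nat.card ↥(S.imgS A') = 32 := by
      rw [hk] at hgt h32 ⊢
      have a : k ≤ 5 := (Nat.pow_le_pow_iff_right (by norm_num : 1 < 2)).mp h32
      have b : 4 < k := (Nat.pow_lt_pow_iff_right (by norm_num : 1 < 2)).mp hgt
      rw [show k = 5 by omega]
      norm_num
    have h := F.exp2_inn _ hexp h32'
    rw [inf_eq_left.mpr hinner, h32'] at h
    norm_num at h
  have hd' : d = 1 := by
    rcases hd1 with h | h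
    · exact h
    · exfalso
      subst h
      have : Nat.card ↥(S.imgS A') * Nat.card ↥(A' ⊓ Q z) ≤ 16 * 128 := Nat.mul_le_mul h16 hM
      rw [hprod, hd] at this
      omega
  subst hd'
  have hAA : A = A' := Subgroup.eq_of_le_of_card_ge le_sup_left (by rw [hd, hc]; omega)
  rw [hAA]
  have heq : Nat.card ↥(S.imgS A') * Nat.card ↥(A' ⊓ Q z) = 16 * 128 := by
    rw [hprod, hd]; norm_num
  have hQeq : Nat.card ↥(A' ⊓ Q z) = 128 := by
    by_contra hne
    have : Nat.card ↥(S.imgS A') * Nat.card ↥(A' ⊓ Q z) ≤ 16 * 127 :=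
      Nat.mul_le_mul h16 (by omega)
    omega
  rw [hQeq] at heq
  exact ⟨hz, hQeq, by omega, hinner⟩

theorem big_le_vBig (S : Setting z p) (F : AutFacts) {A : Subgroup G} (hA : A ≤ cz z)
    (h2 : ∀ a ∈ A, a * a = 1) (hc : Nat.card ↥A = 2 ^ 11) {U : Subgroup AutM22} (hU : IsExp2 U)
    (hh : IsHexad U) (hUA : S.imgS A = U) : A = vBig S U hU := by
  obtain ⟨hz, hQ, -, hin⟩ := big_structure S F hA h2 hc
  obtain ⟨hi, hcU, -⟩ := id hh
  -- write an element of `A` as a lift times an element of `Q`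
  have split : ∀ a ∈ A, ∃ f ∈ fSub S U hU, f⁻¹ * a ∈ Q z := by
    intro a ha
    obtain ⟨f, hf, hfe⟩ := fSub_surj S F hU hi (hUA ▸ (S.mem_imgS hA).mpr ⟨a, ha, rfl⟩)
    have hfc := fSub_le S hU hf
    have h1 : S.img (f⁻¹ * a) = 1 := by
      rw [S.img_mul (inv_mem hfc) (hA ha), S.img_inv hfc, hfe, inv_mul_cancel]
    obtain ⟨e, he, i, hei⟩ := (S.img_eq_one (mul_mem (inv_mem hfc) (hA ha))).mp h1
    refine ⟨f, hf, ?_⟩
    have hai : a = f * (e * p ^ i) := by rw [← hei, mul_inv_cancel_left]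
    have hpc : p ^ i ∈ cz z := zpow_mem S.p_mem_cz i
    have key : p ^ i * p ^ i ∈ Q z := by
      refine mem_Q_of_tau S (mul_mem hpc hpc) fun v => ?_
      have hfp : ∀ w, tau z (p ^ i) (tau z f w) = tau z f (tau z (p ^ i) w) := fun w => by
        rw [← tau_mul hpc hfc, ← tau_mul hfc hpc,
          ((mem_cz.mp hf.1.2).symm.zpow_left i).eq]
      have hta : ∀ w, tau z a w = tau z f (tau z (p ^ i) w) := fun w => by
        rw [hai, tau_mul hfc (mul_mem (Q_le_cz z he) hpc), tau_mul (Q_le_cz z he) hpc, tau_Q S he]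
      have h := hta (tau z a v)
      rw [← tau_mul (hA ha) (hA ha), h2 a ha, tau_one, hta, hfp, ← tau_mul hfc hfc,
        fSub_sq S F hU hi hcU hf, tau_one, ← tau_mul hpc hpc] at h
      exact h.symm
    have := zpow_p_sq S key
    rw [hei, this, mul_one]
    exact he
  have hM : A ⊓ Q z ≤ yBig S U hU := by
    intro x hx
    refine mem_up.mpr ⟨hx.2, fun f hf => ?_⟩
    obtain ⟨a, ha, hae⟩ := (S.mem_imgS hA).mp (show S.img f ∈ S.imgS A by rw [hUA]; exact hf.2.1)
    obtain ⟨f', hf', hfQ⟩ := split a ha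
    have hf'a : S.img f' = S.img f := by
      have := S.img_Q hfQ
      rw [S.img_mul (inv_mem (fSub_le S hU hf')) (hA ha), S.img_inv (fSub_le S hU hf'),
        inv_mul_eq_one] at this
      rw [this, hae]
    have hsame : ∀ v, tau z f v = tau z f' v := by
      intro v
      rcases fSub_eq S hU hf' hf hf'a with h | h
      · rw [h]
      · rw [h, tau_mul (fSub_le S hU hf') (Q_le_cz z S.es.mem), tau_Q S S.es.mem]
    have hff : tau z f' (mkV z ⟨x, hx.2⟩) = tau z a (mkV z ⟨x, hx.2⟩) := by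
      rw [show a = f' * (f'⁻¹ * a) by group, tau_mul (fSub_le S hU hf') (Q_le_cz z hfQ), tau_Q S hfQ]
    rw [hsame, hff, tau_mk (hA ha), S.mk_eq_iff]
    exact Or.inl ((congrArg (· * a⁻¹) (comm_of_sq h2 ha hx.1)).trans (mul_inv_cancel_right _ _))
  have hMeq : A ⊓ Q z = yBig S U hU :=
    Subgroup.eq_of_le_of_card_ge hM (by rw [hQ, card_yBig S F hU hh])
  refine Subgroup.eq_of_le_of_card_ge (fun a ha => ?_) (by rw [hc, (vBig_facts S F hU hh).1])
  obtain ⟨f, hf, hfQ⟩ := split a ha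
  have : f⁻¹ * a ∈ yBig S U hU := by
    rw [← yBig_perp S F hU hh]
    refine ⟨hfQ, Subgroup.mem_centralizer_iff.mpr fun y hy => ?_⟩
    have hy' : y ∈ A := (hMeq ▸ hy : y ∈ A ⊓ Q z).1
    have hc1 : Commute f⁻¹ y := (fSub_comm_yBig S F hU hh y hy f hf).inv_left
    exact ((hc1.mul_left (comm_of_sq h2 ha hy')).eq).symm
  rw [show a = f * (f⁻¹ * a) by group]
  exact mul_mem (Subgroup.mem_sup_left hf) (Subgroup.mem_sup_right this)

theorem wFix_ge (S : Setting z p) (F : AutFacts) {A : Subgroup G} (hA : A ≤ cz z)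
    (h2 : ∀ a ∈ A, a * a = 1) (hc : Nat.card ↥A = 2 ^ 11) {U : Subgroup AutM22} (hU : IsExp2 U)
    (hUA : S.imgS A = U) : 64 ≤ Nat.card ↥(wFix S U hU) := by
  obtain ⟨hz, hQ, hcard, hin⟩ := big_structure S F hA h2 hc
  have hi : U ≤ inn := hUA ▸ hin
  have hcU : Nat.card ↥U = 16 := by rw [← hUA]; exact hcard
  have hle : down z (A ⊓ Q z) ≤ wFix S U hU := by
    rintro _ ⟨e, he, rfl⟩ f hf
    obtain ⟨a, ha, hae⟩ := (S.mem_imgS hA).mp (show S.img f ∈ S.imgS A by rw [hUA]; exact hf.2.1)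
    have hfc := fSub_le S hU hf
    have h1 : S.img (f⁻¹ * a) = 1 := by
      rw [S.img_mul (inv_mem hfc) (hA ha), S.img_inv hfc, hae, inv_mul_cancel]
    obtain ⟨q, hq, i, hqi⟩ := (S.img_eq_one (mul_mem (inv_mem hfc) (hA ha))).mp h1
    have hpc : p ^ i ∈ cz z := zpow_mem S.p_mem_cz i
    have hta : ∀ w, tau z a w = tau z f (tau z (p ^ i) w) := fun w => by
      rw [show a = f * (q * p ^ i) by rw [← hqi, mul_inv_cancel_left],
        tau_mul hfc (mul_mem (Q_le_cz z hq) hpc), tau_mul (Q_le_cz z hq) hpc, tau_Q S hq]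
    have hfp : ∀ w, tau z (p ^ i) (tau z f w) = tau z f (tau z (p ^ i) w) := fun w => by
      rw [← tau_mul hpc hfc, ← tau_mul hfc hpc, ((mem_cz.mp hf.1.2).symm.zpow_left i).eq]
    have key : p ^ i * p ^ i ∈ Q z := by
      refine mem_Q_of_tau S (mul_mem hpc hpc) fun v => ?_
      have h := hta (tau z a v)
      rw [← tau_mul (hA ha) (hA ha), h2 a ha, tau_one, hta, hfp, ← tau_mul hfc hfc,
        fSub_sq S F hU hi hcU hf, tau_one, ← tau_mul hpc hpc] at h
      exact h.symm
    have hfix := hta (mkV z e)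
    rw [zpow_p_sq S key, tau_one] at hfix
    show tau z f (mkV z e) = mkV z e
    rw [← hfix, tau_mk (hA ha), S.mk_eq_iff]
    exact Or.inl ((congrArg (· * a⁻¹) (comm_of_sq h2 ha (he.1 : (e : G) ∈ A))).trans
      (mul_inv_cancel_right _ _))
  have := Subgroup.card_le_of_le hle
  have h' := card_down S (inf_le_right : A ⊓ Q z ≤ Q z) ⟨hz, S.es.mem⟩
  omega

/-- Conjugates of hexad and duad type subgroups. -/
theorem isHexad_conj (F : AutFacts) {U : Subgroup AutM22} (hh : IsHexad U) (g : AutM22) :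
    IsHexad (U.map (MulAut.conj g).toMonoidHom) := by
  obtain ⟨hi, hc, N, hN, hNc, he, hn⟩ := hh
  have hnorm : inn.Normal := Subgroup.normal_of_index_eq_two (inn_index F)
  refine ⟨?_, ?_, N.map (MulAut.conj g).toMonoidHom, ?_, ?_, ?_, ?_⟩
  · rintro _ ⟨a, ha, rfl⟩; exact hnorm.conj_mem a (hi ha) g
  · rw [Subgroup.card_map_of_injective (MulAut.conj g).injective, hc]
  · rintro _ ⟨a, ha, rfl⟩; exact hnorm.conj_mem a (hN ha) g
  · rw [Subgroup.card_map_of_injective (MulAut.conj g).injective, hNc]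
  · rintro _ ⟨a, ha, rfl⟩
    rw [← map_pow, he a ha, map_one]
  · rintro _ ⟨n, hn', rfl⟩ _ ⟨a, ha, rfl⟩
    exact ⟨n * a * n⁻¹, hn n hn' a ha, by simp only [map_mul, map_inv]⟩

theorem isDuad_conj (F : AutFacts) {U : Subgroup AutM22} (hd : IsDuad U) (g : AutM22) :
    IsDuad (U.map (MulAut.conj g).toMonoidHom) := by
  obtain ⟨x, hx, y, hy, h5, hyx, hnx, hny, a, ha, hne⟩ := hd
  have hnorm : inn.Normal := Subgroup.normal_of_index_eq_two (inn_index F)
  refine ⟨MulAut.conj g x, hnorm.conj_mem x hx g, MulAut.conj g y, hnorm.conj_mem y hy g, ?_, ?_, ?_,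
    ?_, MulAut.conj g a, ⟨a, ha, rfl⟩, ?_⟩
  · rw [← map_pow, h5, map_one]
  · rw [← map_inv, ← map_mul, ← map_mul, hyx, map_mul]
  · rintro _ ⟨b, hb, rfl⟩
    exact ⟨x * b * x⁻¹, hnx b hb, by simp only [MulEquiv.coe_toMonoidHom, map_mul, map_inv]⟩
  · rintro _ ⟨b, hb, rfl⟩
    exact ⟨y * b * y⁻¹, hny b hb, by simp only [MulEquiv.coe_toMonoidHom, map_mul, map_inv]⟩
  · intro h
    rw [← map_mul, ← map_mul] at h
    exact hne ((MulAut.conj g).injective h)

/-- A Sylow 2-subgroup containing `O₂(C(z))` centralises `z`. -/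
theorem sylow_le_cz (S : Setting z p) (T : Sylow 2 G) (hQ : Q z ≤ (T : Subgroup G)) :
    (T : Subgroup G) ≤ cz z := by
  have := Fact.mk Nat.prime_two
  have hne : Nontrivial ↥(T : Subgroup G) := Subgroup.nontrivial_iff_exists_ne_one _ |>.mpr
    ⟨z, hQ S.es.mem, S.z_ne_one⟩
  have hcn := T.isPGroup'.center_nontrivial
  obtain ⟨⟨c, hc⟩, hc1⟩ := exists_ne (1 : ↥(Subgroup.center ↥(T : Subgroup G)))
  have hcom : ∀ x ∈ (T : Subgroup G), Commute (c : G) x := fun x hx =>
    (congrArg Subtype.val (Subgroup.mem_center_iff.mp hc ⟨x, hx⟩)).symm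
  have hcQ : (c : G) ∈ Q z := S.self_centralizing c (hcom z (hQ S.es.mem))
    fun e he => (hcom e (hQ he)).symm
  have hcz : (c : G) = z :=
    (S.es.center c hcQ fun q hq => (hcom q (hQ hq)).symm).resolve_left fun h =>
      hc1 (Subtype.ext (Subtype.ext h))
  intro x hx
  exact mem_cz.mpr (hcz ▸ (hcom x hx).symm)

theorem unique_in_sylow (S : Setting z p) (F : AutFacts) {T₀ Uh U0 : Subgroup AutM22}
    (B : BigConfig T₀ Uh U0) (T : Sylow 2 G) :
    ∃! V : Subgroup G, V ≤ (T : Subgroup G) ∧ Cfsg.IsElementaryAbelian 2 V ∧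
      Nat.card ↥V = 2 ^ 11 := by
  have := Fact.mk Nat.prime_two
  have hh : IsHexad Uh := ⟨fun a ha => (B.le_Uh ha).2, B.card_Uh, B.nine⟩
  have h0 : IsDuad U0 := B.five
  obtain ⟨hV, hV2, hVcz⟩ := vBig_facts S F B.exp_Uh hh
  have elem : ∀ {A : Subgroup G}, Cfsg.IsElementaryAbelian 2 A → ∀ a ∈ A, a * a = 1 :=
    fun h a ha => by rw [← pow_two]; exact h.2 a ha
  obtain ⟨T₁, hT₁⟩ := (S.isPGroup_Q).exists_le_sylow
  obtain ⟨T₂, hT₂⟩ := (isPGroup_of_sq hV2).exists_le_sylow
  have hT₁cz := sylow_le_cz S T₁ hT₁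
  -- uniqueness inside `T₁`
  have uniq : ∀ A B' : Subgroup G, A ≤ (T₁ : Subgroup G) → B' ≤ (T₁ : Subgroup G) →
      (∀ a ∈ A, a * a = 1) → Nat.card ↥A = 2 ^ 11 → (∀ a ∈ B', a * a = 1) →
      Nat.card ↥B' = 2 ^ 11 → A = B' := by
    obtain ⟨T₃, hT₃⟩ := ((T₁.isPGroup'.of_equiv
      (Subgroup.subgroupOfEquivOfLe hT₁cz).symm).map S.phi).exists_le_sylow
    let Ts : Sylow 2 AutM22 := Sylow.ofCard T₀ (by
      have hsplit : (887040 : ℕ) = 2 ^ 8 * 3465 := by norm_num
      rw [B.card_T, F.card_aut, hsplit, Nat.factorization_mul (by norm_num) (by norm_num),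
        Finsupp.add_apply, Nat.Prime.factorization_pow Nat.prime_two,
        Nat.factorization_eq_zero_of_not_dvd (by norm_num : ¬ 2 ∣ 3465)]
      norm_num)
    obtain ⟨g, hg⟩ := MulAction.exists_smul_eq AutM22 Ts T₃
    have hT3 : (T₃ : Subgroup AutM22) = T₀.map (MulAut.conj g).toMonoidHom := by
      rw [← hg]; rfl
    have key : ∀ A : Subgroup G, A ≤ (T₁ : Subgroup G) → (∀ a ∈ A, a * a = 1) →
        Nat.card ↥A = 2 ^ 11 → S.imgS A = Uh.map (MulAut.conj g).toMonoidHom := by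
      intro A hA h2 hc
      have hAcz := hA.trans hT₁cz
      obtain ⟨hz, -, hcard, hin⟩ := big_structure S F hAcz h2 hc
      have hle : S.imgS A ≤ (T₃ : Subgroup AutM22) := by
        refine le_trans (Subgroup.map_mono ?_) hT₃
        exact fun x hx => hA hx
      set V' := (S.imgS A).map (MulAut.conj g⁻¹).toMonoidHom with hV'
      have hnorm : inn.Normal := Subgroup.normal_of_index_eq_two (inn_index F)
      have hV'le : V' ≤ T₀ ⊓ inn := by
        rintro _ ⟨a, ha, rfl⟩
        refine ⟨?_, hnorm.conj_mem a (hin ha) g⁻¹⟩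
        obtain ⟨t, ht, rfl⟩ := (hT3 ▸ hle) ha
        simpa [mul_assoc] using ht
      have hV'exp : IsExp2 V' := by
        rintro _ ⟨a, ha, rfl⟩
        rw [← map_mul, isExp2_imgS S hAcz h2 a ha, map_one]
      have hback : S.imgS A = V'.map (MulAut.conj g).toMonoidHom := by
        rw [hV', Subgroup.map_map]
        conv_lhs => rw [← Subgroup.map_id (S.imgS A)]
        congr 1
        ext a
        simp [mul_assoc]
      rcases B.only_two V' hV'le hV'exp
        (by rw [hV', Subgroup.card_map_of_injective (MulAut.conj g⁻¹).injective, hcard]) with h | h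
      · rw [hback, h]
      · exfalso
        have hd : IsDuad (S.imgS A) := by rw [hback, h]; exact isDuad_conj F h0 g
        have h1 := wFix_lt S F (isExp2_imgS S hAcz h2) hin hd
        have h3 := wFix_ge S F hAcz h2 hc (isExp2_imgS S hAcz h2) rfl
        omega
    intro A B' hA hB hA2 hAc hB2 hBc
    have hU : IsExp2 (Uh.map (MulAut.conj g).toMonoidHom) := by
      rintro _ ⟨a, ha, rfl⟩
      rw [← map_mul, B.exp_Uh a ha, map_one]
    rw [big_le_vBig S F (hA.trans hT₁cz) hA2 hAc hU (isHexad_conj F hh g) (key A hA hA2 hAc),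
      big_le_vBig S F (hB.trans hT₁cz) hB2 hBc hU (isHexad_conj F hh g) (key B' hB hB2 hBc)]
  -- existence in `T`
  obtain ⟨c, hc⟩ := MulAction.exists_smul_eq G T₂ T
  have hTc : (T : Subgroup G) = (T₂ : Subgroup G).map (MulAut.conj c).toMonoidHom := by
    rw [← hc]; rfl
  obtain ⟨d, hd⟩ := MulAction.exists_smul_eq G T T₁
  have hTd : (T₁ : Subgroup G) = (T : Subgroup G).map (MulAut.conj d).toMonoidHom := by
    rw [← hd]; rfl
  set V := (vBig S Uh B.exp_Uh).map (MulAut.conj c).toMonoidHom with hVdef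
  have hVsq : ∀ v ∈ V, v * v = 1 := by
    rintro _ ⟨v, hv, rfl⟩
    rw [← map_mul, hV2 v hv, map_one]
  have hVelem : Cfsg.IsElementaryAbelian 2 V :=
    ⟨⟨⟨fun a b => Subtype.ext (comm_of_sq hVsq a.2 b.2)⟩⟩, fun v hv => by
      rw [pow_two]; exact hVsq v hv⟩
  have hVc : Nat.card ↥V = 2 ^ 11 := by
    rw [hVdef, Subgroup.card_map_of_injective (MulAut.conj c).injective, hV]
  have hVT : V ≤ (T : Subgroup G) := hTc ▸ Subgroup.map_mono hT₂
  refine ⟨V, ⟨hVT, hVelem, hVc⟩, ?_⟩
  rintro W ⟨hW, hWe, hWc⟩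
  have conj2 : ∀ X : Subgroup G, (∀ x ∈ X, x * x = 1) →
      ∀ x ∈ X.map (MulAut.conj d).toMonoidHom, x * x = 1 := by
    rintro X hX _ ⟨x, hx, rfl⟩
    rw [← map_mul, hX x hx, map_one]
  refine Subgroup.map_injective (f := (MulAut.conj d).toMonoidHom) (MulAut.conj d).injective ?_
  exact uniq _ _ (hTd ▸ Subgroup.map_mono hW) (hTd ▸ Subgroup.map_mono hVT)
    (conj2 W (elem hWe)) (by rw [Subgroup.card_map_of_injective (MulAut.conj d).injective, hWc])
    (conj2 V hVsq) (by rw [Subgroup.card_map_of_injective (MulAut.conj d).injective, hVc])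

end Cfsg.Agent.Lib.J4Big
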