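import Cfsg.Agent.Lib.J4Big.Facts2
import Cfsg.Agent.Lib.J4Big.Unique
import Cfsg.Agent.Lib.J4Local.RowsK

/-!
# The normaliser of the elementary abelian `2^11`: self-centralisation, fusion, the stabiliser of `z`
-/

set_option autoImplicit false
set_option linter.unusedSectionVars false
set_option linter.unusedVariables false

namespace Cfsg.Agent.Lib.J4Big

open Cfsg.Agent.Lib.LargeExtraspecial.Basic Cfsg.Agent.Lib.J4Local
open scoped Pointwise

variable {G : Type*} [Group G] [Finite G] {z p : G}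

/-- An involutory element over the image of a lift acts on `Vec z` as the lift. -/
theorem tau_eq_lift (S : Setting z p) (F : AutFacts) {U : Subgroup AutM22} (hU : IsExp2 U)
    (hi : U ≤ inn) (hc : Nat.card ↥U = 16) {a f : G} (ha : a ∈ cz z) (hf : f ∈ fSub S U hU)
    (h : S.img a = S.img f) (h2 : ∀ v, tau z a (tau z a v) = v) :
    ∀ v, tau z a v = tau z f v := by
  have hfc := fSub_le S hU hf
  have h1 : S.img (f⁻¹ * a) = 1 := by
    rw [S.img_mul (inv_mem hfc) ha, S.img_inv hfc, h, inv_mul_cancel]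
  obtain ⟨q, hq, i, hqi⟩ := (S.img_eq_one (mul_mem (inv_mem hfc) ha)).mp h1
  have hpc : p ^ i ∈ cz z := zpow_mem S.p_mem_cz i
  have hta : ∀ w, tau z a w = tau z f (tau z (p ^ i) w) := fun w => by
    rw [show a = f * (q * p ^ i) by rw [← hqi, mul_inv_cancel_left],
      tau_mul hfc (mul_mem (Q_le_cz z hq) hpc), tau_mul (Q_le_cz z hq) hpc, tau_Q S hq]
  have hfp : ∀ w, tau z (p ^ i) (tau z f w) = tau z f (tau z (p ^ i) w) := fun w => by
    rw [← tau_mul hpc hfc, ← tau_mul hfc hpc, ((mem_cz.mp hf.1.2).symm.zpow_left i).eq]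
  have key : p ^ i * p ^ i ∈ Q z := by
    refine mem_Q_of_tau S (mul_mem hpc hpc) fun v => ?_
    have h' := h2 v
    rw [hta, hta, hfp, ← tau_mul hfc hfc, fSub_sq S F hU hi hc hf, tau_one,
      ← tau_mul hpc hpc] at h'
    exact h'
  intro v
  rw [hta, zpow_p_sq S key, tau_one]

theorem tau_sq_of_sq (S : Setting z p) {a : G} (ha : a ∈ cz z) (h : a * a ∈ Q z) (v : Vec z) :
    tau z a (tau z a v) = v := by
  rw [← tau_mul ha ha, tau_Q S h]

variable {T₀ Uh U0 : Subgroup AutM22}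

theorem hexad (B : BigConfig T₀ Uh U0) : IsHexad Uh :=
  ⟨fun a ha => (B.le_Uh ha).2, B.card_Uh, B.nine⟩

/-- The elementary `2^11` attached to the configuration. -/
def vv (S : Setting z p) (B : BigConfig T₀ Uh U0) : Subgroup G := vBig S Uh B.exp_Uh

/-- The stabiliser of `z` in the normaliser. -/
noncomputable def mSt (S : Setting z p) (Uh : Subgroup AutM22) : Subgroup G :=
  ((Subgroup.normalizer (Uh : Set AutM22)).comap S.phi).map (cz z).subtype

theorem mem_mSt (S : Setting z p) {Uh : Subgroup AutM22} {g : G} :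
    g ∈ mSt S Uh ↔ g ∈ cz z ∧ S.img g ∈ Subgroup.normalizer (Uh : Set AutM22) := by
  constructor
  · rintro ⟨⟨x, hx⟩, hN, rfl⟩
    exact ⟨hx, by show S.img x ∈ _; rw [S.img_of_mem hx]; exact hN⟩
  · rintro ⟨hg, hN⟩
    exact ⟨⟨g, hg⟩, by rw [S.img_of_mem hg] at hN; exact hN, rfl⟩

theorem vv_facts (S : Setting z p) (F : AutFacts) (B : BigConfig T₀ Uh U0) :
    Nat.card ↥(vv S B) = 2 ^ 11 ∧ (∀ v ∈ vv S B, v * v = 1) ∧ vv S B ≤ cz z :=
  vBig_facts S F B.exp_Uh (hexad B)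

theorem z_mem_vv (S : Setting z p) (B : BigConfig T₀ Uh U0) : z ∈ vv S B :=
  Subgroup.mem_sup_right (z_mem_yBig S B.exp_Uh)

theorem imgS_vv (S : Setting z p) (F : AutFacts) (B : BigConfig T₀ Uh U0) :
    S.imgS (vv S B) = Uh := by
  obtain ⟨hc, h2, hcz⟩ := vv_facts S F B
  obtain ⟨-, -, h16, -⟩ := big_structure S F hcz h2 hc
  have hi : Uh ≤ inn := fun a ha => (B.le_Uh ha).2
  refine (Subgroup.eq_of_le_of_card_ge (fun u hu => ?_) (by rw [h16, B.card_Uh])).symm
  obtain ⟨f, hf, rfl⟩ := fSub_surj S F B.exp_Uh hi hu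
  exact (S.mem_imgS hcz).mpr ⟨f, Subgroup.mem_sup_left hf, rfl⟩

/-- Stabiliser elements normalise the `2^11`. -/
theorem mSt_le_normalizer (S : Setting z p) (F : AutFacts) (B : BigConfig T₀ Uh U0) :
    mSt S Uh ≤ Subgroup.normalizer (vv S B : Set G) := by
  intro g hg
  obtain ⟨hgc, hgN⟩ := (mem_mSt S).mp hg
  obtain ⟨hc, h2, hcz⟩ := vv_facts S F B
  set W := (vv S B).map (MulAut.conj g).toMonoidHom with hW
  have hW2 : ∀ a ∈ W, a * a = 1 := by
    rintro _ ⟨a, ha, rfl⟩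
    rw [← map_mul, h2 a ha, map_one]
  have hWc : Nat.card ↥W = 2 ^ 11 := by
    rw [hW, Subgroup.card_map_of_injective (MulAut.conj g).injective, hc]
  have hWcz : W ≤ cz z := by
    rintro _ ⟨a, ha, rfl⟩
    exact mul_mem (mul_mem hgc (hcz ha)) (inv_mem hgc)
  have hWi : S.imgS W = Uh := by
    obtain ⟨-, -, h16, -⟩ := big_structure S F hWcz hW2 hWc
    refine Subgroup.eq_of_le_of_card_ge (fun u hu => ?_) (by rw [h16, B.card_Uh])
    obtain ⟨_, ⟨a, ha, rfl⟩, rfl⟩ := (S.mem_imgS hWcz).mp hu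
    show S.img (g * a * g⁻¹) ∈ Uh
    rw [S.img_mul (mul_mem hgc (hcz ha)) (inv_mem hgc), S.img_mul hgc (hcz ha), S.img_inv hgc]
    have hu' : S.img a ∈ Uh := by
      rw [← imgS_vv S F B]; exact (S.mem_imgS hcz).mpr ⟨a, ha, rfl⟩
    exact (Subgroup.mem_normalizer_iff.mp hgN _).mp hu'
  have heq : W = vv S B := big_le_vBig S F hWcz hW2 hWc B.exp_Uh (hexad B) hWi
  refine mem_normalizer_of_fwd fun x hx => ?_
  rw [← heq]
  exact ⟨x, hx, rfl⟩
where
  mem_normalizer_of_fwd {H : Subgroup G} {g : G} (h : ∀ x ∈ H, g * x * g⁻¹ ∈ H) :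
      g ∈ Subgroup.normalizer (H : Set G) := by
    refine Subgroup.mem_normalizer_iff.mpr fun x => ⟨h x, fun hx => ?_⟩
    let σ : ↥H → ↥H := fun y => ⟨g * y * g⁻¹, h y y.2⟩
    have hσ : Function.Injective σ := fun a b e =>
      Subtype.ext (mul_left_cancel (mul_right_cancel (congrArg Subtype.val e)))
    obtain ⟨y, hy⟩ := (Finite.injective_iff_surjective.mp hσ) ⟨_, hx⟩
    have : (y : G) = x := mul_left_cancel (mul_right_cancel (congrArg Subtype.val hy))
    exact this ▸ y.2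

theorem normalizer_inf_cz (S : Setting z p) (F : AutFacts) (B : BigConfig T₀ Uh U0) :
    Subgroup.normalizer (vv S B : Set G) ⊓ cz z = mSt S Uh := by
  refine le_antisymm ?_ (le_inf (mSt_le_normalizer S F B) fun g hg => ((mem_mSt S).mp hg).1)
  rintro g ⟨hgN, hgc⟩
  obtain ⟨-, -, hcz⟩ := vv_facts S F B
  refine (mem_mSt S).mpr ⟨hgc, mSt_le_normalizer.mem_normalizer_of_fwd fun u hu => ?_⟩
  rw [← imgS_vv S F B] at hu ⊢
  obtain ⟨a, ha, rfl⟩ := (S.mem_imgS hcz).mp hu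
  refine (S.mem_imgS hcz).mpr ⟨g * a * g⁻¹, (Subgroup.mem_normalizer_iff.mp hgN a).mp ha, ?_⟩
  rw [S.img_mul (mul_mem hgc (hcz ha)) (inv_mem hgc), S.img_mul hgc (hcz ha), S.img_inv hgc]

theorem card_mSt (S : Setting z p) (F : AutFacts) (B : NormConfig T₀ Uh U0) :
    Nat.card ↥(mSt S Uh) = 3 * 2 ^ 13 * 11520 := by
  rw [mSt, Subgroup.card_map_of_injective (cz z).subtype_injective]
  set N := Subgroup.normalizer (Uh : Set AutM22)
  have h := Subgroup.card_mul_index (N.comap S.phi)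
  rw [Subgroup.index_comap_of_surjective _ S.phi_surjective, S.card_cz F] at h
  have h' := Subgroup.card_mul_index N
  rw [B.card_norm, F.card_aut] at h'
  have hidx : N.index = 77 := by omega
  rw [hidx] at h
  omega

/-- The `2^11` is self-centralising. -/
theorem centralizer_vv (S : Setting z p) (F : AutFacts) (B : NormConfig T₀ Uh U0) :
    Subgroup.centralizer (vv S B.toBigConfig : Set G) = vv S B.toBigConfig := by
  have B' := B.toBigConfig
  obtain ⟨hc, h2, hcz⟩ := vv_facts S F B'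
  have hU := B'.exp_Uh
  have hh := hexad B'
  have hi : Uh ≤ inn := hh.1
  refine le_antisymm ?_ fun a ha => Subgroup.mem_centralizer_iff.mpr fun b hb =>
    comm_of_sq h2 hb ha
  intro c hcC
  have hcomm : ∀ v ∈ vv S B', Commute v c := fun v hv => Subgroup.mem_centralizer_iff.mp hcC v hv
  have hccz : c ∈ cz z := mem_cz.mpr (hcomm z (z_mem_vv S B')).symm
  have himg : S.img c ∈ Uh := by
    rw [← B.cent_Uh, Subgroup.mem_centralizer_iff]
    intro u hu
    rw [← imgS_vv S F B'] at hu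
    obtain ⟨a, ha, rfl⟩ := (S.mem_imgS hcz).mp hu
    rw [← S.img_mul (hcz ha) hccz, ← S.img_mul hccz (hcz ha), (hcomm a ha).eq]
  obtain ⟨f, hf, hfe⟩ := fSub_surj S F hU hi himg
  have hfc := fSub_le S hU hf
  have h1 : S.img (f⁻¹ * c) = 1 := by
    rw [S.img_mul (inv_mem hfc) hccz, S.img_inv hfc, hfe, inv_mul_cancel]
  obtain ⟨q, hq, i, hqi⟩ := (S.img_eq_one (mul_mem (inv_mem hfc) hccz)).mp h1
  -- the `p`-part is trivial on a nonzero fixed vector
  obtain ⟨w, hw, hw1⟩ : ∃ w ∈ wFix S Uh hU, w ≠ 1 := by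
    by_contra h
    push Not at h
    have := (wFix_facts S F hU hh).1
    rw [(Subgroup.eq_bot_iff_forall _).mpr h, Subgroup.card_bot] at this
    norm_num at this
  have hfixc : tau z c w = w := by
    induction w using QuotientGroup.induction_on with
    | H e =>
      have he : (e : G) ∈ vv S B' := Subgroup.mem_sup_right (mem_up.mpr ⟨e.2, hw⟩)
      rw [tau_mk hccz, S.mk_eq_iff]
      exact Or.inl ((congrArg (· * c⁻¹) (hcomm _ he).eq.symm).trans (mul_inv_cancel_right _ _))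
  have hpc : p ^ i ∈ cz z := zpow_mem S.p_mem_cz i
  have hpf : tau z (p ^ i) w = w := by
    rw [show c = f * (q * p ^ i) by rw [← hqi, mul_inv_cancel_left],
      tau_mul hfc (mul_mem (Q_le_cz z hq) hpc), tau_mul (Q_le_cz z hq) hpc, tau_Q S hq] at hfixc
    exact tau_injective hfc (hfixc.trans (hw f hf).symm)
  have hp1 : p ^ i = 1 := by
    rcases S.p_zpow_cases i with h | h | h
    · exact h
    · exact absurd (tau_p_fix S w (by rwa [h] at hpf)) hw1
    · exfalso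
      rw [h, tau_mul S.p_mem_cz S.p_mem_cz] at hpf
      have h3 := tau_p3 S w
      rw [hpf] at h3
      exact hw1 (tau_p_fix S w h3)
  rw [hp1, mul_one] at hqi
  rw [show c = f * q by rw [← hqi, mul_inv_cancel_left]]
  refine mul_mem (Subgroup.mem_sup_left hf) (Subgroup.mem_sup_right ?_)
  rw [← yBig_perp S F hU hh]
  refine ⟨hq, Subgroup.mem_centralizer_iff.mpr fun y hy => ?_⟩
  have a1 : Commute y f := (fSub_comm_yBig S F hU hh y hy f hf).symm
  have a2 : Commute y c := hcomm y (Subgroup.mem_sup_right hy)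
  rw [← hqi]
  exact (a1.inv_right.mul_right a2).eq

/-- Fusion in the `2^11` is controlled by its normaliser. -/
theorem fusion_vv (S : Setting z p) (F : AutFacts) (B : BigConfig T₀ Uh U0) {x y : G}
    (hx : x ∈ vv S B) (hy : y ∈ vv S B) (h : IsConj x y) :
    ∃ n ∈ Subgroup.normalizer (vv S B : Set G), n * x * n⁻¹ = y := by
  have := Fact.mk Nat.prime_two
  obtain ⟨g, rfl⟩ := isConj_iff.mp h
  obtain ⟨hc, h2, hcz⟩ := vv_facts S F B
  set V := vv S B with hV
  set y := g * x * g⁻¹ with hyd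
  set W := V.map (MulAut.conj g).toMonoidHom with hW
  have hW2 : ∀ a ∈ W, a * a = 1 := by
    rintro _ ⟨a, ha, rfl⟩
    rw [← map_mul, h2 a ha, map_one]
  have hVy : V ≤ cz y := fun a ha => mem_cz.mpr (comm_of_sq h2 ha hy)
  have hWy : W ≤ cz y := fun a ha => mem_cz.mpr (comm_of_sq hW2 ha ⟨x, hx, rfl⟩)
  obtain ⟨P1, hP1⟩ := ((isPGroup_of_sq h2).of_equiv
    (Subgroup.subgroupOfEquivOfLe hVy).symm).exists_le_sylow
  obtain ⟨P2, hP2⟩ := ((isPGroup_of_sq hW2).of_equiv
    (Subgroup.subgroupOfEquivOfLe hWy).symm).exists_le_sylow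
  obtain ⟨c, hcP⟩ := MulAction.exists_smul_eq ↥(cz y) P2 P1
  -- both lie in a 2-subgroup of `G`
  set P := (P1 : Subgroup ↥(cz y)).map (cz y).subtype with hP
  obtain ⟨Sy, hSy⟩ := (P1.isPGroup'.map (cz y).subtype).exists_le_sylow
  have e1 : V ≤ (Sy : Subgroup G) := fun a ha =>
    hSy ⟨⟨a, hVy ha⟩, hP1 ha, rfl⟩
  have e2 : W.map (MulAut.conj (c : G)).toMonoidHom ≤ (Sy : Subgroup G) := by
    rintro _ ⟨a, ha, rfl⟩
    refine hSy ⟨c * ⟨a, hWy ha⟩ * c⁻¹, ?_, rfl⟩
    rw [← hcP]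
    exact ⟨⟨a, hWy ha⟩, hP2 ha, rfl⟩
  obtain ⟨U, hU, huniq⟩ := unique_in_sylow S F B Sy
  have elem : ∀ X : Subgroup G, (∀ a ∈ X, a * a = 1) → Cfsg.IsElementaryAbelian 2 X := fun X hX =>
    ⟨⟨⟨fun a b => Subtype.ext (comm_of_sq hX a.2 b.2)⟩⟩, fun v hv => by rw [pow_two]; exact hX v hv⟩
  have u1 := huniq V ⟨e1, elem V h2, hc⟩
  have u2 := huniq (W.map (MulAut.conj (c : G)).toMonoidHom) ⟨e2, elem _ (by
      rintro _ ⟨a, ha, rfl⟩; rw [← map_mul, hW2 a ha, map_one]), by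
    rw [Subgroup.card_map_of_injective (MulAut.conj (c : G)).injective, hW,
      Subgroup.card_map_of_injective (MulAut.conj g).injective, hc]⟩
  refine ⟨(c : G) * g, mSt_le_normalizer.mem_normalizer_of_fwd fun a ha => ?_, ?_⟩
  · rw [u1, ← u2]
    exact ⟨g * a * g⁻¹, ⟨a, ha, rfl⟩, by simp [mul_assoc]⟩
  · have hcy : (c : G) * y = y * c := mem_cz.mp c.2
    calc (c : G) * g * x * ((c : G) * g)⁻¹ = (c : G) * (g * x * g⁻¹) * (c : G)⁻¹ := by group
      _ = (c : G) * y * (c : G)⁻¹ := rfl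
      _ = y := by rw [hcy, mul_inv_cancel_right]

end Cfsg.Agent.Lib.J4Big
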