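import Cfsg.Agent.Lib.J4Big.Cert
import Cfsg.Agent.Lib.J4Big.Unique

/-!
# Uniqueness of the elementary abelian `2^11` in a Sylow 2-subgroup, given the basic facts on `Aut M22`
-/

set_option autoImplicit false

namespace Cfsg.Agent.Lib.J4Big.RowS5566

open Cfsg.Agent.Lib.J4Local

theorem unique_of_facts (F : AutFacts) {G : Type*} [Group G] [Finite G]
    (hJ : Cfsg.IsOfJankoFourType G) (T : Sylow 2 G) :
    ∃! V : Subgroup G, V ≤ (T : Subgroup G) ∧ Cfsg.IsElementaryAbelian 2 V ∧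
      Nat.card ↥V = 2 ^ 11 := by
  obtain ⟨z, hz⟩ := hJ
  obtain ⟨p, S⟩ := Setting.of_at hz
  exact unique_in_sylow S F Cert.bigConfig T

end Cfsg.Agent.Lib.J4Big.RowS5566
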