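import Cfsg.Agent.Lib.J4Big.Split
import Cfsg.Agent.Lib.J4Big.Cert3
import Cfsg.Agent.Lib.J4Big.RowS5568

/-!
# The row S5567: the normaliser of an elementary `2^11` is `2^11 : M24`
-/

set_option autoImplicit false

namespace Cfsg.Agent.Lib.J4Big

open Cfsg Cfsg.Agent.Lib.LargeExtraspecial.Basic Cfsg.Agent.Lib.J4Local

variable {G : Type*} [Group G] [Finite G] {z : G}

/-- The row. -/
theorem split_of_facts [IsSimpleGroup G] (F : AutFacts) (hG : ¬ IsMulCommutative G)
    (hJ : Cfsg.IsOfJankoFourTypeAt z) (V : Subgroup G) (hV : Cfsg.IsElementaryAbelian 2 V)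
    (hc : Nat.card ↥V = 2 ^ 11) :
    Subgroup.centralizer (V : Set G) ≤ V ∧ ∃ K : Subgroup G,
      K ≤ Subgroup.normalizer (V : Set G) ∧ K ⊓ V = ⊥ ∧
      K ⊔ V = Subgroup.normalizer (V : Set G) ∧ Cfsg.Spor.IsoM24 ↥K := by
  obtain ⟨p, S⟩ := Setting.of_at hJ
  have hE := S.exists_fused hG F
  obtain ⟨g, rfl⟩ := exists_conj_vv S F Cert2.normConfig.toBigConfig hV hc
  obtain ⟨K, hKN, hKi, hKs, -, ⟨i⟩⟩ :=
    exists_complement_vv S F Cert2.normConfig Cert2.meetConfig hE Cert3.splitConfig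
  set c := (MulAut.conj g).toMonoidHom
  have hinj : Function.Injective c := (MulAut.conj g).injective
  set W := vv S Cert2.normConfig.toBigConfig
  have hN : (Subgroup.normalizer (W : Set G)).map c = Subgroup.normalizer (W.map c : Set G) :=
    Subgroup.map_equiv_normalizer_eq W (MulAut.conj g)
  refine ⟨fun x hx => ?_, K.map c, ?_, ?_, ?_, ⟨(K.equivMapOfInjective c hinj).symm.trans i⟩⟩
  · refine mem_map_conj.mpr ?_
    refine le_of_eq (centralizer_vv S F Cert2.normConfig) (Subgroup.mem_centralizer_iff.mpr ?_)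
    intro w hw
    have := Subgroup.mem_centralizer_iff.mp hx _ ⟨w, hw, rfl⟩
    have h1 : g * w * g⁻¹ * x = x * (g * w * g⁻¹) := this
    calc w * (g⁻¹ * x * g) = g⁻¹ * (g * w * g⁻¹ * x) * g := by group
      _ = g⁻¹ * x * g * w := by rw [h1]; group
  · rw [← hN]; exact Subgroup.map_mono hKN
  · rw [← Subgroup.map_inf_eq _ _ _ hinj]
    rw [hKi, Subgroup.map_bot]
  · rw [← Subgroup.map_sup, hKs, hN]

end Cfsg.Agent.Lib.J4Big
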