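import Cfsg.Agent.Lib.J4Big.SplitLift
import Cfsg.Agent.Lib.J4Big.Good
import Cfsg.Agent.Lib.J4Big.Ident
import Cfsg.Agent.Lib.Cores.Gaschutz

/-!
# The normaliser of the `2^11` splits: a complement containing `p`, isomorphic to `M24`

Gaschütz: the complement inside a Sylow 2-subgroup is `W H` with `W = [yBig Uh', p]` for an
opposite hexad type subgroup `Uh'` and `H` a lift of `D₈ × 2` into `C(z) ∩ N⟨p⟩`.
-/

set_option autoImplicit false
set_option linter.unusedSectionVars false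
set_option linter.unusedVariables false
set_option linter.style.haveILetI false

namespace Cfsg.Agent.Lib.J4Big

open Cfsg Cfsg.Agent.Lib.LargeExtraspecial.Basic Cfsg.Agent.Lib.J4Local Cocode
open scoped Pointwise

variable {G : Type*} [Group G] [Finite G] {z p : G}
variable {T₀ Uh U0 : Subgroup AutM22}

/-- A duad type subgroup inside the join of two subgroups fixes their common fixed vectors. -/
theorem duad_fixed (S : Setting z p) (F : AutFacts) (B : NormConfig T₀ Uh U0)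
    {g h : AutM22} (hh : U0.map (MulAut.conj h).toMonoidHom ≤
      Uh ⊔ Uh.map (MulAut.conj g).toMonoidHom) {v : Vec z} (hv1 : v ≠ 1)
    (hm : v ∈ wFix S Uh B.exp_Uh)
    (hm' : v ∈ wFix S (Uh.map (MulAut.conj g).toMonoidHom) (isExp2_map B.exp_Uh g)) :
    v ∈ wFix S (U0.map (MulAut.conj h).toMonoidHom) (isExp2_map B.exp_U0 h) := by
  have hi : Uh ≤ inn := (hexad B.toBigConfig).1
  have hx2 : IsExp2 (U0.map (MulAut.conj h).toMonoidHom) := isExp2_map B.exp_U0 h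
  have hi0 : U0.map (MulAut.conj h).toMonoidHom ≤ inn :=
    map_conj_le_inn F (fun a ha => (B.le_U0 ha).2) h
  set X := vStab z p v
  have hXc : X ≤ cz z := fun x hx => kc_le_cz hx.1
  have key : ∀ (W : Subgroup AutM22) (hW : IsExp2 W), W ≤ inn → v ∈ wFix S W hW → W ≤ S.imgS X := by
    intro W hW hWi hvW u hu
    obtain ⟨f, hf, rfl⟩ := fSub_surj S F hW hWi hu
    exact (S.mem_imgS hXc).mpr ⟨f, ⟨hf.1, hvW f hf⟩, rfl⟩
  have hsup : Uh ⊔ Uh.map (MulAut.conj g).toMonoidHom ≤ S.imgS X :=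
    sup_le (key _ B.exp_Uh hi hm) (key _ _ (map_conj_le_inn F hi g) hm')
  intro f hf
  obtain ⟨x, ⟨hxk, hxv⟩, hxi⟩ := (S.mem_imgS hXc).mp (hsup (hh hf.2.1))
  have hxc := kc_le_cz hxk
  have h2 : x * x ∈ Q z := by
    have himg : S.img (x * x) = 1 := by rw [S.img_mul hxc hxc, hxi]; exact hx2 _ hf.2.1
    obtain ⟨q, hq, i, hqi⟩ := (S.img_eq_one (mul_mem hxc hxc)).mp himg
    have hpc : p ^ i ∈ cz z := zpow_mem S.p_mem_cz i
    have hfix : tau z (p ^ i) v = v := by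
      have e : tau z (x * x) v = v := by rw [tau_mul hxc hxc, hxv, hxv]
      rwa [hqi, tau_mul (Q_le_cz z hq) hpc, tau_Q S hq] at e
    rcases S.p_zpow_cases i with e | e | e
    · rw [hqi, e, mul_one]; exact hq
    · rw [e] at hfix
      exact absurd (tau_p_fix S v hfix) hv1
    · exfalso
      rw [e, tau_mul S.p_mem_cz S.p_mem_cz] at hfix
      have h3 := tau_p3 S v
      rw [hfix] at h3
      exact hv1 (tau_p_fix S v h3)
  rw [← tau_eq_lift S F hx2 hi0 (by rw [card_map_conj, B.card_U0]) hxc hf hxi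
    (tau_sq_of_sq S hxc h2)]
  exact hxv

/-- The two Lagrangians of opposite hexad type subgroups are transversal. -/
theorem yBig_inter (S : Setting z p) (F : AutFacts) (B : NormConfig T₀ Uh U0)
    (hE : ∃ e ∈ Q z, IsConj z e ∧ e ≠ z) {g h₁ h₂ : AutM22}
    (hne : U0.map (MulAut.conj h₁).toMonoidHom ≠ U0.map (MulAut.conj h₂).toMonoidHom)
    (hh₁ : U0.map (MulAut.conj h₁).toMonoidHom ≤ Uh ⊔ Uh.map (MulAut.conj g).toMonoidHom)
    (hh₂ : U0.map (MulAut.conj h₂).toMonoidHom ≤ Uh ⊔ Uh.map (MulAut.conj g).toMonoidHom)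
    {d : G} (hd : d ∈ yBig S Uh B.exp_Uh)
    (hd' : d ∈ yBig S (Uh.map (MulAut.conj g).toMonoidHom) (isExp2_map B.exp_Uh g)) :
    d = 1 ∨ d = z := by
  by_contra hcon
  push Not at hcon
  obtain ⟨hdQ, hm⟩ := mem_up.mp hd
  obtain ⟨_, hm'⟩ := mem_up.mp hd'
  have hv1 : mkV z ⟨d, hdQ⟩ ≠ 1 := fun e => by
    rcases (S.mem_center _).mp ((QuotientGroup.eq_one_iff _).mp e) with e' | e'
    · exact hcon.1 e'
    · exact hcon.2 e'
  have f₁ := ((line_of_duad S F B hE (isExp2_map B.exp_U0 h₁) ⟨h₁, rfl⟩).2 d hdQ hcon.1 hcon.2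
    (duad_fixed S F B hh₁ hv1 hm hm')).2
  have f₂ := ((line_of_duad S F B hE (isExp2_map B.exp_U0 h₂) ⟨h₂, rfl⟩).2 d hdQ hcon.1 hcon.2
    (duad_fixed S F B hh₂ hv1 hm hm')).2
  exact hne (f₁.symm.trans f₂)

/-- Normalising elements normalise the Lagrangian. -/
theorem yBig_conj_nP (S : Setting z p) (F : AutFacts) {U : Subgroup AutM22} (hU : IsExp2 U)
    (hi : U ≤ inn) (hc : Nat.card ↥U = 16) {h : G} (hh : h ∈ cz z)
    (hn : S.img h ∈ Subgroup.normalizer (U : Set AutM22)) {y : G} (hy : y ∈ yBig S U hU) :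
    h * y * h⁻¹ ∈ yBig S U hU := by
  obtain ⟨hyQ, hyW⟩ := mem_up.mp hy
  refine mem_up.mpr ⟨S.conj_mem hh hyQ, ?_⟩
  rw [← tau_mk hh ⟨y, hyQ⟩]
  have e : U.map (MulAut.conj (S.img h)).toMonoidHom = U := by
    ext x
    rw [Subgroup.mem_map]
    constructor
    · rintro ⟨u, hu, rfl⟩
      exact (Subgroup.mem_normalizer_iff.mp hn u).mp hu
    · intro hx
      refine ⟨(S.img h)⁻¹ * x * S.img h, (Subgroup.mem_normalizer_iff.mp hn _).mpr ?_, ?_⟩
      · rwa [show S.img h * ((S.img h)⁻¹ * x * S.img h) * (S.img h)⁻¹ = x by group]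
      · show S.img h * ((S.img h)⁻¹ * x * S.img h) * (S.img h)⁻¹ = x
        group
  have := wFix_map S F hU hi hc hh (isExp2_map hU (S.img h)) hyW
  revert this
  generalize isExp2_map hU (S.img h) = pr
  revert pr
  rw [e]
  exact fun _ h => h

/-- The commutators of `p` with a hexad Lagrangian. -/
theorem exists_comm_group (S : Setting z p) (F : AutFacts) {U : Subgroup AutM22} (hU : IsExp2 U)
    (hh : IsHexad U) :
    ∃ W : Subgroup G, W ≤ yBig S U hU ∧ Nat.card ↥W = 64 ∧ z ∉ W ∧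
      ∀ h ∈ nP z p, S.img h ∈ Subgroup.normalizer (U : Set AutM22) →
        ∀ x ∈ W, h * x * h⁻¹ ∈ W := by
  obtain ⟨hi, hc, -⟩ := id hh
  set Y := yBig S U hU with hY
  have hp : ∀ y ∈ Y, p * y * p⁻¹ ∈ Y := fun y hy =>
    yBig_conj S hU (p_mem_kc S) (p_normalises S U) hy
  have hp' : ∀ y ∈ Y, p⁻¹ * y * p ∈ Y := fun y hy => by
    simpa using yBig_conj S hU (inv_mem (p_mem_kc S)) (fun u hu => by
      rw [S.img_inv S.p_mem_cz, S.img_p]; simpa using hu) hy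
  let f : ↥Y →* G :=
    { toFun := fun y => p * y * p⁻¹ * (y : G)⁻¹
      map_one' := by simp
      map_mul' := fun s t => by
        have h1 : Commute (p * t * p⁻¹ * (t : G)⁻¹) (s : G)⁻¹ :=
          yBig_comm S F hU hh (mul_mem (hp t t.2) (inv_mem t.2)) (inv_mem s.2)
        show p * ((s : G) * t) * p⁻¹ * ((s : G) * t)⁻¹ = _
        calc p * ((s : G) * t) * p⁻¹ * ((s : G) * t)⁻¹
            = p * s * p⁻¹ * ((p * t * p⁻¹ * (t : G)⁻¹) * (s : G)⁻¹) := by group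
          _ = _ := by rw [h1.eq]; group }
  have hk : (f.ker : Set ↥Y) = {1, ⟨z, z_mem_yBig S hU⟩} := by
    ext y
    simp only [SetLike.mem_coe, MonoidHom.mem_ker, Set.mem_insert_iff, Set.mem_singleton_iff]
    constructor
    · intro h
      have h' : p * (y : G) * p⁻¹ = y := mul_inv_eq_one.mp h
      rcases S.fix _ (yBig_le S hU y.2) (mul_inv_eq_iff_eq_mul.mp h').symm with e | e
      · exact Or.inl (Subtype.ext e)
      · exact Or.inr (Subtype.ext e)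
    · rintro (rfl | rfl)
      · exact map_one f
      · show p * z * p⁻¹ * z⁻¹ = 1
        rw [S.p_z.eq, mul_inv_cancel_right, mul_inv_cancel]
  refine ⟨f.range, ?_, ?_, ?_, ?_⟩
  · rintro _ ⟨y, rfl⟩
    exact mul_mem (hp y y.2) (inv_mem y.2)
  · have h := Subgroup.card_mul_index f.ker
    rw [Subgroup.index_ker, ← SetLike.coe_sort_coe, Nat.card_coe_set_eq, hk,
      Set.ncard_pair fun h => S.z_ne_one (congrArg Subtype.val h).symm, card_yBig S F hU hh] at h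
    omega
  · rintro ⟨y, hy⟩
    have hyQ := yBig_le S hU y.2
    have hyc : p * (y : G) * p⁻¹ = y * z :=
      (mul_inv_eq_iff_eq_mul.mp (show p * (y : G) * p⁻¹ * (y : G)⁻¹ = z from hy)).trans
        (S.z_comm hyQ).symm
    have hv : tau z p (mkV z ⟨y, hyQ⟩) = mkV z ⟨y, hyQ⟩ := by
      rw [tau_mk S.p_mem_cz, S.mk_eq_iff]
      exact Or.inr hyc
    rcases (S.mem_center _).mp ((QuotientGroup.eq_one_iff _).mp (tau_p_fix S _ hv)) with e | e <;>
      have e' : (y : G) = _ := e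
    · rw [e'] at hyc
      simp at hyc
      exact S.z_ne_one hyc.symm
    · rw [e', S.p_z.eq, mul_inv_cancel_right, S.z_sq] at hyc
      exact S.z_ne_one hyc
  · rintro h hhn hnU _ ⟨y, rfl⟩
    have hy' : h * (y : G) * h⁻¹ ∈ Y := yBig_conj_nP S F hU hi hc hhn.1 hnU y.2
    have e0 : h * f y * h⁻¹ =
        (h * p * h⁻¹) * (h * y * h⁻¹) * (h * p * h⁻¹)⁻¹ * (h * (y : G) * h⁻¹)⁻¹ := by
      show h * (p * y * p⁻¹ * (y : G)⁻¹) * h⁻¹ = _
      group
    rcases nP_cases S hhn with e | e <;> rw [e0, e]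
    · exact ⟨⟨_, hy'⟩, rfl⟩
    · refine ⟨⟨(p⁻¹ * (h * y * h⁻¹) * p)⁻¹, inv_mem (hp' _ hy')⟩, ?_⟩
      have hc' : Commute (p⁻¹ * (h * y * h⁻¹) * p) (h * (y : G) * h⁻¹)⁻¹ :=
        yBig_comm S F hU hh (hp' _ hy') (inv_mem hy')
      show p * (p⁻¹ * (h * y * h⁻¹) * p)⁻¹ * p⁻¹ * ((p⁻¹ * (h * y * h⁻¹) * p)⁻¹)⁻¹ = _
      calc p * (p⁻¹ * (h * y * h⁻¹) * p)⁻¹ * p⁻¹ * ((p⁻¹ * (h * y * h⁻¹) * p)⁻¹)⁻¹
          = (h * (y : G) * h⁻¹)⁻¹ * (p⁻¹ * (h * y * h⁻¹) * p) := by group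
        _ = p⁻¹ * (h * y * h⁻¹) * p⁻¹⁻¹ * (h * (y : G) * h⁻¹)⁻¹ := by rw [← hc'.eq]; group

/-- A complement of the `2^11` in a Sylow 2-subgroup of its normaliser. -/
theorem exists_two_complement (S : Setting z p) (F : AutFacts) (B : NormConfig T₀ Uh U0)
    (hE : ∃ e ∈ Q z, IsConj z e ∧ e ≠ z) (Sp : SplitConfig Uh U0) :
    ∃ A : Subgroup G, A ≤ Subgroup.normalizer (vv S B.toBigConfig : Set G) ∧
      Nat.card ↥A = 2 ^ 10 ∧ ∀ a ∈ A, a ∈ vv S B.toBigConfig → a = 1 := by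
  obtain ⟨g, a, b, w, ⟨h₁, h₂, hne, hh₁, hh₂⟩, ha, hb, hw, h4, haw, hbw, h16, hdis, hnorm, hout⟩ :=
    Sp.exists_opposite
  set U' := Uh.map (MulAut.conj g).toMonoidHom with hU'
  have hU2 : IsExp2 U' := isExp2_map B.exp_Uh g
  have hh' : IsHexad U' := isHexad_conj F (hexad B.toBigConfig) g
  obtain ⟨H, hHn, hHc, hHi, hH1⟩ :=
    exists_lift_group S F B.toBigConfig hE ha hb hw h4 haw hbw h16 hout
  obtain ⟨W, hWY, hWc, hzW, hWn⟩ := exists_comm_group S F hU2 hh'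
  have hWQ : W ≤ Q z := hWY.trans (yBig_le S hU2)
  have hHW : H ≤ Subgroup.normalizer (W : Set G) := fun h hh =>
    mSt_le_normalizer.mem_normalizer_of_fwd (hWn h (hHn hh) (hnorm _ (hHi h hh)).2)
  have hdisj : ∀ h ∈ H, h ∈ W → h = 1 := fun h hh hW => hH1 h hh (S.img_Q (hWQ hW))
  refine ⟨H ⊔ W, sup_le (fun h hh => ?_) (fun x hx => ?_), ?_, ?_⟩
  · exact mSt_le_normalizer S F B.toBigConfig ((mem_mSt S).mpr ⟨(hHn hh).1, (hnorm _ (hHi h hh)).1⟩)
  · exact mSt_le_normalizer S F B.toBigConfig ((mem_mSt S).mpr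
      ⟨Q_le_cz z (hWQ hx), by rw [S.img_Q (hWQ hx)]; exact one_mem _⟩)
  · rw [card_sup_eq hHW hdisj, hHc, hWc]
    norm_num
  · intro x hx hxV
    have hx' : x ∈ (H : Set G) * (W : Set G) := by
      rw [← Subgroup.coe_mul_of_left_le_normalizer_right H W hHW]; exact hx
    obtain ⟨h, hh, v, hv, rfl⟩ := Set.mem_mul.mp hx'
    have hi := img_mem_Uh S F B.toBigConfig hxV
    rw [S.img_mul (hHn hh).1 (Q_le_cz z (hWQ hv)), S.img_Q (hWQ hv), mul_one] at hi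
    have h1 := hH1 h hh (hdis _ (hHi h hh) hi)
    rw [h1, one_mul] at hxV ⊢
    have hvY : v ∈ yBig S Uh B.exp_Uh := by
      rw [← vv_inf_Q S F B.toBigConfig]; exact ⟨hxV, hWQ hv⟩
    exact (yBig_inter S F B hE hne hh₁ hh₂ hvY (hWY hv)).resolve_right fun e => hzW (e ▸ hv)

/-- Gaschütz for the `2^11`: some complement in the normaliser. -/
theorem exists_complement_aux (S : Setting z p) (F : AutFacts) (B : NormConfig T₀ Uh U0)
    (hE : ∃ e ∈ Q z, IsConj z e ∧ e ≠ z) (Sp : SplitConfig Uh U0) :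
    ∃ K : Subgroup G, K ≤ Subgroup.normalizer (vv S B.toBigConfig : Set G) ∧
      (∀ x ∈ K, x ∈ vv S B.toBigConfig → x = 1) ∧
      ∀ n ∈ Subgroup.normalizer (vv S B.toBigConfig : Set G),
        ∃ v ∈ vv S B.toBigConfig, ∃ k ∈ K, n = v * k := by
  obtain ⟨A, hAN, hAc, hA1⟩ := exists_two_complement S F B hE Sp
  obtain ⟨hVc, hV2, -⟩ := vv_facts S F B.toBigConfig
  set V := vv S B.toBigConfig with hV
  set N := Subgroup.normalizer (V : Set G) with hN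
  have hVN : V ≤ N := Subgroup.le_normalizer
  set V' := V.subgroupOf N with hV'
  haveI : V'.Normal := Subgroup.normal_subgroupOf_of_le_normalizer le_rfl
  haveI : IsMulCommutative V' := ⟨⟨fun s t => Subtype.ext (Subtype.ext
    (comm_of_sq hV2 (Subgroup.mem_subgroupOf.mp s.2) (Subgroup.mem_subgroupOf.mp t.2)))⟩⟩
  set A' := A.subgroupOf N with hA'
  have hVc' : Nat.card ↥V' = 2 ^ 11 := by
    rw [hV', Nat.card_congr (Subgroup.subgroupOfEquivOfLe hVN).toEquiv, hVc]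
  have hAc' : Nat.card ↥A' = 2 ^ 10 := by
    rw [hA', Nat.card_congr (Subgroup.subgroupOfEquivOfLe hAN).toEquiv, hAc]
  have hAV : A' ≤ Subgroup.normalizer (V' : Set ↥N) := by
    rw [Subgroup.normalizer_eq_top_iff.mpr inferInstance]; exact le_top
  have hd : ∀ x ∈ A', x ∈ V' → x = 1 := fun x hx hxV =>
    Subtype.ext (hA1 x (Subgroup.mem_subgroupOf.mp hx) (Subgroup.mem_subgroupOf.mp hxV))
  have hU := card_sup_eq hAV hd
  have hidx := Subgroup.card_mul_index (V' ⊔ A')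
  rw [sup_comm, hU, hAc', hVc', show Nat.card ↥N = 2 ^ 11 * 244823040 from
    card_normalizer S F B hE] at hidx
  obtain ⟨K, hK⟩ := Cores.Gaschutz.exists_complement (K := V') (U := V' ⊔ A') (A := A') le_sup_left
    (by
      rw [hVc', sup_comm, show (A' ⊔ V').index = 239085 by omega]
      exact Nat.Coprime.pow_left 11 (by norm_num))
    (by rw [eq_bot_iff]; rintro x ⟨hx, hxV⟩; rw [Subgroup.mem_bot]; exact hd x hx hxV) rfl
  refine ⟨K.map N.subtype, Subgroup.map_subtype_le K, ?_, ?_⟩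
  · rintro _ ⟨x, hx, rfl⟩ hxV
    have := Subgroup.disjoint_def.mp hK.disjoint (show x ∈ V' from hxV) hx
    rw [this]; rfl
  · intro n hn
    have htop : (⟨n, hn⟩ : ↥N) ∈ V' ⊔ K := by rw [hK.sup_eq_top]; trivial
    rw [← SetLike.mem_coe, Subgroup.normal_mul] at htop
    obtain ⟨v, hv, k, hk, e⟩ := htop
    exact ⟨v, Subgroup.mem_subgroupOf.mp hv, k, ⟨k, hk, rfl⟩,
      (congrArg Subtype.val e).symm⟩

/-- The normaliser of the `2^11` is a split extension by `M24`, a complement containing `p`. -/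
theorem exists_complement_vv (S : Setting z p) (F : AutFacts) (B : NormConfig T₀ Uh U0)
    (Me : MeetConfig Uh U0) (hE : ∃ e ∈ Q z, IsConj z e ∧ e ≠ z) (Sp : SplitConfig Uh U0) :
    ∃ K : Subgroup G, K ≤ Subgroup.normalizer (vv S B.toBigConfig : Set G) ∧
      K ⊓ vv S B.toBigConfig = ⊥ ∧
      K ⊔ vv S B.toBigConfig = Subgroup.normalizer (vv S B.toBigConfig : Set G) ∧
      p ∈ K ∧ Nonempty (↥K ≃* ↥Cfsg.M24) := by
  obtain ⟨K₀, hK₀N, hK₀1, hK₀s⟩ := exists_complement_aux S F B hE Sp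
  obtain ⟨hVc, hV2, hVcz⟩ := vv_facts S F B.toBigConfig
  set V := vv S B.toBigConfig with hV
  set N := Subgroup.normalizer (V : Set G) with hN
  have hVN : V ≤ N := Subgroup.le_normalizer
  have hnV : ∀ n ∈ N, ∀ v ∈ V, n * v * n⁻¹ ∈ V := fun n hn v hv =>
    (Subgroup.mem_normalizer_iff.mp hn v).mp hv
  have hpN : p ∈ N := mSt_le_normalizer S F B.toBigConfig
    ((mem_mSt S).mpr ⟨S.p_mem_cz, by rw [S.img_p]; exact one_mem _⟩)
  obtain ⟨v, hv, k, hk, hpe⟩ := hK₀s p hpN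
  have hvi : v⁻¹ = v := inv_eq_of_mul_eq_one_right (hV2 v hv)
  have hke : k = v * p := by rw [hpe, ← mul_assoc, hV2 v hv, one_mul]
  set v₁ := p * v * p⁻¹ with hv₁
  set v₂ := p * v₁ * p⁻¹ with hv₂
  have hv₁V : v₁ ∈ V := hnV p hpN v hv
  have hv₂V : v₂ ∈ V := hnV p hpN v₁ hv₁V
  have hp3 : p * p * p = 1 := by rw [← S.p_cube, pow_succ, pow_two]
  -- `k^3` lies in the intersection, so is trivial
  have h3 : v * v₁ * v₂ = 1 := by
    have e : k * k * k = v * v₁ * v₂ := by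
      rw [hke]
      calc v * p * (v * p) * (v * p) = v * v₁ * v₂ * (p * p * p) := by rw [hv₂, hv₁]; group
        _ = _ := by rw [hp3, mul_one]
    rw [← e]
    exact hK₀1 _ (mul_mem (mul_mem hk hk) hk) (by rw [e]; exact mul_mem (mul_mem hv hv₁V) hv₂V)
  -- conjugating by `v₁` moves `k` to `p`
  have hckp : v₁ * k * v₁⁻¹ = p := by
    have h1 : v₁ * v * v₂ = 1 := by rw [comm_of_sq hV2 hv₁V hv]; exact h3
    calc v₁ * k * v₁⁻¹ = v₁ * v * (p * v₁⁻¹ * p⁻¹) * p := by rw [hke]; group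
      _ = v₁ * v * v₂ * p := by rw [inv_eq_of_mul_eq_one_right (hV2 v₁ hv₁V)]
      _ = p := by rw [h1, one_mul]
  set K := K₀.map (MulAut.conj v₁).toMonoidHom with hK
  have hKN : K ≤ N := by
    rintro _ ⟨x, hx, rfl⟩
    exact mul_mem (mul_mem (hVN hv₁V) (hK₀N hx)) (inv_mem (hVN hv₁V))
  have hK1 : ∀ x ∈ K, x ∈ V → x = 1 := by
    rintro _ ⟨x, hx, rfl⟩ hxV
    have hxV' : v₁ * x * v₁⁻¹ ∈ V := hxV
    have : x ∈ V := by
      have := hnV v₁⁻¹ (inv_mem (hVN hv₁V)) _ hxV'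
      rwa [show v₁⁻¹ * (v₁ * x * v₁⁻¹) * v₁⁻¹⁻¹ = x by group] at this
    rw [hK₀1 x hx this, map_one]
  have hKs : ∀ n ∈ N, ∃ u ∈ V, ∃ k ∈ K, n = u * k := by
    intro n hn
    obtain ⟨u, hu, l, hl, e⟩ := hK₀s (v₁⁻¹ * n * v₁) (mul_mem (mul_mem (inv_mem (hVN hv₁V)) hn) (hVN hv₁V))
    refine ⟨v₁ * u * v₁⁻¹, hnV v₁ (hVN hv₁V) u hu, v₁ * l * v₁⁻¹, ⟨l, hl, rfl⟩, ?_⟩
    calc n = v₁ * (v₁⁻¹ * n * v₁) * v₁⁻¹ := by group
      _ = _ := by rw [e]; group
  refine ⟨K, hKN, eq_bot_iff.mpr fun x hx => Subgroup.mem_bot.mpr (hK1 x hx.1 hx.2),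
    le_antisymm (sup_le hKN hVN) fun n hn => ?_, ⟨k, hk, hckp⟩, ?_⟩
  · obtain ⟨u, hu, l, hl, rfl⟩ := hKs n hn
    exact mul_mem (Subgroup.mem_sup_right hu) (Subgroup.mem_sup_left hl)
  obtain ⟨t, ht⟩ := dV_nonempty S F B hE
  obtain ⟨ψ, Hf, -⟩ := exists_frame_vv S F B hE ht
  let φ : ↥K →* ↥Cfsg.M24 := (phiM24 S F B.toBigConfig Hf).comp (Subgroup.inclusion hKN)
  refine ⟨MulEquiv.ofBijective φ ⟨(injective_iff_map_eq_one φ).mpr fun x hx => ?_, fun σ => ?_⟩⟩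
  · have hm : Subgroup.inclusion hKN x ∈ (phiM24 S F B.toBigConfig Hf).ker := hx
    rw [phiM24_ker S F B Hf, Subgroup.mem_subgroupOf] at hm
    exact Subtype.ext (hK1 x x.2 hm)
  · obtain ⟨⟨n, hn⟩, rfl⟩ := phiM24_surjective S F B hE Hf σ
    obtain ⟨u, hu, l, hl, rfl⟩ := hKs n hn
    refine ⟨⟨l, hl⟩, ?_⟩
    have hm : (⟨u, hVN hu⟩ : ↥N) ∈ (phiM24 S F B.toBigConfig Hf).ker := by
      rw [phiM24_ker S F B Hf, Subgroup.mem_subgroupOf]; exact hu
    rw [show (⟨u * l, hn⟩ : ↥N) = ⟨u, hVN hu⟩ * ⟨l, hKN hl⟩ from rfl, map_mul,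
      MonoidHom.mem_ker.mp hm, one_mul]
    rfl

end Cfsg.Agent.Lib.J4Big
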