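import Cfsg.Agent.Lib.J4Big.ClassQV
import Cfsg.Agent.Lib.J4Big.CentK
import Cfsg.Agent.Lib.J4Big.Split
import Cfsg.Agent.Lib.J4Big.Cert3
import Cfsg.Agent.Lib.J4Local.FusionOuter

/-!
# The involutions not conjugate to `z` and their centralisers
-/

set_option autoImplicit false
set_option linter.unusedSectionVars false

namespace Cfsg.Agent.Lib.J4Big

open Cfsg Cfsg.Agent.Lib.LargeExtraspecial.Basic Cfsg.Agent.Lib.J4Local Cocode

variable {G : Type*} [Group G] [Finite G] {z : G}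

/-- The row. -/
theorem second_centraliser [IsSimpleGroup G] (F : AutFacts) (hG : ¬ IsMulCommutative G)
    (hJ : Cfsg.IsOfJankoFourTypeAt z) {t : G} (ht : orderOf t = 2) (hnc : ¬ IsConj z t) :
    ∃ V K : Subgroup G, V ≤ Subgroup.centralizer ({t} : Set G) ∧
      K ≤ Subgroup.centralizer ({t} : Set G) ∧
      Subgroup.centralizer ({t} : Set G) ≤ Subgroup.normalizer (V : Set G) ∧
      Cfsg.IsElementaryAbelian 2 V ∧ Nat.card ↥V = 2 ^ 11 ∧ K ⊓ V = ⊥ ∧
      K ⊔ V = Subgroup.centralizer ({t} : Set G) ∧ Nonempty (↥K ≃* MulAut ↥Cfsg.Spor.M22) := by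
  obtain ⟨p, S⟩ := Setting.of_at hJ
  have B := Cert2.normConfig
  have Me := Cert2.meetConfig
  have hE := S.exists_fused hG F
  obtain ⟨K, hKN, hK, hKs, hp, -⟩ := exists_complement_vv S F B Me hE Cert3.splitConfig
  have ht2 : t * t = 1 := by rw [← pow_two, ← ht, pow_orderOf_eq_one]
  have ht1 : t ≠ 1 := fun e => by rw [e, orderOf_one] at ht; omega
  obtain ⟨y, hy, hy2, hty⟩ := invol_QV hG S F B.toBigConfig ht2 ht1
  obtain ⟨ψ, H, hz⟩ := exists_frame_z S F B hE
  have hy1 : y ≠ 1 := fun e => ht1 (isConj_one_left.mp (e ▸ hty))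
  have key : ∃ d ∈ dV S B.toBigConfig, IsConj t d := by
    rcases class_QV S F B hE H hz hKN hK hKs hp hy hy2 with hv | ⟨q, hq, hyq⟩
    · exact ⟨y, ⟨hv, hy1, fun h => hnc (h.trans hty.symm)⟩, hty⟩
    · obtain ⟨g, rfl⟩ := isConj_iff.mp hyq
      rcases invol_Q S F B Me hE hq (by
          rw [show g * y * g⁻¹ * (g * y * g⁻¹) = g * (y * y) * g⁻¹ by group, hy2]; group)
          (fun e => hy1 (conj_eq_one_iff.mp e)) with h | ⟨d, hd, h⟩
      · exact absurd (h.trans ((hty.trans hyq).symm)) hnc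
      · exact ⟨d, hd, (hty.trans hyq).trans h⟩
  obtain ⟨d, hd, htd⟩ := key
  obtain ⟨g, rfl⟩ := isConj_iff.mp htd.symm
  exact centT_conj g (centT_split S F B Me hE hKN hK hKs hd)

end Cfsg.Agent.Lib.J4Big
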