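import Cfsg.Agent.Lib.J4Big.Count
import Cfsg.Agent.Lib.J4Big.Facts4
import Cfsg.Agent.Lib.J4Local.AutTwo

/-!
# A lift of `D₈ × 2` from `Aut M22` into the normaliser of `⟨p⟩` in `C(z)`

An element of 2-power order of `C(z) ∩ N⟨p⟩` over an involution of `Aut M22` is an involution
(for an outer one: if the involution lies in an elementary abelian subgroup of order 32).
-/

set_option autoImplicit false
set_option linter.unusedSectionVars false
set_option linter.unusedVariables false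
set_option linter.style.haveILetI false

namespace Cfsg.Agent.Lib.J4Big

open Cfsg.Agent.Lib.LargeExtraspecial.Basic Cfsg.Agent.Lib.J4Local
open scoped Pointwise

section Gen

variable {A : Type*} [Group A] [Finite A]

/-- The order of a product of two subgroups is at most the product of the orders. -/
theorem card_sup_le {X Y : Subgroup A} (h : X ≤ Subgroup.normalizer (Y : Set A)) :
    Nat.card ↥(X ⊔ Y) ≤ Nat.card ↥X * Nat.card ↥Y := by
  let f : ↥X × ↥Y → ↥(X ⊔ Y) := fun q =>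
    ⟨q.1 * q.2, mul_mem (Subgroup.mem_sup_left q.1.2) (Subgroup.mem_sup_right q.2.2)⟩
  have hf : Function.Surjective f := fun ⟨v, hv⟩ => by
    have hv' : v ∈ (X : Set A) * (Y : Set A) := by
      rw [← Subgroup.coe_mul_of_left_le_normalizer_right X Y h]; exact hv
    obtain ⟨a, ha, b, hb, rfl⟩ := Set.mem_mul.mp hv'
    exact ⟨(⟨a, ha⟩, ⟨b, hb⟩), rfl⟩
  rw [← Nat.card_prod]
  exact Nat.card_le_card_of_surjective f hf

/-- The order of a product of two subgroups meeting trivially. -/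
theorem card_sup_eq {X Y : Subgroup A} (h : X ≤ Subgroup.normalizer (Y : Set A))
    (h1 : ∀ a ∈ X, a ∈ Y → a = 1) : Nat.card ↥(X ⊔ Y) = Nat.card ↥X * Nat.card ↥Y := by
  refine le_antisymm (card_sup_le h) ?_
  let f : ↥X × ↥Y → ↥(X ⊔ Y) := fun q =>
    ⟨q.1 * q.2, mul_mem (Subgroup.mem_sup_left q.1.2) (Subgroup.mem_sup_right q.2.2)⟩
  have hf : Function.Injective f := by
    rintro ⟨a, b⟩ ⟨c, d⟩ e
    have e' : (a : A) * b = c * d := congrArg Subtype.val e
    have e2 : (c : A)⁻¹ * a = d * (b : A)⁻¹ := by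
      rw [eq_mul_inv_iff_mul_eq, mul_assoc, e', inv_mul_cancel_left]
    have h2 : (c : A)⁻¹ * a = 1 :=
      h1 _ (mul_mem (inv_mem c.2) a.2) (e2 ▸ mul_mem d.2 (inv_mem b.2))
    have hac : (c : A) = a := inv_mul_eq_one.mp h2
    rw [hac] at e'
    exact Prod.ext (Subtype.ext hac.symm) (Subtype.ext (mul_left_cancel e'))
  rw [← Nat.card_prod]
  exact Nat.card_le_card_of_injective f hf

theorem card_two_gen_le {x y : A} (hx : x * x = 1) (hy : y * y = 1) {n : ℕ} (hn : 0 < n)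
    (hr : (x * y) ^ n = 1) : Nat.card ↥(Subgroup.closure ({x, y} : Set A)) ≤ 2 * n := by
  set r := x * y with hrdef
  have hxi : x⁻¹ = x := inv_eq_of_mul_eq_one_right hx
  have hyi : y⁻¹ = y := inv_eq_of_mul_eq_one_right hy
  have hN : Subgroup.zpowers x ≤ Subgroup.normalizer (Subgroup.zpowers r : Set A) := by
    rw [Subgroup.zpowers_le]
    refine Subgroup.mem_normalizer_iff.mpr fun a => ?_
    have e : x * r * x⁻¹ = r⁻¹ := by
      rw [hrdef, mul_inv_rev, hyi, hxi]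
      simp only [← mul_assoc, hx, one_mul]
    have key : ∀ b ∈ Subgroup.zpowers r, x * b * x⁻¹ ∈ Subgroup.zpowers r := by
      rintro _ ⟨i, rfl⟩
      refine ⟨-i, ?_⟩
      show r ^ (-i) = x * r ^ i * x⁻¹
      rw [← conj_zpow, e, inv_zpow, zpow_neg]
    refine ⟨key a, fun h => ?_⟩
    have := key _ h
    rwa [show x * (x * a * x⁻¹) * x⁻¹ = (x * x) * a * (x * x)⁻¹ by group, hx, inv_one, mul_one,
      one_mul] at this
  have hle : Subgroup.closure ({x, y} : Set A) ≤ Subgroup.zpowers x ⊔ Subgroup.zpowers r := by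
    rw [Subgroup.closure_le]
    intro a ha
    rcases ha with e | e <;> rw [e]
    · exact Subgroup.mem_sup_left (Subgroup.mem_zpowers _)
    · have : y = x * r := by rw [hrdef, ← mul_assoc, hx, one_mul]
      rw [this]
      exact mul_mem (Subgroup.mem_sup_left (Subgroup.mem_zpowers _))
        (Subgroup.mem_sup_right (Subgroup.mem_zpowers _))
  refine (Subgroup.card_le_of_le hle).trans ((card_sup_le hN).trans ?_)
  rw [Nat.card_zpowers, Nat.card_zpowers]
  refine Nat.mul_le_mul (orderOf_le_of_pow_eq_one (by norm_num) (by rw [pow_two]; exact hx)) ?_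
  exact orderOf_le_of_pow_eq_one hn hr

theorem card_three_gen_le {x y w : A} (hw : w * w = 1) (hxw : Commute x w) (hyw : Commute y w) :
    Nat.card ↥(Subgroup.closure ({x, y, w} : Set A)) ≤
      2 * Nat.card ↥(Subgroup.closure ({x, y} : Set A)) := by
  have hN : Subgroup.zpowers w ≤ Subgroup.normalizer (Subgroup.closure ({x, y} : Set A) : Set A) := by
    refine le_trans ?_ (Subgroup.centralizer_le_normalizer _)
    rw [Subgroup.zpowers_le, Subgroup.centralizer_closure, Subgroup.mem_centralizer_iff]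
    rintro a (rfl | rfl)
    exacts [hxw.eq, hyw.eq]
  have hle : Subgroup.closure ({x, y, w} : Set A) ≤
      Subgroup.zpowers w ⊔ Subgroup.closure ({x, y} : Set A) := by
    rw [Subgroup.closure_le]
    rintro a (rfl | rfl | rfl)
    · exact Subgroup.mem_sup_right (Subgroup.subset_closure (by simp))
    · exact Subgroup.mem_sup_right (Subgroup.subset_closure (by simp))
    · exact Subgroup.mem_sup_left (Subgroup.mem_zpowers _)
  refine (Subgroup.card_le_of_le hle).trans ((card_sup_le hN).trans (Nat.mul_le_mul_right _ ?_))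
  rw [Nat.card_zpowers]
  exact orderOf_le_of_pow_eq_one (by norm_num) (by rw [pow_two]; exact hw)

/-- Three involutions generating a group `D₈ × 2` of order 16 are in general position. -/
theorem gen_ne {a b w : A} (ha : a * a = 1) (hb : b * b = 1) (hw : w * w = 1)
    (haw : Commute a w) (hbw : Commute b w) (h4 : (a * b) ^ 4 = 1)
    (h16 : Nat.card ↥(Subgroup.closure ({a, b, w} : Set A)) = 16) :
    a ≠ 1 ∧ b ≠ 1 ∧ w ≠ 1 ∧ a * w ≠ 1 ∧ b * w ≠ 1 ∧ a * b * (a * b) ≠ 1 := by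
  have h8 := card_two_gen_le ha hb (by norm_num) h4
  have h2 : a * b * (a * b) ≠ 1 := fun e => by
    have h := card_two_gen_le ha hb (n := 2) (by norm_num) (by rw [pow_two]; exact e)
    have := card_three_gen_le hw haw hbw
    omega
  have hin : w ∉ Subgroup.closure ({a, b} : Set A) := fun e => by
    have hle : Subgroup.closure ({a, b, w} : Set A) ≤ Subgroup.closure ({a, b} : Set A) := by
      rw [Subgroup.closure_le]
      rintro c (rfl | rfl | rfl)
      · exact Subgroup.subset_closure (by simp)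
      · exact Subgroup.subset_closure (by simp)
      · exact e
    have := Subgroup.card_le_of_le hle
    omega
  have hwi : w⁻¹ = w := inv_eq_of_mul_eq_one_right hw
  refine ⟨fun e => ?_, fun e => ?_, fun e => hin (e ▸ one_mem _), fun e => hin ?_, fun e => hin ?_, h2⟩
  · exact h2 (by rw [e, one_mul, hb])
  · exact h2 (by rw [e, mul_one, ha])
  · have : a = w := (eq_inv_of_mul_eq_one_left e).trans hwi
    rw [← this]
    exact Subgroup.subset_closure (by simp)
  · have : b = w := (eq_inv_of_mul_eq_one_left e).trans hwi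
    rw [← this]
    exact Subgroup.subset_closure (by simp)

end Gen

variable {G : Type*} [Group G] [Finite G] {z p : G}
variable {T₀ Uh U0 : Subgroup AutM22}

/-- Elements of `C(z) ∩ N⟨p⟩`. -/
def nP (z p : G) : Subgroup G := cz z ⊓ Subgroup.normalizer (Subgroup.zpowers p : Set G)

theorem nP_cases (S : Setting z p) {h : G} (hh : h ∈ nP z p) :
    h * p * h⁻¹ = p ∨ h * p * h⁻¹ = p⁻¹ := by
  obtain ⟨i, hi⟩ := (Subgroup.mem_normalizer_iff.mp hh.2 p).mp (Subgroup.mem_zpowers p)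
  have hi' : p ^ i = h * p * h⁻¹ := hi
  rcases S.p_zpow_cases i with e | e | e
  · exfalso
    rw [e] at hi'
    have h1 : orderOf p = 3 := S.ord_p
    rw [conj_eq_one_iff.mp hi'.symm, orderOf_one] at h1
    norm_num at h1
  · exact Or.inl (hi'.symm.trans e)
  · refine Or.inr (hi'.symm.trans (e.trans (eq_inv_of_mul_eq_one_left ?_)))
    rw [← S.p_cube, pow_succ, pow_two]

theorem mem_nP (S : Setting z p) {h : G} (hc : h ∈ cz z)
    (hh : h * p * h⁻¹ = p ∨ h * p * h⁻¹ = p⁻¹) : h ∈ nP z p := by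
  refine ⟨hc, mSt_le_normalizer.mem_normalizer_of_fwd ?_⟩
  rintro _ ⟨i, rfl⟩
  show h * p ^ i * h⁻¹ ∈ Subgroup.zpowers p
  rw [← conj_zpow]
  rcases hh with e | e <;> rw [e]
  · exact Subgroup.zpow_mem _ (Subgroup.mem_zpowers p) i
  · exact Subgroup.zpow_mem _ (inv_mem (Subgroup.mem_zpowers p)) i

theorem kc_le_nP (S : Setting z p) : kc z p ≤ nP z p := fun h hh =>
  mem_nP S hh.1 (Or.inl (by rw [(mem_cz.mp hh.2).eq, mul_inv_cancel_right]))

/-- Inverting elements are outer. -/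
theorem not_inner_of_inv (S : Setting z p) {h : G} (hh : h * p * h⁻¹ = p⁻¹) : h ∉ inner z p := by
  intro hi
  have h1 := hi.2
  rw [hh] at h1
  have hp : p ∈ Q z := by
    have e : p⁻¹ * p⁻¹ = p := by
      rw [← mul_inv_rev]
      exact inv_eq_of_mul_eq_one_left (by rw [← S.p_cube, pow_succ, pow_two, ← mul_assoc])
    exact e ▸ h1
  rcases S.fix p hp (Commute.refl p) with e | e
  · have := S.ord_p; rw [e, orderOf_one] at this; norm_num at this
  · have := S.ord_p; rw [e, S.ord_z] at this; norm_num at this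

theorem nP_outer (S : Setting z p) (F : AutFacts) {h : G} (hh : h ∈ nP z p) (ho : S.img h ∉ inn) :
    h * p * h⁻¹ = p⁻¹ := by
  refine (nP_cases S hh).resolve_left fun e => ho (inn_of_kc S F ⟨hh.1, mem_cz.mpr ?_⟩)
  exact mul_inv_eq_iff_eq_mul.mp e

theorem nP_inner (S : Setting z p) (F : AutFacts) {h : G} (hh : h ∈ nP z p) (hi : S.img h ∈ inn) :
    h ∈ kc z p := by
  refine ⟨hh.1, mem_cz.mpr (mul_inv_eq_iff_eq_mul.mp ((nP_cases S hh).resolve_right fun e => ?_))⟩
  exact not_inner_of_inv S e ((S.img_mem_inn F hh.1).mp hi)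

/-- Every automorphism has a lift normalising `⟨p⟩`. -/
theorem exists_lift_nP (S : Setting z p) (F : AutFacts) (a : AutM22) :
    ∃ h ∈ nP z p, S.img h = a := by
  by_cases ha : a ∈ inn
  · obtain ⟨h, hh, e⟩ := exists_lift S F ha
    exact ⟨h, kc_le_nP S hh, e⟩
  · obtain ⟨m, hmz, hm⟩ := S.moves
    have hmc : m ∈ cz z := mem_cz.mpr hmz
    have hmo : S.img m ∉ inn := fun h => not_inner_of_inv S hm ((S.img_mem_inn F hmc).mp h)
    have hi : (S.img m)⁻¹ * a ∈ inn :=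
      (Subgroup.mul_mem_iff_of_index_two (inn_index F) (a := (S.img m)⁻¹) (b := a)).mpr
        (iff_of_false (fun h => hmo (inv_mem_iff.mp h)) ha)
    obtain ⟨h, hh, e⟩ := exists_lift S F hi
    refine ⟨m * h, mul_mem (mem_nP S hmc (Or.inr hm)) (kc_le_nP S hh), ?_⟩
    rw [S.img_mul hmc hh.1, e, mul_inv_cancel_left]

/-- A kernel element of 2-power order centralising `p`. -/
theorem ker_two (S : Setting z p) {s : G} (hs : s ∈ kc z p) (h1 : S.img s = 1)
    (h2 : ∃ k : ℕ, s ^ 2 ^ k = 1) : s = 1 ∨ s = z := by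
  obtain ⟨k, hk⟩ := h2
  obtain ⟨j, hj⟩ := kc_ker S hs h1
  have key : (p ^ j) ^ 2 ^ (k + 1) = 1 → p ^ j = 1 := fun h => two_three h ⟨_, rfl⟩ S.ord_p rfl
  have hk' : s ^ 2 ^ (k + 1) = 1 := by rw [pow_succ, pow_mul, hk, one_pow]
  rcases hj with e | e
  · exact Or.inl (e.trans (key (e ▸ hk')))
  · refine Or.inr ?_
    rw [e, (S.p_z.symm.zpow_right j).mul_pow, show z ^ 2 ^ (k + 1) = 1 by
      rw [pow_succ, mul_comm, pow_mul, pow_two, S.z_sq, one_pow], one_mul] at hk'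
    rw [e, key hk', mul_one]

/-- Over an outer element of `U(e)` lies an involution of `C(z)`. -/
theorem exists_invol_uE (S : Setting z p) (F : AutFacts) {e q : G} (T : Setting e q) (he : e ∈ Q z)
    (hne : e ≠ z) {s : AutM22} (hs : s ∈ S.imgS (cQ e z)) (ho : s ∉ inn) :
    ∃ u ∈ cz z, u * u = 1 ∧ S.img u = s := by
  obtain ⟨x, hx, rfl⟩ := (S.mem_imgS (inf_le_right : cQ e z ≤ cz z)).mp hs
  have hxe : x ∈ Q e := (mem_cQ.mp hx).1
  have hxc : x ∈ cz z := inf_le_right (a := Q e) hx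
  have hze := S.mem_swap F T he hne
  rcases T.es.sq_cases hxe with h | h
  · exact ⟨x, hxc, h, rfl⟩
  · obtain ⟨d, hd, hdx⟩ : ∃ d ∈ Q e ⊓ Q z, ¬ Commute x d := by
      by_contra hcon
      push Not at hcon
      exact ho (by rw [S.img_Q (T.perp_inter F S hze (Ne.symm hne) hxe hcon).2]; exact one_mem _)
    have hconj : x * d * x⁻¹ = d * e :=
      (T.es.conj x hxe d hd.1).resolve_left fun e' => hdx (mul_inv_eq_iff_eq_mul.mp e')
    refine ⟨x * d, mul_mem hxc (Q_le_cz z hd.2), ?_, ?_⟩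
    · calc x * d * (x * d) = (x * d * x⁻¹) * (x * x) * d := by group
        _ = d * d := by rw [hconj, h, mul_assoc d e e, T.es.sq, mul_one]
        _ = 1 := T.sq_pair S (Ne.symm hne) hd
    · rw [S.img_mul hxc (Q_le_cz z hd.2), S.img_Q hd.2, mul_one]

/-- An outer involution of an elementary abelian group of order 32 lifts to an involution. -/
theorem exists_invol_outer (S : Setting z p) (F : AutFacts)
    (hE : ∃ e ∈ Q z, IsConj z e ∧ e ≠ z) {a : AutM22} (ho : a ∉ inn)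
    {E : Subgroup AutM22} (hE2 : IsExp2 E) (hEc : Nat.card ↥E = 32) (ha : a ∈ E) :
    ∃ u ∈ cz z, u * u = 1 ∧ S.img u = a := by
  obtain ⟨e, he, hze, hne⟩ := hE
  obtain ⟨g, rfl⟩ := isConj_iff.mp hze
  have T := S.conj g
  have hz' := S.mem_swap F T he hne
  obtain ⟨g₁, h₁⟩ := AutTwo.exists_conj_eList E hE2 hEc
  obtain ⟨g₂, h₂⟩ := AutTwo.exists_conj_eList (S.imgS (cQ (g * z * g⁻¹) z))
    (T.img_pair_exp F S hz' (Ne.symm hne)) (T.card_img_pair F S hz' (Ne.symm hne))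
  have hmem : g₁ * a * g₁⁻¹ ∈ ((S.imgS (cQ (g * z * g⁻¹) z)).map
      (MulAut.conj g₂).toMonoidHom : Set AutM22) := by
    rw [h₂, ← h₁]; exact ⟨a, ha, rfl⟩
  obtain ⟨s, hs, hse⟩ := hmem
  have hse' : g₂ * s * g₂⁻¹ = g₁ * a * g₁⁻¹ := hse
  have hso : s ∉ inn := fun h => ho (by
    have := F.inn_normal.conj_mem s h (g₁⁻¹ * g₂)
    rwa [show g₁⁻¹ * g₂ * s * (g₁⁻¹ * g₂)⁻¹ = g₁⁻¹ * (g₂ * s * g₂⁻¹) * g₁ by group, hse',
      show g₁⁻¹ * (g₁ * a * g₁⁻¹) * g₁ = a by group] at this)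
  obtain ⟨u, hu, hu2, hui⟩ := exists_invol_uE S F T he hne hs hso
  obtain ⟨d, hd, hdi⟩ := S.img_surj (g₁⁻¹ * g₂)
  refine ⟨d * u * d⁻¹, mul_mem (mul_mem hd hu) (inv_mem hd), ?_, ?_⟩
  · rw [show d * u * d⁻¹ * (d * u * d⁻¹) = d * (u * u) * d⁻¹ by group, hu2, mul_one, mul_inv_cancel]
  · rw [S.img_mul (mul_mem hd hu) (inv_mem hd), S.img_mul hd hu, S.img_inv hd, hdi, hui,
      show g₁⁻¹ * g₂ * s * (g₁⁻¹ * g₂)⁻¹ = g₁⁻¹ * (g₂ * s * g₂⁻¹) * g₁ by group, hse']
    group

/-- A lift in `N⟨p⟩` of 2-power order over an involution is an involution. -/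
theorem sq_one_of_lift (S : Setting z p) (F : AutFacts) (B : BigConfig T₀ Uh U0)
    (hE : ∃ e ∈ Q z, IsConj z e ∧ e ≠ z) {c : G} (hc : c ∈ nP z p)
    (h2 : ∃ k : ℕ, c ^ 2 ^ k = 1) (h1 : S.img c ≠ 1) (hsq : S.img c * S.img c = 1)
    (hout : S.img c ∉ inn → ∃ E : Subgroup AutM22, IsExp2 E ∧ Nat.card ↥E = 32 ∧ S.img c ∈ E) :
    c * c = 1 := by
  have hcs : c * c ∈ kc z p := by
    refine ⟨mul_mem hc.1 hc.1, mem_cz.mpr (mul_inv_eq_iff_eq_mul.mp ?_)⟩
    rw [show c * c * p * (c * c)⁻¹ = c * (c * p * c⁻¹) * c⁻¹ by group]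
    rcases nP_cases S hc with e | e <;> rw [e]
    · exact e
    · rw [← conj_inv, e, inv_inv]
  obtain ⟨k, hk⟩ := h2
  have hs : c * c = 1 ∨ c * c = z := ker_two S hcs (by rw [S.img_mul hc.1 hc.1, hsq])
    ⟨k, by rw [← pow_two, ← pow_mul, mul_comm, pow_mul, hk, one_pow]⟩
  by_cases hi : S.img c ∈ inn
  · have hck := nP_inner S F hc hi
    obtain ⟨u₀, hu0, hu1⟩ : ∃ u ∈ Uh, u ≠ 1 := by
      by_contra h
      push Not at h
      have := B.card_Uh
      rw [(Subgroup.eq_bot_iff_forall _).mpr h, Subgroup.card_bot] at this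
      norm_num at this
    obtain ⟨d, -, hd⟩ := F.conj_involution u₀ (B.le_Uh hu0).2 _ hi
      (orderOf_eq_prime (by rw [pow_two]; exact B.exp_Uh u₀ hu0) hu1)
      (orderOf_eq_prime (by rw [pow_two]; exact hsq) h1)
    have hU := isExp2_map B.exp_Uh d
    refine fSub_sq S F hU (map_conj_le_inn F (fun a ha => (B.le_Uh ha).2) d)
      (by rw [card_map_conj, B.card_Uh]) ⟨hck, ⟨u₀, hu0, hd⟩, ?_⟩
    rcases hs with e | e <;> rw [e]
    · exact one_mem _
    · exact S.es.mem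
  · obtain ⟨E, hE2, hEc, hcE⟩ := hout hi
    obtain ⟨u, hu, hu2, hui⟩ := exists_invol_outer S F hE hi hE2 hEc hcE
    have hinv := nP_outer S F hc hi
    have huo : u ∉ inner z p := fun h => hi (hui ▸ (S.img_mem_inn F hu).mpr h)
    obtain ⟨q, hq, i, hqi⟩ := (S.img_eq_one (mul_mem (inv_mem hc.1) hu)).mp (by
      rw [S.img_mul (inv_mem hc.1) hu, S.img_inv hc.1, hui, inv_mul_cancel])
    have hpc : p ^ i ∈ cz z := zpow_mem S.p_mem_cz i
    set r := p ^ (-i) * q⁻¹ * p ^ i with hr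
    have hrQ : r ∈ Q z := by
      rw [hr, zpow_neg]
      exact S.conj_mem' hpc (inv_mem hq)
    -- `u r = c p^i`, with the same square as `c`
    have hur : u * r = c * p ^ i := by
      have : u = c * (q * p ^ i) := by rw [← hqi, mul_inv_cancel_left]
      rw [this, hr]
      group
    have hs' : u * r * (u * r) = c * c := by
      have e : c * p ^ i * c⁻¹ = p ^ (-i) := by rw [← conj_zpow, hinv, inv_zpow, zpow_neg]
      rw [hur]
      calc c * p ^ i * (c * p ^ i) = (c * p ^ i * c⁻¹) * (c * c) * p ^ i := by group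
        _ = p ^ (-i) * ((c * c) * p ^ i) := by rw [e, mul_assoc]
        _ = p ^ (-i) * (p ^ i * (c * c)) := by rw [((mem_cz.mp hcs.2).zpow_right i).eq]
        _ = c * c := by rw [← mul_assoc, zpow_neg, inv_mul_cancel, one_mul]
    have hui' : u⁻¹ = u := inv_eq_of_mul_eq_one_right hu2
    have hconj : u * r * u⁻¹ = c * c * r⁻¹ := by
      rw [← hs', hui', eq_mul_inv_iff_mul_eq]
      simp only [mul_assoc]
    have hmod : ModZ z (u * r * u⁻¹) r := by
      rw [hconj]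
      rcases hs with e | e <;> rcases S.es.sq_cases hrQ with e' | e' <;> rw [e]
      · exact Or.inl (by rw [one_mul, inv_eq_of_mul_eq_one_right e'])
      · refine Or.inr ?_
        rw [one_mul]
        exact inv_eq_of_mul_eq_one_right (by rw [← mul_assoc, e', S.z_sq])
      · refine Or.inr ?_
        rw [inv_eq_of_mul_eq_one_right e', S.z_comm hrQ]
      · refine Or.inl ?_
        rw [show r⁻¹ = r * z from inv_eq_of_mul_eq_one_right (by rw [← mul_assoc, e', S.z_sq]),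
          ← mul_assoc, ← S.z_comm hrQ, mul_assoc, S.z_sq, mul_one]
    have hra : r ∈ aSub z u := by
      rw [(S.card_outer hu huo hu2).1]
      exact (S.mem_ySub hu).mpr ⟨hrQ, hmod⟩
    have := S.conj_aSub hu hu2 hra
    rw [hconj] at this
    exact mul_eq_right.mp this

/-- The lift of `⟨a, b, w⟩`: a subgroup of order 16 of `C(z) ∩ N⟨p⟩` meeting the kernel trivially. -/
theorem exists_lift_group (S : Setting z p) (F : AutFacts) (B : BigConfig T₀ Uh U0)
    (hE : ∃ e ∈ Q z, IsConj z e ∧ e ≠ z) {a b w : AutM22} (ha : a * a = 1) (hb : b * b = 1)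
    (hw : w * w = 1) (h4 : (a * b) ^ 4 = 1) (haw : Commute a w) (hbw : Commute b w)
    (h16 : Nat.card ↥(Subgroup.closure ({a, b, w} : Set AutM22)) = 16)
    (hout : ∀ u ∈ Subgroup.closure ({a, b, w} : Set AutM22), u * u = 1 → u ∉ inn →
      ∃ E : Subgroup AutM22, IsExp2 E ∧ Nat.card ↥E = 32 ∧ u ∈ E) :
    ∃ H : Subgroup G, H ≤ nP z p ∧ Nat.card ↥H = 16 ∧
      (∀ h ∈ H, S.img h ∈ Subgroup.closure ({a, b, w} : Set AutM22)) ∧
      ∀ h ∈ H, S.img h = 1 → h = 1 := by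
  haveI := Fact.mk Nat.prime_two
  set T6 := Subgroup.closure ({a, b, w} : Set AutM22) with hT6
  set M : Subgroup G := (T6.comap S.phi).map (cz z).subtype ⊓ nP z p with hM
  have hMmem : ∀ {h}, h ∈ M ↔ h ∈ nP z p ∧ S.img h ∈ T6 := by
    intro h
    constructor
    · rintro ⟨⟨⟨x, hx⟩, hxT, rfl⟩, hn⟩
      exact ⟨hn, by show S.img x ∈ T6; rw [S.img_of_mem hx]; exact hxT⟩
    · rintro ⟨hn, hi⟩
      exact ⟨⟨⟨h, hn.1⟩, by rw [S.img_of_mem hn.1] at hi; exact hi, rfl⟩, hn⟩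
  let ψ : ↥M →* ↥T6 :=
    { toFun := fun h => ⟨S.img h, (hMmem.mp h.2).2⟩
      map_one' := Subtype.ext (S.img_Q (one_mem (Q z)))
      map_mul' := fun g h => Subtype.ext (S.img_mul (hMmem.mp g.2).1.1 (hMmem.mp h.2).1.1) }
  have hψ : Function.Surjective ψ := fun u => by
    obtain ⟨h, hh, e⟩ := exists_lift_nP S F (u : AutM22)
    exact ⟨⟨h, hMmem.mpr ⟨hh, e ▸ u.2⟩⟩, Subtype.ext e⟩
  obtain ⟨P⟩ := (inferInstance : Nonempty (Sylow 2 ↥M))
  have hT2 : IsPGroup 2 ↥(⊤ : Subgroup ↥T6) :=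
    IsPGroup.of_card (n := 4) (by rw [Subgroup.card_top, h16]; norm_num)
  have hPtop : (⊤ : Subgroup ↥T6) = (P : Subgroup ↥M).map ψ :=
    ((P.mapSurjective hψ).is_maximal' hT2 le_top)
  have lift : ∀ u ∈ T6, ∃ h : G, h ∈ nP z p ∧ S.img h = u ∧ (∃ k : ℕ, h ^ 2 ^ k = 1) ∧
      h ∈ (P : Subgroup ↥M).map M.subtype := by
    intro u hu
    obtain ⟨x, hx, hxu⟩ : (⟨u, hu⟩ : ↥T6) ∈ (P : Subgroup ↥M).map ψ := hPtop ▸ Subgroup.mem_top _
    obtain ⟨k, hk⟩ := P.isPGroup' ⟨x, hx⟩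
    refine ⟨x, (hMmem.mp x.2).1, congrArg Subtype.val hxu, ⟨k, ?_⟩, ⟨x, hx, rfl⟩⟩
    simpa using congrArg (fun y : ↥(P : Subgroup ↥M) => ((y : ↥M) : G)) hk
  set P2 := (P : Subgroup ↥M).map M.subtype with hP2
  have two : ∀ h ∈ P2, (∃ k : ℕ, h ^ 2 ^ k = 1) ∧ h ∈ nP z p ∧ S.img h ∈ T6 := by
    rintro _ ⟨x, hx, rfl⟩
    obtain ⟨k, hk⟩ := P.isPGroup' ⟨x, hx⟩
    exact ⟨⟨k, by simpa using congrArg (fun y : ↥(P : Subgroup ↥M) => ((y : ↥M) : G)) hk⟩,
      (hMmem.mp x.2).1, (hMmem.mp x.2).2⟩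
  have sq : ∀ c ∈ P2, S.img c ≠ 1 → S.img c * S.img c = 1 → c * c = 1 := fun c hc h1 h2 => by
    obtain ⟨hk, hn, hT⟩ := two c hc
    exact sq_one_of_lift S F B hE hn hk h1 h2 fun ho => hout _ hT h2 ho
  obtain ⟨na, nb, nw, naw, nbw, nab⟩ := gen_ne ha hb hw haw hbw h4 h16
  obtain ⟨A, hAn, hAi, -, hAP⟩ := lift a (Subgroup.subset_closure (by simp))
  obtain ⟨Bb, hBn, hBi, -, hBP⟩ := lift b (Subgroup.subset_closure (by simp))
  obtain ⟨W, hWn, hWi, -, hWP⟩ := lift w (Subgroup.subset_closure (by simp))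
  have hA2 : A * A = 1 := sq A hAP (hAi ▸ na) (by rw [hAi, ha])
  have hB2 : Bb * Bb = 1 := sq Bb hBP (hBi ▸ nb) (by rw [hBi, hb])
  have hW2 : W * W = 1 := sq W hWP (hWi ▸ nw) (by rw [hWi, hw])
  have comm : ∀ {X : G} {x : AutM22}, X ∈ P2 → X ∈ cz z → S.img X = x → X * X = 1 → x * x = 1 →
      Commute x w → x * w ≠ 1 → Commute X W := by
    intro X x hXP hXc hXi hX2 hx hxw hne
    have h := sq (X * W) (mul_mem hXP hWP) (by rw [S.img_mul hXc hWn.1, hXi, hWi]; exact hne)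
      (by rw [S.img_mul hXc hWn.1, hXi, hWi, hxw.symm.mul_mul_mul_comm, hx, hw, one_mul])
    have := eq_inv_of_mul_eq_one_left h
    rw [mul_inv_rev, inv_eq_of_mul_eq_one_right hX2, inv_eq_of_mul_eq_one_right hW2] at this
    exact this
  have hAW := comm hAP hAn.1 hAi hA2 ha haw naw
  have hBW := comm hBP hBn.1 hBi hB2 hb hbw nbw
  have hAB4 : (A * Bb) ^ 4 = 1 := by
    have hABc : A * Bb ∈ cz z := mul_mem hAn.1 hBn.1
    have h := sq (A * Bb * (A * Bb)) (mul_mem (mul_mem hAP hBP) (mul_mem hAP hBP))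
      (by rw [S.img_mul hABc hABc, S.img_mul hAn.1 hBn.1, hAi, hBi]; exact nab)
      (by rw [S.img_mul hABc hABc, S.img_mul hAn.1 hBn.1, hAi, hBi, ← pow_two, ← pow_two, ← pow_mul]
          exact h4)
    rw [show (A * Bb) ^ 4 = A * Bb * (A * Bb) * (A * Bb * (A * Bb)) by
      simp only [pow_succ, pow_zero, one_mul, mul_assoc]]
    exact h
  set H := Subgroup.closure ({A, Bb, W} : Set G) with hH
  have hHP : H ≤ P2 := by
    rw [hH, Subgroup.closure_le]
    rintro x (rfl | rfl | rfl)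
    exacts [hAP, hBP, hWP]
  have hHc : H ≤ cz z := fun h hh => (two h (hHP hh)).2.1.1
  have h16le : Nat.card ↥H ≤ 16 := by
    have h1 := card_two_gen_le hA2 hB2 (by norm_num) hAB4
    have h2 : Nat.card ↥H ≤ 2 * Nat.card ↥(Subgroup.closure ({A, Bb} : Set G)) :=
      card_three_gen_le hW2 hAW hBW
    omega
  let f : ↥H →* AutM22 :=
    { toFun := fun h => S.img h
      map_one' := S.img_Q (one_mem (Q z))
      map_mul' := fun g h => S.img_mul (hHc g.2) (hHc h.2) }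
  have hr : T6 ≤ f.range := by
    rw [hT6, Subgroup.closure_le]
    rintro u (rfl | rfl | rfl)
    exacts [⟨⟨A, Subgroup.subset_closure (by simp)⟩, hAi⟩,
      ⟨⟨Bb, Subgroup.subset_closure (by simp)⟩, hBi⟩, ⟨⟨W, Subgroup.subset_closure (by simp)⟩, hWi⟩]
  have hk := Subgroup.card_mul_index f.ker
  rw [Subgroup.index_ker] at hk
  have hle := Subgroup.card_le_of_le hr
  rw [h16] at hle
  have hpos : 0 < Nat.card ↥f.ker := Nat.card_pos
  have hk1 : Nat.card ↥f.ker = 1 := by nlinarith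
  refine ⟨H, fun h hh => (two h (hHP hh)).2.1, by rw [hk1] at hk; omega,
    fun h hh => (two h (hHP hh)).2.2, fun h hh h1 => ?_⟩
  have hm : (⟨h, hh⟩ : ↥H) ∈ f.ker := h1
  rw [Subgroup.eq_bot_of_card_eq _ hk1, Subgroup.mem_bot] at hm
  exact congrArg Subtype.val hm

end Cfsg.Agent.Lib.J4Big
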