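import Cfsg.Agent.Lib.J4Big.CentT
import Cfsg.Agent.Lib.J4Big.Split

/-!
# The centraliser of one of the 276 is a split extension of the `2^11` by `Aut M22`

The complement is the intersection with a complement of the `2^11` in its normaliser.
-/

set_option autoImplicit false
set_option linter.unusedSectionVars false

namespace Cfsg.Agent.Lib.J4Big

open Cfsg Cfsg.Agent.Lib.LargeExtraspecial.Basic Cfsg.Agent.Lib.J4Local Cocode

variable {G : Type*} [Group G] [Finite G] {z p : G}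
variable {T₀ Uh U0 : Subgroup AutM22}

/-- The centraliser of an element of the 276 in the split form. -/
theorem split_cent_t (S : Setting z p) (F : AutFacts) (B : NormConfig T₀ Uh U0)
    (Me : MeetConfig Uh U0) (hE : ∃ e ∈ Q z, IsConj z e ∧ e ≠ z) (Sp : SplitConfig Uh U0) {t : G}
    (ht : t ∈ dV S B.toBigConfig) :
    vv S B.toBigConfig ≤ Subgroup.centralizer ({t} : Set G) ∧
    Subgroup.centralizer ({t} : Set G) ≤ Subgroup.normalizer (vv S B.toBigConfig : Set G) ∧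
    ∃ K : Subgroup G, K ≤ Subgroup.centralizer ({t} : Set G) ∧ K ⊓ vv S B.toBigConfig = ⊥ ∧
      K ⊔ vv S B.toBigConfig = Subgroup.centralizer ({t} : Set G) ∧
      Nonempty (↥K ≃* MulAut ↥Cfsg.Spor.M22) := by
  obtain ⟨ψ, H, h1⟩ := exists_frame_vv S F B hE ht
  have hCN := cent_t_le S F B Me hE H h1
  obtain ⟨K₀, hK₀N, hKi, hKs, -, -⟩ := exists_complement_vv S F B Me hE Sp
  set V := vv S B.toBigConfig
  have hVC : V ≤ Subgroup.centralizer ({t} : Set G) := fun v hv =>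
    Subgroup.mem_centralizer_singleton_iff.mpr
      (comm_of_sq (vv_facts S F B.toBigConfig).2.1 hv ht.1)
  have dec : ∀ c ∈ Subgroup.centralizer ({t} : Set G), ∃ k ∈ K₀ ⊓ Subgroup.centralizer ({t} : Set G),
      ∃ v ∈ V, c = k * v := by
    intro c hc
    have hcN := hCN hc
    rw [← hKs, ← SetLike.mem_coe, Subgroup.coe_mul_of_left_le_normalizer_right K₀ V hK₀N] at hcN
    obtain ⟨k, hk, v, hv, rfl⟩ := Set.mem_mul.mp hcN
    have hk' : k ∈ Subgroup.centralizer ({t} : Set G) := by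
      have := mul_mem hc (inv_mem (hVC hv))
      rwa [mul_inv_cancel_right] at this
    exact ⟨k, ⟨hk, hk'⟩, v, hv, rfl⟩
  set K := K₀ ⊓ Subgroup.centralizer ({t} : Set G) with hK
  have hK1 : ∀ x ∈ K, x ∈ V → x = 1 := fun x hx hxV =>
    Subgroup.mem_bot.mp (hKi ▸ (⟨hx.1, hxV⟩ : x ∈ K₀ ⊓ V))
  refine ⟨hVC, hCN, K, inf_le_right, eq_bot_iff.mpr fun x hx => Subgroup.mem_bot.mpr (hK1 x hx.1 hx.2),
    le_antisymm (sup_le inf_le_right hVC) fun c hc => ?_, ?_⟩
  · obtain ⟨k, hk, v, hv, rfl⟩ := dec c hc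
    exact mul_mem (Subgroup.mem_sup_left hk) (Subgroup.mem_sup_right hv)
  have hKle : K ≤ cStab S B.toBigConfig t := fun x hx => ⟨hK₀N hx.1, hx.2⟩
  let φ : ↥K →* AutM22 := (theta S F B.toBigConfig H h1).comp (Subgroup.inclusion hKle)
  refine ⟨MulEquiv.ofBijective φ ⟨(injective_iff_map_eq_one φ).mpr fun x hx => ?_, fun a => ?_⟩⟩
  · exact Subtype.ext (hK1 x x.2 ((theta_ker S F B H h1 _).mp hx))
  · obtain ⟨⟨c, hc⟩, rfl⟩ := theta_surjective S F B hE H h1 a
    obtain ⟨k, hk, v, hv, rfl⟩ := dec c hc.2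
    refine ⟨⟨k, hk⟩, ?_⟩
    have hv' : v ∈ cStab S B.toBigConfig t := vv_le_cStab S F B.toBigConfig ht.1 hv
    rw [show (⟨k * v, hc⟩ : ↥(cStab S B.toBigConfig t)) = ⟨k, hKle hk⟩ * ⟨v, hv'⟩ from rfl,
      map_mul, (theta_ker S F B H h1 ⟨v, hv'⟩).mpr hv, mul_one]
    rfl

end Cfsg.Agent.Lib.J4Big
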