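import Cfsg.Agent.Lib.J4Local.Orders

/-!
# The action on `O₂(C(z))` modulo the centre, as endomorphisms indexed by group elements
-/

set_option autoImplicit false
set_option linter.unusedSectionVars false
set_option linter.unusedVariables false

namespace Cfsg.Agent.Lib.J4Big

open Cfsg.Agent.Lib.LargeExtraspecial.Basic Cfsg.Agent.Lib.J4Local

variable {G : Type*} [Group G]

/-- Conjugation by `g` on `Vec z` (trivial outside `C(z)`). -/
noncomputable def tau (z g : G) : Vec z →* Vec z :=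
  @dite (Vec z →* Vec z) (g ∈ cz z) (Classical.propDecidable _)
    (fun h => MulEquiv.toMonoidHom (M := Vec z) (N := Vec z) (act z ⟨g, h⟩))
    (fun _ => MonoidHom.id (Vec z))

theorem tau_apply {z g : G} (h : g ∈ cz z) (v : Vec z) : tau z g v = act z ⟨g, h⟩ v := by
  rw [tau, dif_pos h]; rfl

theorem tau_mul {z g h : G} (hg : g ∈ cz z) (hh : h ∈ cz z) (v : Vec z) :
    tau z (g * h) v = tau z g (tau z h v) := by
  rw [tau_apply (mul_mem hg hh), tau_apply hg, tau_apply hh,
    show (⟨g * h, mul_mem hg hh⟩ : ↥(cz z)) = ⟨g, hg⟩ * ⟨h, hh⟩ from rfl, map_mul,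
    MulAut.mul_apply]

theorem tau_one {z : G} (v : Vec z) : tau z 1 v = v := by
  rw [tau_apply (one_mem _), show (⟨1, one_mem _⟩ : ↥(cz z)) = 1 from rfl, map_one,
    MulAut.one_apply]

theorem tau_injective {z g : G} (hg : g ∈ cz z) : Function.Injective (tau z g) := fun a b h => by
  rw [tau_apply hg, tau_apply hg] at h
  exact (act z _).injective h

/-- The common fixed vectors of a set of elements. -/
def fixV (z : G) (X : Set G) : Subgroup (Vec z) where
  carrier := {v | ∀ g ∈ X, tau z g v = v}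
  one_mem' := fun g _ => map_one _
  mul_mem' := fun {a b} ha hb g hg => by rw [map_mul, ha g hg, hb g hg]
  inv_mem' := fun {a} ha g hg => by rw [map_inv, ha g hg]

theorem mem_fixV {z : G} {X : Set G} {v : Vec z} : v ∈ fixV z X ↔ ∀ g ∈ X, tau z g v = v := Iff.rfl

/-- The preimage in `O₂` of a set of vectors. -/
def up (z : G) (M : Subgroup (Vec z)) : Subgroup G :=
  (M.comap (QuotientGroup.mk' (Subgroup.center ↥(Q z)))).map (Q z).subtype

theorem mem_up {z x : G} {M : Subgroup (Vec z)} :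
    x ∈ up z M ↔ ∃ hx : x ∈ Q z, mkV z ⟨x, hx⟩ ∈ M := by
  constructor
  · rintro ⟨⟨a, ha⟩, hM, rfl⟩
    exact ⟨ha, hM⟩
  · rintro ⟨hx, hM⟩
    exact ⟨⟨x, hx⟩, hM, rfl⟩

theorem up_le {z : G} (M : Subgroup (Vec z)) : up z M ≤ Q z := fun _ h => (mem_up.mp h).1

/-- The image in `Vec z` of a subgroup. -/
def down (z : G) (X : Subgroup G) : Subgroup (Vec z) :=
  (X.subgroupOf (Q z)).map (QuotientGroup.mk' _)

/-- The orthogonal. -/
def perp (z : G) (M : Subgroup (Vec z)) : Subgroup (Vec z) :=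
  down z (Q z ⊓ Subgroup.centralizer (up z M : Set G))

section
variable [Finite G] {z p : G}

/-- `Vec z` is commutative. -/
@[instance_reducible]
noncomputable def vecCG (S : Setting z p) : CommGroup (Vec z) :=
  { (inferInstance : Group (Vec z)) with mul_comm := S.vec_comm }

theorem z_mem_up (S : Setting z p) (M : Subgroup (Vec z)) : z ∈ up z M := by
  refine mem_up.mpr ⟨S.es.mem, ?_⟩
  have h : mkV z ⟨z, S.es.mem⟩ = 1 := (QuotientGroup.eq_one_iff _).mpr ((S.mem_center _).mpr (Or.inr rfl))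
  rw [h]; exact one_mem M

theorem card_up (S : Setting z p) (M : Subgroup (Vec z)) :
    Nat.card ↥(up z M) = 2 * Nat.card ↥M := by
  have h1 : Nat.card ↥(up z M) =
      Nat.card ↥(M.comap (QuotientGroup.mk' (Subgroup.center ↥(Q z)))) :=
    Subgroup.card_map_of_injective (Subgroup.subtype_injective _)
  set N := M.comap (QuotientGroup.mk' (Subgroup.center ↥(Q z))) with hN
  have h2 := Subgroup.card_mul_index N
  have h3 : N.index = M.index :=
    Subgroup.index_comap_of_surjective M (QuotientGroup.mk'_surjective _)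
  have h4 := Subgroup.card_mul_index M
  rw [S.card_E, h3] at h2
  have hne : M.index ≠ 0 := Subgroup.index_ne_zero_of_finite
  rw [S.card_vec] at h4
  refine h1.trans (Nat.eq_of_mul_eq_mul_right (Nat.pos_of_ne_zero hne) ?_)
  rw [h2, mul_assoc, h4]
  norm_num

theorem up_down (S : Setting z p) {X : Subgroup G} (hX : X ≤ Q z) (hz : z ∈ X) :
    up z (down z X) = X := by
  ext x
  rw [mem_up]
  constructor
  · rintro ⟨hx, ⟨a, ha, he⟩⟩
    rcases (S.mk_eq_iff a ⟨x, hx⟩).mp he with h | h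
    · have h' : (a : G) = x := h
      rw [← h']; exact ha
    · have : x = (a : G) * z := by
        simp only [h, mul_assoc, S.z_sq, mul_one]
      rw [this]
      exact mul_mem ha hz
  · intro h
    exact ⟨hX h, ⟨⟨x, hX h⟩, h, rfl⟩⟩

theorem card_down (S : Setting z p) {X : Subgroup G} (hX : X ≤ Q z) (hz : z ∈ X) :
    2 * Nat.card ↥(down z X) = Nat.card ↥X := by
  rw [← card_up S, up_down S hX hz]

theorem perp_z (S : Setting z p) (M : Subgroup (Vec z)) :
    z ∈ Q z ⊓ Subgroup.centralizer (up z M : Set G) :=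
  ⟨S.es.mem, Subgroup.mem_centralizer_iff.mpr fun x hx => S.z_comm (up_le M hx)⟩

theorem up_perp (S : Setting z p) (M : Subgroup (Vec z)) :
    up z (perp z M) = Q z ⊓ Subgroup.centralizer (up z M : Set G) :=
  up_down S inf_le_left (perp_z S M)

theorem card_perp (S : Setting z p) (M : Subgroup (Vec z)) :
    Nat.card ↥(perp z M) * Nat.card ↥M = 2 ^ 12 := by
  have h := ESCount.card_perp S.es (up_le M) (z_mem_up S M)
  rw [← up_perp S M, card_up S, card_up S, S.card_E] at h
  nlinarith [h]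

theorem mem_perp (S : Setting z p) {M : Subgroup (Vec z)} {e : ↥(Q z)} :
    mkV z e ∈ perp z M ↔ ∀ a ∈ up z M, Commute a (e : G) := by
  have h1 : mkV z e ∈ perp z M ↔ (e : G) ∈ up z (perp z M) :=
    ⟨fun h => mem_up.mpr ⟨e.2, h⟩, fun h => (mem_up.mp h).2⟩
  rw [h1, up_perp S]
  exact ⟨fun h a ha => Subgroup.mem_centralizer_iff.mp h.2 a ha,
    fun h => ⟨e.2, Subgroup.mem_centralizer_iff.mpr fun a ha => h a ha⟩⟩

theorem tau_Q (S : Setting z p) {g : G} (hg : g ∈ Q z) (v : Vec z) : tau z g v = v := by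
  rw [tau_apply (Q_le_cz z hg), S.act_Q ⟨g, Q_le_cz z hg⟩ hg]
  rfl

theorem tau_mk {g : G} (hg : g ∈ cz z) (e : ↥(Q z)) :
    tau z g (mkV z e) = mkV z ⟨g * e * g⁻¹, isQ.normal (mem_cz.mp hg) e.2⟩ := by
  rw [tau_apply hg]; exact act_mk ⟨g, hg⟩ e

theorem mem_ySub_iff (S : Setting z p) {g : G} (hg : g ∈ cz z) (e : ↥(Q z)) :
    (e : G) ∈ ySub z g ↔ tau z g (mkV z e) = mkV z e := by
  rw [tau_mk hg, S.mk_eq_iff, S.mem_ySub hg]
  exact ⟨fun h => h.2, fun h => ⟨e.2, h⟩⟩

theorem mk_comm (S : Setting z p) {g : G} (hg : g ∈ cz z) (e : ↥(Q z)) :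
    mkV z ⟨g * e * g⁻¹ * (e : G)⁻¹, S.comm_mem hg e.2⟩ = tau z g (mkV z e) * mkV z e := by
  rw [tau_mk hg]
  have he : mkV z e = (mkV z e)⁻¹ := (inv_eq_of_mul_eq_one_right (S.vec_sq _)).symm
  conv_rhs => rw [he, ← QuotientGroup.mk_inv, ← QuotientGroup.mk_mul]
  rfl

theorem tau_p_fix (S : Setting z p) (v : Vec z) (h : tau z p v = v) : v = 1 := by
  induction v using QuotientGroup.induction_on with
  | H a =>
    rw [tau_mk S.p_mem_cz, S.mk_eq_iff] at h
    rw [QuotientGroup.eq_one_iff, S.mem_center]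
    exact S.fix_mod a.2 h

theorem tau_p3 (S : Setting z p) (v : Vec z) : tau z p (tau z p (tau z p v)) = v := by
  rw [← tau_mul S.p_mem_cz S.p_mem_cz, ← tau_mul (mul_mem S.p_mem_cz S.p_mem_cz) S.p_mem_cz]
  rw [show p * p * p = 1 by rw [← S.p_cube, pow_succ, sq], tau_one]

theorem tau_p_rel (S : Setting z p) (v : Vec z) :
    v * tau z p v * tau z p (tau z p v) = 1 := by
  let := vecCG S
  refine tau_p_fix S _ ?_
  rw [map_mul, map_mul, tau_p3 S, mul_comm, ← mul_assoc]

theorem tau_inner_comm (S : Setting z p) {g : G} (hg : g ∈ inner z p) (v : Vec z) :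
    tau z g (tau z p v) = tau z p (tau z g v) := by
  have hc := inner_le_cz z p hg
  have e : g * p = (g * p * g⁻¹ * p⁻¹) * (p * g) := by group
  rw [← tau_mul hc S.p_mem_cz, ← tau_mul S.p_mem_cz hc, e,
    tau_mul (Q_le_cz z hg.2) (mul_mem S.p_mem_cz hc), tau_Q S hg.2]

theorem tau_outer_comm (S : Setting z p) {g : G} (hc : g ∈ cz z) (hg : g ∉ inner z p) (v : Vec z) :
    tau z g (tau z p v) = tau z p (tau z p (tau z g v)) := by
  have h := (S.inner_or_inverts hc).resolve_left hg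
  have e : g * p = (g * p * g⁻¹ * p) * (p⁻¹ * g) := by group
  have hpi : p⁻¹ = p * p :=
    inv_eq_of_mul_eq_one_right (by rw [← S.p_cube, pow_succ, sq, mul_assoc])
  rw [← tau_mul hc S.p_mem_cz, e, tau_mul (Q_le_cz z h)
      (mul_mem (inv_mem S.p_mem_cz) hc), tau_Q S h, hpi,
    tau_mul (mul_mem S.p_mem_cz S.p_mem_cz) hc, tau_mul S.p_mem_cz S.p_mem_cz]

theorem mem_Q_of_tau (S : Setting z p) {g : G} (hg : g ∈ cz z) (h : ∀ v, tau z g v = v) :
    g ∈ Q z :=
  S.mem_Q_of_fix_mod hg fun e he => by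
    have := h (mkV z ⟨e, he⟩)
    rwa [tau_mk hg, S.mk_eq_iff] at this

theorem exists_tau_ne (S : Setting z p) {g : G} (hg : g ∈ cz z) (h : g ∉ Q z) :
    ∃ v, tau z g v ≠ v := by
  by_contra hh
  push Not at hh
  exact h (mem_Q_of_tau S hg hh)

/-- An invariant subgroup has invariant orthogonal. -/
theorem perp_invariant (S : Setting z p) {M : Subgroup (Vec z)} {g : G} (hg : g ∈ cz z)
    (hM : ∀ v ∈ M, tau z g v ∈ M) : ∀ v ∈ perp z M, tau z g v ∈ perp z M := by
  have hM' : ∀ v ∈ M, ∃ w ∈ M, tau z g w = v := by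
    intro v hv
    let σ : ↥M → ↥M := fun w => ⟨tau z g w, hM _ w.2⟩
    have hσ : Function.Injective σ := fun a b h =>
      Subtype.ext (tau_injective hg (congrArg Subtype.val h))
    obtain ⟨w, hw⟩ := (Finite.injective_iff_surjective.mp hσ) ⟨v, hv⟩
    exact ⟨w, w.2, congrArg Subtype.val hw⟩
  intro v hv
  induction v using QuotientGroup.induction_on with
  | H e =>
    rw [tau_mk hg]
    refine (mem_perp S).mpr fun a ha => ?_
    obtain ⟨haQ, haM⟩ := mem_up.mp ha
    obtain ⟨w, hw, hwa⟩ := hM' _ haM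
    induction w using QuotientGroup.induction_on with
    | H b =>
      have hc := (mem_perp S).mp hv b (mem_up.mpr ⟨b.2, hw⟩)
      rw [tau_mk hg, S.mk_eq_iff] at hwa
      have hc' : Commute (g * (b : G) * g⁻¹) (g * (e : G) * g⁻¹) := hc.map (MulAut.conj g)
      rcases hwa with h | h
      · have hh : g * (b : G) * g⁻¹ = a := h
        exact hh ▸ hc'
      · have hzc : Commute z (g * (e : G) * g⁻¹) := (S.z_comm (S.conj_mem hg e.2)).symm
        have hh : g * (b : G) * g⁻¹ = a * z := h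
        have := (hh ▸ hc').mul_left hzc
        rwa [mul_assoc, S.z_sq, mul_one] at this

/-- The invariant subgroups are exponent two. -/
theorem vec_inv (S : Setting z p) (v : Vec z) : v⁻¹ = v := inv_eq_of_mul_eq_one_right (S.vec_sq v)

end

end Cfsg.Agent.Lib.J4Big
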